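import Groth.Agent.Etcore.KerTorsion
import Groth.Agent.Etcore.MuGlobal
import Groth.Agent.Dix.KummerLES
import Groth.Agent.Etcore.ZModFree

/-!
# `H^1(X, μ_n)[d] ≅ H^1(X, μ_d)` for an integral scheme over an algebraically closed field
-/

set_option autoImplicit false
universe u

open CategoryTheory CategoryTheory.Limits CategoryTheory.Abelian AlgebraicGeometry Opposite

namespace Groth.Agent.Etcore.MuTorsion

open Groth.Agent.CurvesA.MuConst

variable {X : Scheme.{u}}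

/-- Lifting roots of unity: the map `μ_n(U) → μ_e(U)`, `x ↦ x^d`, is surjective. -/
theorem exists_sect {d e n : ℕ} (h : d * e = n) (U : X.Etale)
    (hroot : ∀ a : (Γ(U.left, ⊤))ˣ, a ^ e = 1 → ∃ b : (Γ(U.left, ⊤))ˣ, b ^ d = a)
    (s : EtCoh.sect (EtCoh.mu X e) U) :
    ∃ t : EtCoh.sect (EtCoh.mu X n) U,
      (KerTorsion.pw (EtCoh.Gm X) h).hom.app (op U) t = s := by
  let a : (Γ(U.left, ⊤))ˣ := unitOf ((EtCoh.muι X e).hom.app (op U) s)
  have ha : a ^ e = 1 := by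
    change unitOf _ ^ e = 1
    rw [← unitOf_nsmul, ← map_nsmul, nsmul_mu, map_zero, unitOf_zero]
  obtain ⟨b, hb⟩ := hroot a ha
  obtain ⟨t, ht⟩ := exists_muι_eq n U (ofUnit b) (by
    apply unitOf_injective
    rw [unitOf_nsmul, unitOf_ofUnit, unitOf_zero, ← h, pow_mul, hb, ha])
  refine ⟨t, ?_⟩
  apply muι_app_injective e U
  have h1 : (sectF U).map (KerTorsion.pw (EtCoh.Gm X) h ≫ EtCoh.muι X e) =
      (sectF U).map (d • EtCoh.muι X n) :=
    congrArg (sectF U).map (KerTorsion.pw_ι (EtCoh.Gm X) h)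
  have h2 : (EtCoh.muι X e).hom.app (op U) ((KerTorsion.pw (EtCoh.Gm X) h).hom.app (op U) t) =
      d • ((EtCoh.muι X n).hom.app (op U) t) := by
    rw [Functor.map_nsmul] at h1
    exact congrArg (fun f => f t) h1
  rw [h2, ht]
  apply unitOf_injective
  rw [unitOf_nsmul, unitOf_ofUnit, hb]

theorem exists_root {K : Type u} [Field K] [IsAlgClosed K] {R : Type u} [CommRing R] [IsDomain R]
    (f : K →+* R) {d e n : ℕ} (h : d * e = n) (hn : (n : K) ≠ 0) (a : Rˣ) (ha : a ^ e = 1) :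
    ∃ b : Rˣ, b ^ d = a := by
  have hd : (d : K) ≠ 0 := by
    rintro h0; apply hn; rw [← h, Nat.cast_mul, h0, zero_mul]
  have he : (e : K) ≠ 0 := by
    rintro h0; apply hn; rw [← h, Nat.cast_mul, h0, mul_zero]
  have hd0 : d ≠ 0 := by rintro rfl; simp at hd
  obtain ⟨⟨z, hz⟩, hza⟩ := (MuGlobal.rootsOfUnity_map_bijective f e he).2 ⟨a, ha⟩
  obtain ⟨y, hy⟩ := IsAlgClosed.exists_pow_nat_eq (z : K) (Nat.pos_of_ne_zero hd0)
  have hy0 : y ≠ 0 := by
    rintro rfl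
    rw [zero_pow hd0] at hy
    exact z.ne_zero hy.symm
  refine ⟨Units.map f.toMonoidHom (Units.mk0 y hy0), ?_⟩
  rw [← map_pow]
  have h1 : (Units.mk0 y hy0) ^ d = z := by
    ext
    rw [Units.val_pow_eq_pow_val, Units.val_mk0, hy]
  rw [h1]
  exact congrArg Subtype.val hza

/-- `x ↦ x^d` as a morphism `μ_n ⟶ μ_e`, `n = d e`. -/
noncomputable def pwMu (X : Scheme.{u}) {d e n : ℕ} (h : d * e = n) :
    EtCoh.mu X n ⟶ EtCoh.mu X e := KerTorsion.pw (EtCoh.Gm X) h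

theorem surjective_H0 {d e n : ℕ} (h : d * e = n)
    (hroot : ∀ a : (Γ((EtCoh.top X).left, ⊤))ˣ, a ^ e = 1 →
      ∃ b : (Γ((EtCoh.top X).left, ⊤))ˣ, b ^ d = a)
    (y : EtCoh.H X (EtCoh.mu X e) 0) : ∃ x : EtCoh.H X (EtCoh.mu X n) 0,
      Sheaf.H.map (pwMu X h) 0 x = y := by
  let hT := Groth.Agent.Etbase.ExactSections.topIsTerminal X
  obtain ⟨t, ht⟩ := exists_sect h (EtCoh.top X) hroot (Sheaf.H.equiv₀ (EtCoh.mu X e) hT y)
  refine ⟨(Sheaf.H.equiv₀ (EtCoh.mu X n) hT).symm t, ?_⟩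
  have ht' : (pwMu X h).hom.app (op (EtCoh.top X)) t = Sheaf.H.equiv₀ (EtCoh.mu X e) hT y := ht
  rw [Sheaf.H.equiv₀_symm_naturality, ht', AddEquiv.symm_apply_apply]

/-- `H^1(X, μ_n)[d]` has as many elements as `H^1(X, μ_d)`. -/
theorem card_torsion {d e n : ℕ} (h : d * e = n) (h' : e * d = n)
    (hd : IsUnit (d : Γ(X, ⊤))) (he : IsUnit (e : Γ(X, ⊤)))
    (h0 : ∀ y : EtCoh.H X (EtCoh.mu X e) 0, ∃ x : EtCoh.H X (EtCoh.mu X n) 0,
      Sheaf.H.map (pwMu X h) 0 x = y)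
    (h0' : ∀ y : EtCoh.H X (EtCoh.mu X d) 0, ∃ x : EtCoh.H X (EtCoh.mu X n) 0,
      Sheaf.H.map (pwMu X h') 0 x = y) :
    Nat.card {x : EtCoh.H X (EtCoh.mu X n) 1 // d • x = 0} =
      Nat.card (EtCoh.H X (EtCoh.mu X d) 1) := by
  have e1 : Epi (d • 𝟙 (EtCoh.Gm X)) := Groth.Agent.S0108.result X d hd
  have e2 : Epi (e • 𝟙 (EtCoh.Gm X)) := Groth.Agent.S0108.result X e he
  exact KerTorsion.card_torsion (EtCoh.Gm X) _ h h' h0 h0'

/-- The case of an integral scheme over an algebraically closed field. -/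
theorem card_torsion_of_isAlgClosed (K : Type u) [Field K] [IsAlgClosed K] [IsIntegral X]
    (f : X ⟶ Spec (CommRingCat.of K)) {d n : ℕ} (h : d ∣ n) (hn : (n : K) ≠ 0) :
    Nat.card {x : EtCoh.H X (EtCoh.mu X n) 1 // d • x = 0} =
      Nat.card (EtCoh.H X (EtCoh.mu X d) 1) := by
  obtain ⟨e, rfl⟩ := h
  let φ : K →+* Γ(X, ⊤) := f.appTop.hom.comp (Scheme.ΓSpecIso (CommRingCat.of K)).inv.hom
  have hd : (d : K) ≠ 0 := by
    rintro h0; apply hn; rw [Nat.cast_mul, h0, zero_mul]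
  have he : (e : K) ≠ 0 := by
    rintro h0; apply hn; rw [Nat.cast_mul, h0, mul_zero]
  have ud : IsUnit (d : Γ(X, ⊤)) := by
    have := (IsUnit.mk0 _ hd).map φ
    rwa [map_natCast] at this
  have ue : IsUnit (e : Γ(X, ⊤)) := by
    have := (IsUnit.mk0 _ he).map φ
    rwa [map_natCast] at this
  exact card_torsion rfl (mul_comm e d) ud ue
    (surjective_H0 rfl (fun a ha => exists_root φ rfl hn a ha))
    (surjective_H0 (mul_comm e d) (fun a ha => exists_root φ (mul_comm e d) hn a ha))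

theorem nsmul_H1_mu (n : ℕ) (x : EtCoh.H X (EtCoh.mu X n) 1) : n • x = 0 :=
  KerTorsion.nsmul_ext_eq_zero (EtCoh.Gm X) _ x

/-- Reduction of the structure of `H^1(X, μ_n)` to counting. -/
theorem nonempty_equiv_of_card (K : Type u) [Field K] [IsAlgClosed K] [IsIntegral X]
    (f : X ⟶ Spec (CommRingCat.of K)) (n m : ℕ) (hn : (n : K) ≠ 0)
    (hcard : ∀ d : ℕ, (d : K) ≠ 0 → Nat.card (EtCoh.H X (EtCoh.mu X d) 1) = d ^ m) :
    Nonempty (EtCoh.H X (EtCoh.mu X n) 1 ≃+ (Fin m → ZMod n)) := by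
  have hn0 : n ≠ 0 := by rintro rfl; simp at hn
  have hfin : Finite (EtCoh.H X (EtCoh.mu X n) 1) := by
    apply Nat.finite_of_card_ne_zero
    rw [hcard n hn]
    exact pow_ne_zero _ hn0
  refine ZModFree.nonempty_equiv_of_card m n hn0 _ ?_ ?_
  · exact nsmul_H1_mu n
  · intro d hd
    rw [card_torsion_of_isAlgClosed K f hd hn]
    apply hcard
    rintro h0
    obtain ⟨e, rfl⟩ := hd
    apply hn
    rw [Nat.cast_mul, h0, zero_mul]

end Groth.Agent.Etcore.MuTorsion
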