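import Groth.Agent.Etcore.HQ
import Groth.Agent.Etcore.DerLES
import Groth.Agent.EtpbcA.StalkTools
import Groth.Agent.EtpbcB.Big

/-!
# Vanishing of higher direct images in terms of classes

`isZero_Rpush_iff`: `R^{n+1} f_* F = 0` iff for every `V` étale over `Y` all classes in
`H^{n+1}(X ×_Y V, F)` die étale locally on `V`.
-/

set_option autoImplicit false
universe u
open CategoryTheory CategoryTheory.Limits AlgebraicGeometry Opposite Abelian
open scoped Groth.Agent.Etcore.EtInst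
open Groth.Agent.Etcore.EtInst

namespace Groth.Agent.Etcore.RpushLoc

open Groth.Agent.Etcore.HQ

variable {X Y : Scheme.{u}} (f : X ⟶ Y)

/-- The projection `X ×_Y V ⟶ X`. -/
noncomputable def pr (V : Y.Etale) : ((EtCoh.bc f).obj V).left ⟶ X := ((EtCoh.bc f).obj V).hom

instance (V : Y.Etale) : Etale (pr f V) := ((EtCoh.bc f).obj V).prop

/-- The morphism `X ×_Y V' ⟶ X ×_Y V`. -/
noncomputable def mm {V V' : Y.Etale} (k : V' ⟶ V) :
    ((EtCoh.bc f).obj V').left ⟶ ((EtCoh.bc f).obj V).left := ((EtCoh.bc f).map k).left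

theorem mm_pr {V V' : Y.Etale} (k : V' ⟶ V) : mm f k ≫ pr f V = pr f V' := EtpbcB.Big.et_w _

/-- All classes on the `X ×_Y V` die locally on `V`. -/
def LocZero (F : EtCoh.Ab X) (n : ℕ) : Prop :=
  ∀ (V : Y.Etale) (ξ : HQ F (pr f V) n) (v : V.left),
    ∃ (V' : Y.Etale) (k : V' ⟶ V) (v' : V'.left), k.left v' = v ∧ res F (mm f k) (mm_pr f k) n ξ = 0

/-- The short exact sequence `0 ⟶ F ⟶ I ⟶ I/F ⟶ 0`. -/
noncomputable def injSeq (F : EtCoh.Ab X) : ShortComplex (EtCoh.Ab X) :=
  ShortComplex.mk (Injective.ι F) (cokernel.π (Injective.ι F)) (cokernel.condition _)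

theorem injSeq_shortExact (F : EtCoh.Ab X) : (injSeq F).ShortExact :=
  { exact := ShortComplex.exact_of_g_is_cokernel _ (cokernelIsCokernel _)
    mono_f := inferInstanceAs (Mono (Injective.ι F))
    epi_g := inferInstanceAs (Epi (cokernel.π (Injective.ι F))) }

instance (F : EtCoh.Ab X) : Injective (injSeq F).X₂ := inferInstanceAs (Injective (Injective.under F))

/-- The class of a section of `F` over `X ×_Y V`. -/
noncomputable def secP (F : EtCoh.Ab X) (V : Y.Etale) (s : EtCoh.sect F ((EtCoh.bc f).obj V)) :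
    HQ F (pr f V) 0 :=
  sec F (pr f V) (𝟙 _) (Category.id_comp _) s

theorem secP_bijective (F : EtCoh.Ab X) (V : Y.Etale) : Function.Bijective (secP f F V) :=
  sec_bijective F ((EtCoh.bc f).obj V)

theorem res_secP (F : EtCoh.Ab X) {V V' : Y.Etale} (k : V' ⟶ V)
    (s : EtCoh.sect F ((EtCoh.bc f).obj V)) :
    res F (mm f k) (mm_pr f k) 0 (secP f F V s) =
      secP f F V' (F.obj.map ((EtCoh.bc f).map k).op s) :=
  (res_sec F (mm f k) (mm_pr f k) (𝟙 _) (Category.id_comp _) (mm f k) (mm_pr f k)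
    (Category.comp_id _) s).trans
    (sec_res F (pr f V') (𝟙 _) (Category.id_comp _) ((EtCoh.bc f).map k) (mm f k) (mm_pr f k)
      (Category.id_comp _) s).symm

theorem map_secP {F G : EtCoh.Ab X} (φ : F ⟶ G) (V : Y.Etale)
    (s : EtCoh.sect F ((EtCoh.bc f).obj V)) :
    map φ (pr f V) 0 (secP f F V s) = secP f G V (φ.hom.app (op ((EtCoh.bc f).obj V)) s) :=
  map_sec φ (pr f V) (𝟙 _) (Category.id_comp _) s

variable {S : ShortComplex (EtCoh.Ab X)} (hS : S.ShortExact)

include hS in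
theorem locZero_one (hI : ∀ (V : Y.Etale) (x : HQ S.X₂ (pr f V) 1), x = 0)
    (h : Epi ((EtCoh.push f).map S.g)) : LocZero f S.X₁ 1 := by
  intro V ξ v
  obtain ⟨η, hη⟩ := exists_δ_eq hS (pr f V) 0 ξ (hI V _)
  obtain ⟨s, rfl⟩ := (secP_bijective f S.X₃ V).2 η
  obtain ⟨V', k, v', hv', t, ht⟩ :=
    (EtpbcA.StalkTools.epi_iff_locIm ((EtCoh.push f).map S.g)).1 h V s v
  refine ⟨V', k, v', hv', ?_⟩
  rw [← hη, res_δ, res_secP]
  have e : secP f S.X₃ V' (S.X₃.obj.map ((EtCoh.bc f).map k).op s) =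
      map S.g (pr f V') 0 (secP f S.X₂ V' t) := by
    rw [map_secP]
    exact congrArg (secP f S.X₃ V') ht.symm
  rw [e, δ_map]

include hS in
theorem epi_of_locZero_one (h : LocZero f S.X₁ 1) : Epi ((EtCoh.push f).map S.g) := by
  rw [EtpbcA.StalkTools.epi_iff_locIm]
  intro V s v
  obtain ⟨V', k, v', hv', h0⟩ := h V (δ hS (pr f V) 0 (secP f S.X₃ V s)) v
  rw [res_δ, res_secP] at h0
  obtain ⟨y, hy⟩ := exists_map_eq hS (pr f V') 0 _ h0
  obtain ⟨t, rfl⟩ := (secP_bijective f S.X₂ V').2 y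
  rw [map_secP] at hy
  exact ⟨V', k, v', hv', t, (secP_bijective f S.X₃ V').1 hy⟩

include hS in
theorem locZero_succ (n : ℕ) (hI : ∀ (V : Y.Etale) (x : HQ S.X₂ (pr f V) (n + 1)), x = 0)
    (h : LocZero f S.X₃ n) : LocZero f S.X₁ (n + 1) := by
  intro V ξ v
  obtain ⟨η, hη⟩ := exists_δ_eq hS (pr f V) n ξ (hI V _)
  obtain ⟨V', k, v', hv', h0⟩ := h V η v
  refine ⟨V', k, v', hv', ?_⟩
  rw [← hη, res_δ, h0, map_zero]

include hS in
theorem locZero_of_succ (n : ℕ) (hI : ∀ (V : Y.Etale) (x : HQ S.X₂ (pr f V) n), x = 0)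
    (h : LocZero f S.X₁ (n + 1)) : LocZero f S.X₃ n := by
  intro V η v
  obtain ⟨V', k, v', hv', h0⟩ := h V (δ hS (pr f V) n η) v
  rw [res_δ] at h0
  obtain ⟨y, hy⟩ := exists_map_eq hS (pr f V') n _ h0
  refine ⟨V', k, v', hv', ?_⟩
  rw [← hy, hI V' y, map_zero]

/-- **Vanishing of higher direct images, elementwise.** -/
theorem isZero_Rpush_iff (F : EtCoh.Ab X) (n : ℕ) :
    IsZero ((EtCoh.Rpush f (n + 1)).obj F) ↔ LocZero f F (n + 1) := by
  induction n generalizing F with
  | zero =>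
    constructor
    · intro h
      exact locZero_one f (injSeq_shortExact F) (fun V x => eq_zero_of_injective _ _ 0 x)
        (DerLES.epi_map_g (EtCoh.push f) (injSeq_shortExact F) h)
    · intro h
      have := epi_of_locZero_one f (injSeq_shortExact F) h
      obtain ⟨e⟩ := DerLES.nonempty_iso_one_of_injective (EtCoh.push f) (injSeq_shortExact F)
      exact (isZero_cokernel_of_epi _).of_iso e
  | succ n ih =>
    obtain ⟨e⟩ := DerLES.nonempty_iso_succ (EtCoh.push f) (injSeq_shortExact F)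
      (DerLES.acyc_of_injective _ _) n
    constructor
    · intro h
      exact locZero_succ f (injSeq_shortExact F) (n + 1) (fun V x => eq_zero_of_injective _ _ _ x)
        ((ih _).1 (h.of_iso e.symm))
    · intro h
      exact ((ih _).2 (locZero_of_succ f (injSeq_shortExact F) (n + 1)
        (fun V x => eq_zero_of_injective _ _ _ x) h)).of_iso e

end Groth.Agent.Etcore.RpushLoc
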