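import Mathlib.AlgebraicGeometry.Morphisms.Affine
import Mathlib.AlgebraicGeometry.Morphisms.QuasiSeparated
import Mathlib.AlgebraicGeometry.PullbackCarrier
import Mathlib.CategoryTheory.Filtered.Basic

/-!
# Base change of a cofiltered limit of schemes

`T : K ⥤ Scheme` a cofiltered system over `S` (structure maps `τ`), `f : X ⟶ S`.  The fibre products
`pullback f (τ a)` form an inverse system `sys T τ hτ f`; if `c` is a limit cone of `T` then
`cone T τ hτ f c t ht` is a limit cone of the fibre products.
-/

set_option autoImplicit false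
open CategoryTheory CategoryTheory.Limits AlgebraicGeometry Opposite
universe u

namespace Groth.Agent.Etcore.PullbackSys

variable {K : Type u} [Category.{u} K] (T : K ⥤ Scheme.{u}) {S X : Scheme.{u}}
  (τ : ∀ a : K, T.obj a ⟶ S) (hτ : ∀ ⦃a b : K⦄ (h : a ⟶ b), T.map h ≫ τ b = τ a) (f : X ⟶ S)

/-- The transition maps of the system of fibre products. -/
noncomputable def mapp {a b : K} (h : a ⟶ b) : pullback f (τ a) ⟶ pullback f (τ b) :=
  pullback.lift (pullback.fst f (τ a)) (pullback.snd f (τ a) ≫ T.map h)
    (by rw [Category.assoc, hτ h]; exact pullback.condition)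

@[reassoc (attr := simp)]
theorem mapp_fst {a b : K} (h : a ⟶ b) :
    mapp T τ hτ f h ≫ pullback.fst f (τ b) = pullback.fst f (τ a) := pullback.lift_fst _ _ _

@[reassoc (attr := simp)]
theorem mapp_snd {a b : K} (h : a ⟶ b) :
    mapp T τ hτ f h ≫ pullback.snd f (τ b) = pullback.snd f (τ a) ≫ T.map h := pullback.lift_snd _ _ _

/-- The inverse system of fibre products. -/
noncomputable def sys : K ⥤ Scheme.{u} where
  obj a := pullback f (τ a)
  map h := mapp T τ hτ f h
  map_id a := by
    apply pullback.hom_ext
    · rw [mapp_fst, Category.id_comp]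
    · rw [mapp_snd, Category.id_comp, T.map_id, Category.comp_id]
  map_comp h h' := by
    apply pullback.hom_ext
    · rw [mapp_fst, Category.assoc, mapp_fst, mapp_fst]
    · rw [mapp_snd, Category.assoc, mapp_snd, mapp_snd_assoc, T.map_comp]

@[simp] theorem sys_obj (a : K) : (sys T τ hτ f).obj a = pullback f (τ a) := rfl

@[simp] theorem sys_map {a b : K} (h : a ⟶ b) : (sys T τ hτ f).map h = mapp T τ hτ f h := rfl

/-- The transition maps are base changes of those of `T`. -/
theorem isPullback_mapp {a b : K} (h : a ⟶ b) :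
    IsPullback (mapp T τ hτ f h) (pullback.snd f (τ a)) (pullback.snd f (τ b)) (T.map h) := by
  refine IsPullback.of_right (h₁₂ := pullback.fst f (τ b)) (v₁₃ := f) (h₂₂ := τ b) ?_
    (mapp_snd T τ hτ f h) (IsPullback.of_hasPullback f (τ b))
  rw [mapp_fst, hτ h]
  exact (IsPullback.of_hasPullback f (τ a))

variable (c : Cone T) (t : c.pt ⟶ S) (ht : ∀ a, c.π.app a ≫ τ a = t)

/-- The projections of the limit. -/
noncomputable def proj (a : K) : pullback f t ⟶ pullback f (τ a) :=
  pullback.lift (pullback.fst f t) (pullback.snd f t ≫ c.π.app a)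
    (by rw [Category.assoc, ht a]; exact pullback.condition)

@[reassoc (attr := simp)]
theorem proj_fst (a : K) : proj T τ f c t ht a ≫ pullback.fst f (τ a) = pullback.fst f t :=
  pullback.lift_fst _ _ _

@[reassoc (attr := simp)]
theorem proj_snd (a : K) : proj T τ f c t ht a ≫ pullback.snd f (τ a) = pullback.snd f t ≫ c.π.app a :=
  pullback.lift_snd _ _ _

theorem isPullback_proj (a : K) :
    IsPullback (proj T τ f c t ht a) (pullback.snd f t) (pullback.snd f (τ a)) (c.π.app a) := by
  refine IsPullback.of_right (h₁₂ := pullback.fst f (τ a)) (v₁₃ := f) (h₂₂ := τ a) ?_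
    (proj_snd T τ f c t ht a) (IsPullback.of_hasPullback f (τ a))
  rw [proj_fst, ht a]
  exact (IsPullback.of_hasPullback f t)

@[reassoc (attr := simp)]
theorem proj_mapp {a b : K} (h : a ⟶ b) :
    proj T τ f c t ht a ≫ mapp T τ hτ f h = proj T τ f c t ht b := by
  apply pullback.hom_ext
  · rw [proj_fst, Category.assoc, mapp_fst, proj_fst]
  · rw [proj_snd, Category.assoc, mapp_snd, proj_snd_assoc, c.w h]

/-- The cone of fibre products. -/
noncomputable def cone : Cone (sys T τ hτ f) where
  pt := pullback f t
  π :=
    { app := fun a => proj T τ f c t ht a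
      naturality := fun _ _ h =>
        (Category.id_comp _).trans (proj_mapp T τ hτ f c t ht h).symm }

@[simp] theorem cone_pt : (cone T τ hτ f c t ht).pt = pullback f t := rfl

@[simp] theorem cone_π_app (a : K) : (cone T τ hτ f c t ht).π.app a = proj T τ f c t ht a := rfl

/-- The legs of a cone over the fibre products, with the unfolded target. -/
noncomputable def leg (s : Cone (sys T τ hτ f)) (a : K) : s.pt ⟶ pullback f (τ a) := s.π.app a

theorem leg_w (s : Cone (sys T τ hτ f)) {a b : K} (h : a ⟶ b) :
    leg T τ hτ f s a ≫ mapp T τ hτ f h = leg T τ hτ f s b := s.w h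

section

/-- The underlying compatible family of maps to `X`. -/
theorem fst_eq [IsCofiltered K] (s : Cone (sys T τ hτ f)) (a b : K) :
    leg T τ hτ f s a ≫ pullback.fst f (τ a) = leg T τ hτ f s b ≫ pullback.fst f (τ b) := by
  have e : ∀ {k a : K} (h : k ⟶ a),
      leg T τ hτ f s k ≫ pullback.fst f (τ k) = leg T τ hτ f s a ≫ pullback.fst f (τ a) := by
    intro k a h
    rw [← mapp_fst T τ hτ f h, ← Category.assoc, leg_w]
  exact (e (IsCofiltered.minToLeft a b)).symm.trans (e (IsCofiltered.minToRight a b))

/-- The cone over `T` attached to a cone over the fibre products. -/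
noncomputable def baseCone (s : Cone (sys T τ hτ f)) : Cone T where
  pt := s.pt
  π :=
    { app := fun a => leg T τ hτ f s a ≫ pullback.snd f (τ a)
      naturality := fun a b h => by
        dsimp only [Functor.const_obj_obj, Functor.const_obj_map]
        rw [Category.id_comp, Category.assoc, ← mapp_snd T τ hτ f h, ← Category.assoc, leg_w] }

theorem baseCone_π (s : Cone (sys T τ hτ f)) (a : K) :
    (baseCone T τ hτ f s).π.app a = leg T τ hτ f s a ≫ pullback.snd f (τ a) := rfl

/-- The lift to a limit of `T`. -/
noncomputable def baseLift {c : Cone T} (hc : IsLimit c) (s : Cone (sys T τ hτ f)) : s.pt ⟶ c.pt :=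
  hc.lift (baseCone T τ hτ f s)

theorem baseLift_fac {c : Cone T} (hc : IsLimit c) (s : Cone (sys T τ hτ f)) (a : K) :
    baseLift T τ hτ f hc s ≫ c.π.app a = leg T τ hτ f s a ≫ pullback.snd f (τ a) :=
  hc.fac _ _

include ht in
theorem lift_cond (hc : IsLimit c) (s : Cone (sys T τ hτ f)) (a : K) :
    (leg T τ hτ f s a ≫ pullback.fst f (τ a)) ≫ f = baseLift T τ hτ f hc s ≫ t := by
  rw [← ht a, ← Category.assoc (baseLift T τ hτ f hc s), baseLift_fac, Category.assoc,
      pullback.condition, Category.assoc]

/-- Base change of a limit cone (cofiltered index category) is a limit cone. -/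
noncomputable def isLimitCone [IsCofiltered K] (hc : IsLimit c) : IsLimit (cone T τ hτ f c t ht) :=
  let i₀ : K := (IsCofiltered.nonempty (C := K)).some
  { lift := fun s => pullback.lift (leg T τ hτ f s i₀ ≫ pullback.fst f (τ i₀))
      (baseLift T τ hτ f hc s) (lift_cond T τ hτ f c t ht hc s i₀)
    fac := fun s a => by
      change pullback.lift (leg T τ hτ f s i₀ ≫ pullback.fst f (τ i₀))
        (baseLift T τ hτ f hc s) (lift_cond T τ hτ f c t ht hc s i₀) ≫ proj T τ f c t ht a =
          leg T τ hτ f s a
      apply pullback.hom_ext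
      · rw [Category.assoc, proj_fst, pullback.lift_fst]
        exact fst_eq T τ hτ f s i₀ a
      · rw [Category.assoc, proj_snd, pullback.lift_snd_assoc, baseLift_fac]
    uniq := fun s (m : s.pt ⟶ pullback f t) hm => by
      have hm' : ∀ a, m ≫ proj T τ f c t ht a = leg T τ hτ f s a := hm
      apply pullback.hom_ext
      · rw [pullback.lift_fst, ← proj_fst T τ f c t ht i₀, ← Category.assoc, hm']
      · rw [pullback.lift_snd]
        apply hc.hom_ext
        intro a
        rw [baseLift_fac, Category.assoc, ← proj_snd T τ f c t ht a, ← Category.assoc, hm'] }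

end

theorem isAffineHom_mapp (haff : ∀ ⦃a b : K⦄ (h : a ⟶ b), IsAffineHom (T.map h)) {a b : K}
    (h : a ⟶ b) : IsAffineHom ((sys T τ hτ f).map h) :=
  MorphismProperty.of_isPullback (P := @IsAffineHom) (isPullback_mapp T τ hτ f h).flip (haff h)

theorem compactSpace_obj [QuasiCompact f] (a : K) [CompactSpace (T.obj a)] :
    CompactSpace ((sys T τ hτ f).obj a) := by
  change CompactSpace ↥(pullback f (τ a))
  exact QuasiCompact.compactSpace_of_compactSpace (pullback.snd f (τ a))

theorem quasiSeparatedSpace_obj [QuasiSeparated f] (a : K) [QuasiSeparatedSpace (T.obj a)] :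
    QuasiSeparatedSpace ((sys T τ hτ f).obj a) := by
  change QuasiSeparatedSpace ↥(pullback f (τ a))
  exact quasiSeparatedSpace_of_quasiSeparated (pullback.snd f (τ a))

end Groth.Agent.Etcore.PullbackSys
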