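import Groth.Agent.EtpbcB.BCCrit
import Groth.Agent.EtpbcB.LimSec
import Groth.Agent.Etcore.EtaleDescend
import Groth.Agent.Etcore.PullbackSys

/-!
# Degree zero base change and limits

`isIso_baseChange0_of_limit`: if the canonical base change map in degree zero is an isomorphism for all stages
`D i ⟶ Y` of a cofiltered system with affine transition maps, then it is an isomorphism for the limit.

Main tool: `SurjAt`, `InjAt`, the surjectivity and injectivity part of the base change isomorphism in the language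
of local families, for an arbitrary morphism `z : Z ⟶ Y`.
-/

set_option autoImplicit false
set_option backward.isDefEq.respectTransparency.types false
universe u
open CategoryTheory CategoryTheory.Limits AlgebraicGeometry Opposite

namespace Groth.Agent.Etcore.LimBC0

open Groth.Agent.EtpbcB.Big Groth.Agent.EtpbcB.BCCrit

section Basic

variable {X Y : Scheme.{u}} (f : X ⟶ Y)

/-- The morphism `X ×_Y Z ⟶ X ×_Y V`. -/
noncomputable def mB {Z : Scheme.{u}} {z : Z ⟶ Y} {V : Y.Etale} (b : Z ⟶ V.left) (hb : b ≫ V.hom = z) :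
    pullback f z ⟶ ((EtCoh.bc f).obj V).left :=
  pullback.lift (pullback.snd f z ≫ b) (pullback.fst f z)
    (by rw [Category.assoc, hb, pullback.condition])

@[reassoc (attr := simp)]
theorem mB_fst {Z : Scheme.{u}} {z : Z ⟶ Y} {V : Y.Etale} (b : Z ⟶ V.left) (hb : b ≫ V.hom = z) :
    mB f b hb ≫ bcFst f V = pullback.snd f z ≫ b := pullback.lift_fst _ _ _

@[reassoc (attr := simp)]
theorem mB_hom {Z : Scheme.{u}} {z : Z ⟶ Y} {V : Y.Etale} (b : Z ⟶ V.left) (hb : b ≫ V.hom = z) :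
    mB f b hb ≫ ((EtCoh.bc f).obj V).hom = pullback.fst f z := pullback.lift_snd _ _ _

/-- The morphism `X ×_Y W ⟶ X ×_Y Z`. -/
noncomputable def mZ {Z W : Scheme.{u}} {z : Z ⟶ Y} (a : W ⟶ Z) {w : W ⟶ Y} (h : a ≫ z = w) :
    pullback f w ⟶ pullback f z :=
  pullback.lift (pullback.fst f w) (pullback.snd f w ≫ a)
    (by rw [Category.assoc, h, pullback.condition])

@[reassoc (attr := simp)]
theorem mZ_fst {Z W : Scheme.{u}} {z : Z ⟶ Y} (a : W ⟶ Z) {w : W ⟶ Y} (h : a ≫ z = w) :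
    mZ f a h ≫ pullback.fst f z = pullback.fst f w := pullback.lift_fst _ _ _

@[reassoc (attr := simp)]
theorem mZ_snd {Z W : Scheme.{u}} {z : Z ⟶ Y} (a : W ⟶ Z) {w : W ⟶ Y} (h : a ≫ z = w) :
    mZ f a h ≫ pullback.snd f z = pullback.snd f w ≫ a := pullback.lift_snd _ _ _

theorem mZ_mZ {Z W T : Scheme.{u}} {z : Z ⟶ Y} (a : W ⟶ Z) {w : W ⟶ Y} (h : a ≫ z = w)
    (a' : T ⟶ W) {t : T ⟶ Y} (h' : a' ≫ w = t) (a'' : T ⟶ Z) (h'' : a'' ≫ z = t) (e : a' ≫ a = a'') :
    mZ f a' h' ≫ mZ f a h = mZ f a'' h'' := by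
  apply pullback.hom_ext
  · simp
  · simp [← e]

theorem mZ_mB {Z W : Scheme.{u}} {z : Z ⟶ Y} (a : W ⟶ Z) {w : W ⟶ Y} (h : a ≫ z = w)
    {V : Y.Etale} (b : Z ⟶ V.left) (hb : b ≫ V.hom = z) (b' : W ⟶ V.left) (hb' : b' ≫ V.hom = w)
    (e : a ≫ b = b') : mZ f a h ≫ mB f b hb = mB f b' hb' := by
  apply hom_ext_bc
  · simp [← e]
  · simp

theorem mB_map {Z : Scheme.{u}} {z : Z ⟶ Y} {V V' : Y.Etale} (c : V' ⟶ V) (b' : Z ⟶ V'.left)
    (hb' : b' ≫ V'.hom = z) (b : Z ⟶ V.left) (hb : b ≫ V.hom = z) (e : b' ≫ c.left = b) :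
    mB f b' hb' ≫ ((EtCoh.bc f).map c).left = mB f b hb := by
  apply hom_ext_bc
  · simp [← e]
  · simp

variable (F : EtCoh.Ab X)

/-- Surjectivity part of base change along `z : Z ⟶ Y`. -/
def SurjAt {Z : Scheme.{u}} (z : Z ⟶ Y) : Prop :=
  ∀ (v : Fam F (pullback.fst f z)), IsLoc v → ∀ x : Z, ∃ (W : Scheme.{u}) (a : W ⟶ Z) (_ : Etale a) (y : W)
    (w : W ⟶ Y) (h : a ≫ z = w) (V : Y.Etale) (b : W ⟶ V.left) (hb : b ≫ V.hom = w)
    (σ : EtCoh.sect F ((EtCoh.bc f).obj V)),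
    a y = x ∧ v.res (mZ f a h) (mZ_fst _ _ _) = (fam σ).res (mB f b hb) (mB_hom _ _ _)

/-- Injectivity part of base change along `z : Z ⟶ Y`. -/
def InjAt {Z : Scheme.{u}} (z : Z ⟶ Y) : Prop :=
  ∀ (V : Y.Etale) (b : Z ⟶ V.left) (hb : b ≫ V.hom = z) (σ : EtCoh.sect F ((EtCoh.bc f).obj V)),
    (fam σ).res (mB f b hb) (mB_hom _ _ _) =
      (fam (0 : EtCoh.sect F ((EtCoh.bc f).obj V))).res (mB f b hb) (mB_hom _ _ _) →
    ∀ x : Z, ∃ (W : Scheme.{u}) (a : W ⟶ Z) (_ : Etale a) (y : W) (V' : Y.Etale) (c : V' ⟶ V)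
      (b' : W ⟶ V'.left), a y = x ∧ b' ≫ c.left = a ≫ b ∧ F.obj.map ((EtCoh.bc f).map c).op σ = 0

variable {f F}

/-- `SurjAt` is étale local on the source. -/
theorem SurjAt.of_local {Z : Scheme.{u}} {z : Z ⟶ Y}
    (H : ∀ x : Z, ∃ (W : Scheme.{u}) (a : W ⟶ Z) (_ : Etale a) (y : W) (w : W ⟶ Y) (_ : a ≫ z = w),
      a y = x ∧ SurjAt f F w) :
    SurjAt f F z := by
  intro v hv x
  obtain ⟨W, a, ha, y, w, hw, hy, hW⟩ := H x
  obtain ⟨W', a', ha', y', w', hw', V, b, hb, σ, hy', h⟩ :=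
    hW (v.res (mZ f a hw) (mZ_fst _ _ _)) (hv.res _ _) y
  refine ⟨W', a' ≫ a, inferInstance, y', w', by rw [Category.assoc, hw, hw'], V, b, hb, σ, ?_, ?_⟩
  · rw [Scheme.Hom.comp_apply, hy', hy]
  · rw [← h, Fam.res_res]
    exact v.res_congr _ (mZ_mZ f a hw a' hw' _ _ rfl).symm

/-- `InjAt` is étale local on the source. -/
theorem InjAt.of_local {Z : Scheme.{u}} {z : Z ⟶ Y}
    (H : ∀ x : Z, ∃ (W : Scheme.{u}) (a : W ⟶ Z) (_ : Etale a) (y : W) (w : W ⟶ Y) (_ : a ≫ z = w),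
      a y = x ∧ InjAt f F w) :
    InjAt f F z := by
  intro V b hb σ h x
  obtain ⟨W, a, ha, y, w, hw, hy, hW⟩ := H x
  have e : (a ≫ b) ≫ V.hom = w := by rw [Category.assoc, hb, hw]
  have h' : (fam σ).res (mB f (a ≫ b) e) (mB_hom _ _ _) =
      (fam (0 : EtCoh.sect F ((EtCoh.bc f).obj V))).res (mB f (a ≫ b) e) (mB_hom _ _ _) := by
    have e1 := mZ_mB f a hw b hb (a ≫ b) e rfl
    have h2 := congrArg (fun v => Fam.res v (mZ f a hw) (mZ_fst f a hw)) h
    simp only [Fam.res_res] at h2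
    rw [Fam.res_congr _ _ e1, Fam.res_congr _ _ e1] at h2
    exact h2
  obtain ⟨W', a', ha', y', V', c, b', hy', hc, hσ⟩ := hW V (a ≫ b) e σ h' y
  refine ⟨W', a' ≫ a, inferInstance, y', V', c, b', ?_, ?_, hσ⟩
  · rw [Scheme.Hom.comp_apply, hy', hy]
  · rw [hc, Category.assoc]

end Basic

section Iso

variable {X Y X' Y' : Scheme.{u}} {f : X ⟶ Y} {g : Y' ⟶ Y} {f' : X' ⟶ Y'} {g' : X' ⟶ X}
  (hsq : IsPullback g' f' f g) {F : EtCoh.Ab X}

include hsq in
theorem isPullback_U (U : Y'.Etale) (u : U.left ⟶ Y) (hu : U.hom ≫ g = u) :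
    IsPullback (((EtCoh.bc f').obj U).hom ≫ g') (bcFst f' U) f u := by
  subst hu
  exact (IsPullback.paste_vert (isPullback_bc f' U) hsq.flip).flip

/-- The comparison `X ×_Y U ≅ X' ×_{Y'} U`. -/
noncomputable def eU (U : Y'.Etale) (u : U.left ⟶ Y) (hu : U.hom ≫ g = u) :
    pullback f u ≅ ((EtCoh.bc f').obj U).left :=
  (IsPullback.of_hasPullback f u).isoIsPullback _ _ (isPullback_U hsq U u hu)

@[reassoc (attr := simp)]
theorem eU_hom_fst (U : Y'.Etale) (u : U.left ⟶ Y) (hu : U.hom ≫ g = u) :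
    (eU hsq U u hu).hom ≫ ((EtCoh.bc f').obj U).hom ≫ g' = pullback.fst f u :=
  IsPullback.isoIsPullback_hom_fst _ _ _ _

@[reassoc (attr := simp)]
theorem eU_hom_snd (U : Y'.Etale) (u : U.left ⟶ Y) (hu : U.hom ≫ g = u) :
    (eU hsq U u hu).hom ≫ bcFst f' U = pullback.snd f u :=
  IsPullback.isoIsPullback_hom_snd _ _ _ _

@[reassoc (attr := simp)]
theorem eU_inv_fst (U : Y'.Etale) (u : U.left ⟶ Y) (hu : U.hom ≫ g = u) :
    (eU hsq U u hu).inv ≫ pullback.fst f u = ((EtCoh.bc f').obj U).hom ≫ g' := by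
  rw [Iso.inv_comp_eq, eU_hom_fst]

@[reassoc (attr := simp)]
theorem eU_inv_snd (U : Y'.Etale) (u : U.left ⟶ Y) (hu : U.hom ≫ g = u) :
    (eU hsq U u hu).inv ≫ pullback.snd f u = bcFst f' U := by
  rw [Iso.inv_comp_eq, eU_hom_snd]

theorem eU_kap {V : Y.Etale} {U : Y'.Etale} (b : U ⟶ (EtCoh.bc g).obj V) (u : U.left ⟶ Y)
    (hu : U.hom ≫ g = u) (β : U.left ⟶ V.left) (hβ : b.left ≫ bcFst g V = β) (hβ' : β ≫ V.hom = u) :
    (eU hsq U u hu).hom ≫ kap f g f' g' hsq.w b = mB f β hβ' := by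
  apply hom_ext_bc
  · rw [Category.assoc, kap_fst, eU_hom_snd_assoc, hβ, mB_fst]
  · rw [Category.assoc, kap_hom, eU_hom_fst, mB_hom]

theorem kap_eq {V : Y.Etale} {U : Y'.Etale} (b : U ⟶ (EtCoh.bc g).obj V) (u : U.left ⟶ Y)
    (hu : U.hom ≫ g = u) (β : U.left ⟶ V.left) (hβ : b.left ≫ bcFst g V = β) (hβ' : β ≫ V.hom = u) :
    kap f g f' g' hsq.w b = (eU hsq U u hu).inv ≫ mB f β hβ' := by
  rw [← eU_kap hsq b u hu β hβ hβ', Iso.inv_hom_id_assoc]

theorem eU_bc {U W : Y'.Etale} (a : W ⟶ U) (u : U.left ⟶ Y) (hu : U.hom ≫ g = u) (w : W.left ⟶ Y)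
    (hw : W.hom ≫ g = w) (h : a.left ≫ u = w) :
    (eU hsq W w hw).hom ≫ ((EtCoh.bc f').map a).left = mZ f a.left h ≫ (eU hsq U u hu).hom := by
  rw [← cancel_mono (eU hsq U u hu).inv]
  apply pullback.hom_ext
  · simp
  · simp

/-- The base change map is an isomorphism if it is surjective and injective in the sense of `SurjAt`, `InjAt`
for all étale `Y'`-schemes. -/
theorem isIso_of_at (H : ∀ (U : Y'.Etale) (u : U.left ⟶ Y), U.hom ≫ g = u → SurjAt f F u ∧ InjAt f F u) :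
    IsIso (EtCoh.baseChange0 f g f' g' hsq.w F) := by
  apply isIso_baseChange0_of_fam
  · intro V σ U b h y
    obtain ⟨β, hβ⟩ : ∃ β : U.left ⟶ V.left, b.left ≫ bcFst g V = β := ⟨_, rfl⟩
    have hβ' : β ≫ V.hom = U.hom ≫ g := by
      rw [← hβ, Category.assoc, bc_condition, ← Category.assoc, et_w]
    have h' : (fam σ).res (mB f β hβ') (mB_hom _ _ _) =
        (fam (0 : EtCoh.sect F ((EtCoh.bc f).obj V))).res (mB f β hβ') (mB_hom _ _ _) := by
      have e := eU_kap hsq b _ rfl β hβ hβ'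
      have h2 := congrArg (fun v => Fam.res v (eU hsq U _ rfl).hom (eU_hom_fst hsq U _ rfl)) h
      simp only [Fam.res_res] at h2
      rw [Fam.res_congr _ _ e, Fam.res_congr _ _ e] at h2
      exact h2
    obtain ⟨W, a, ha, y', V', c, b', hy', hc, hσ⟩ := (H U _ rfl).2 V β hβ' σ h' y
    have hb' : b' ≫ V'.hom = (a ≫ U.hom) ≫ g := by
      rw [← et_w c, ← Category.assoc, hc, Category.assoc, hβ', Category.assoc]
    let U' : Y'.Etale := Scheme.Etale.mk (a ≫ U.hom)
    let β' : U'.left ⟶ ((EtCoh.bc g).obj V').left := pullback.lift b' (a ≫ U.hom) hb'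
    have h1 : β' ≫ bcFst g V' = b' := pullback.lift_fst _ _ _
    have h2 : β' ≫ ((EtCoh.bc g).obj V').hom = U'.hom := pullback.lift_snd _ _ _
    refine ⟨V', c, U', etHom a rfl, etHom β' h2, y', hy', ?_, hσ⟩
    apply et_hom_ext
    have e1 : β' ≫ ((EtCoh.bc g).map c).left ≫ bcFst g V = a ≫ β := by
      rw [bc_map_fst]
      exact (Category.assoc _ _ _).symm.trans ((congrArg (· ≫ c.left) h1).trans hc)
    have e2 : β' ≫ ((EtCoh.bc g).map c).left ≫ ((EtCoh.bc g).obj V).hom = a ≫ U.hom := by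
      rw [bc_map_hom]
      exact h2
    refine hom_ext_bc (U := V) (m := a ≫ b.left) (n := β' ≫ ((EtCoh.bc g).map c).left) g ?_ ?_
    · rw [Category.assoc, hβ]
      exact e1.symm.trans (Category.assoc _ _ _).symm
    · rw [Category.assoc, et_w]
      exact e2.symm.trans (Category.assoc _ _ _).symm
  · intro U v hv y
    obtain ⟨W, a, ha, y', w, hw, V, b, hb, σ, hy', h⟩ :=
      (H U _ rfl).1 (v.res (eU hsq U _ rfl).hom (eU_hom_fst hsq U _ rfl)) (hv.res _ _) y
    let U' : Y'.Etale := Scheme.Etale.mk (a ≫ U.hom)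
    have hU'w : U'.hom ≫ g = w := by rw [← hw]; exact Category.assoc _ _ _
    have hb' : b ≫ V.hom = (a ≫ U.hom) ≫ g := by rw [hb, ← hw, Category.assoc]
    let β' : U'.left ⟶ ((EtCoh.bc g).obj V).left := pullback.lift b (a ≫ U.hom) hb'
    have h1 : β' ≫ bcFst g V = b := pullback.lift_fst _ _ _
    have h2 : β' ≫ ((EtCoh.bc g).obj V).hom = U'.hom := pullback.lift_snd _ _ _
    let A : U' ⟶ U := etHom a rfl
    let B : U' ⟶ (EtCoh.bc g).obj V := etHom β' h2
    refine ⟨V, U', A, B, σ, y', hy', ?_⟩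
    have e1 := kap_eq hsq B w hU'w b h1 hb
    have e2 : ((EtCoh.bc f').map A).left =
        (eU hsq U' w hU'w).inv ≫ mZ f a hw ≫ (eU hsq U _ rfl).hom := by
      rw [Iso.eq_inv_comp]
      exact eU_bc hsq A _ rfl w hU'w hw
    have h3 := congrArg (fun v => Fam.res v (eU hsq U' w hU'w).inv (eU_inv_fst hsq U' w hU'w)) h
    simp only [Fam.res_res] at h3
    rw [Fam.res_congr _ _ e2, Fam.res_congr _ _ e1]
    refine Eq.trans ?_ h3
    exact (Fam.res_res _ _ _ _ _).symm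

/-- If a unit section dies on `U` then `U` factors locally through étale schemes on which the section dies. -/
theorem exists_of_unit_eq_zero (g : Y' ⟶ Y) (G : EtCoh.Ab Y) {V : Y.Etale} {U : Y'.Etale}
    (b : U ⟶ (EtCoh.bc g).obj V) (σ : EtCoh.sect G V)
    (h : ((EtCoh.pull g).obj G).obj.map b.op (unitSec g G V σ) = 0) (x : U.left) :
    ∃ (W : Scheme.{u}) (a : W ⟶ U.left) (_ : Etale a) (y : W) (V' : Y.Etale) (c : V' ⟶ V)
      (b' : W ⟶ V'.left), a y = x ∧ b' ≫ c.left = a ≫ b.left ≫ bcFst g V ∧ G.obj.map c.op σ = 0 := by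
  obtain ⟨Ω, _, _, l, hl⟩ := exists_geomPoint U.left x
  have h1 : val g G (((EtCoh.pull g).obj G).obj.map b.op (unitSec g G V σ)) =
      val g G (((EtCoh.pull g).obj G).obj.map b.op (unitSec g G V 0)) := by
    congr 1
    rw [h, map_zero]
    exact (map_zero (((EtCoh.pull g).obj G).obj.map b.op).hom).symm
  rw [val_res, val_res, val_unit, val_unit] at h1
  have h2 := Fam.congr_fun h1 l (ξ := l ≫ U.hom ≫ g) rfl
  have h3 : germ G (U := V) (ξ := l ≫ U.hom ≫ g) ((l ≫ b.left) ≫ bcFst g V)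
      (by rw [Category.assoc, bc_condition, Category.assoc, ← Category.assoc b.left, et_w]) σ =
      germ G (U := V) ((l ≫ b.left) ≫ bcFst g V)
      (by rw [Category.assoc, bc_condition, Category.assoc, ← Category.assoc b.left, et_w]) 0 := h2
  rw [germ_eq_iff] at h3
  obtain ⟨V', c, m, hm, hc⟩ := h3
  have : Etale c.left := inferInstance
  let W := pullback (b.left ≫ bcFst g V) c.left
  let p : Spec (.of Ω) ⟶ W := pullback.lift l m (by rw [hm, Category.assoc])
  refine ⟨W, pullback.fst _ _, inferInstance, p default, V', c, pullback.snd _ _, ?_, ?_, ?_⟩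
  · rw [← Scheme.Hom.comp_apply, pullback.lift_fst, hl]
  · rw [← pullback.condition]
  · rw [hc, map_zero]

/-- The converse of `isIso_of_at`. -/
theorem at_of_isIso (H : IsIso (EtCoh.baseChange0 f g f' g' hsq.w F)) (U : Y'.Etale) (u : U.left ⟶ Y)
    (hu : U.hom ≫ g = u) : SurjAt f F u ∧ InjAt f F u := by
  constructor
  · intro v hv x
    obtain ⟨t, ht⟩ := exists_of_isLoc g' F (U := (EtCoh.bc f').obj U)
      (v.res (eU hsq U u hu).inv (eU_inv_fst hsq U u hu)) (hv.res _ _)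
    have hbij := (inferInstance : IsIso ((EtCoh.baseChange0 f g f' g' hsq.w F).hom.app (op U)))
    obtain ⟨s, hs⟩ := ((ConcreteCategory.isIso_iff_bijective _).1 hbij).2 t
    obtain ⟨V, σ, W, a, b, w', hw', hab⟩ := exists_locally_unit g ((EtCoh.push f).obj F) U s x
    have h0 := baseChange0_unit' f g f' g' hsq.w F V σ W b
    have h2 := ConcreteCategory.congr_hom
      ((EtCoh.baseChange0 f g f' g' hsq.w F).hom.naturality a.op) s
    have h3 : (EtCoh.baseChange0 f g f' g' hsq.w F).hom.app (op W)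
        (((EtCoh.pull g).obj ((EtCoh.push f).obj F)).obj.map a.op s) =
        ((EtCoh.pull g').obj F).obj.map ((EtCoh.bc f').map a).op t := by
      refine h2.trans ?_
      change ((EtCoh.push f').obj ((EtCoh.pull g').obj F)).obj.map a.op
        ((EtCoh.baseChange0 f g f' g' hsq.w F).hom.app (op U) s) = _
      rw [hs]
      rfl
    have h4 : ((EtCoh.pull g').obj F).obj.map ((EtCoh.bc f').map a).op t =
        ((EtCoh.pull g').obj F).obj.map ((EtCoh.bc f').map b ≫ (theta f g f' g' hsq.w V).hom).op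
          (unitSec g' F ((EtCoh.bc f).obj V) σ) := by
      rw [← h3, ← h0]
      exact congrArg _ hab
    have h5 := congrArg (val g' F) h4
    rw [val_res, val_kap, ht, Fam.res_res] at h5
    obtain ⟨w, hw⟩ : ∃ w : W.left ⟶ Y, W.hom ≫ g = w := ⟨_, rfl⟩
    have haw : a.left ≫ u = w := by rw [← hw, ← hu, ← Category.assoc, et_w]
    obtain ⟨β, hβ⟩ : ∃ β : W.left ⟶ V.left, b.left ≫ bcFst g V = β := ⟨_, rfl⟩
    have hβ' : β ≫ V.hom = w := by
      rw [← hβ, Category.assoc, bc_condition, ← Category.assoc, et_w, hw]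
    refine ⟨W.left, a.left, inferInstance, w', w, haw, V, β, hβ', σ, hw', ?_⟩
    have h6 := congrArg (fun v => Fam.res v (eU hsq W w hw).hom (eU_hom_fst hsq W w hw)) h5
    simp only [Fam.res_res] at h6
    have e1 : (eU hsq W w hw).hom ≫ ((EtCoh.bc f').map a).left ≫ (eU hsq U u hu).inv =
        mZ f a.left haw := by
      rw [← Category.assoc, eU_bc hsq a u hu w hw haw, Category.assoc, Iso.hom_inv_id, Category.comp_id]
    rw [Fam.res_congr _ _ e1, Fam.res_congr _ _ (eU_kap hsq b w hw β hβ hβ')] at h6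
    exact h6
  · intro V β hβ' σ h x
    have hβ'' : β ≫ V.hom = U.hom ≫ g := by rw [hβ', hu]
    let b₀ : U.left ⟶ ((EtCoh.bc g).obj V).left := pullback.lift β U.hom hβ''
    have hb₀ : b₀ ≫ bcFst g V = β := pullback.lift_fst _ _ _
    let b : U ⟶ (EtCoh.bc g).obj V := etHom b₀ (pullback.lift_snd _ _ _)
    have e1 := kap_eq hsq b u hu β hb₀ hβ'
    have h1 := congrArg (fun v => Fam.res v (eU hsq U u hu).inv (eU_inv_fst hsq U u hu)) h
    simp only [Fam.res_res] at h1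
    rw [← Fam.res_congr _ (kap_hom f g f' g' hsq.w b) e1,
      ← Fam.res_congr _ (kap_hom f g f' g' hsq.w b) e1, ← val_kap, ← val_kap] at h1
    have h2 := val_ext g' F h1
    rw [map_zero] at h2
    have h3 : ((EtCoh.pull g').obj F).obj.map
      ((EtCoh.bc f').map b ≫ (theta f g f' g' hsq.w V).hom).op
        (unitSec g' F ((EtCoh.bc f).obj V) σ) = 0 := h2.trans (map_zero _)
    rw [← baseChange0_unit'] at h3
    have hbij := (inferInstance : IsIso ((EtCoh.baseChange0 f g f' g' hsq.w F).hom.app (op U)))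
    have hinj := ((ConcreteCategory.isIso_iff_bijective _).1 hbij).1
    have h4 : ((EtCoh.pull g).obj ((EtCoh.push f).obj F)).obj.map b.op
        (unitSec g ((EtCoh.push f).obj F) V σ) = 0 := hinj (h3.trans (map_zero _).symm)
    obtain ⟨W, a, ha, y, V', c, b', hy, hc, hσ⟩ :=
      exists_of_unit_eq_zero g ((EtCoh.push f).obj F) b σ h4 x
    refine ⟨W, a, ha, y, V', c, b', hy, ?_, hσ⟩
    rw [hc]
    exact congrArg (a ≫ ·) hb₀

end Iso

section Limit

variable {K : Type u} [SmallCategory K] [IsCofiltered K] {T : K ⥤ Scheme.{u}}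
  [∀ {a b : K} (φ : a ⟶ b), IsAffineHom (T.map φ)] [∀ a, CompactSpace (T.obj a)]
  [∀ a, QuasiSeparatedSpace (T.obj a)] {c : Cone T} (hc : IsLimit c)
  {X Y : Scheme.{u}} {f : X ⟶ Y} [QuasiCompact f] [QuasiSeparated f] {F : EtCoh.Ab X}
  (τ : ∀ a, T.obj a ⟶ Y) (hτ : ∀ ⦃a b : K⦄ (h : a ⟶ b), T.map h ≫ τ b = τ a)
  {t : c.pt ⟶ Y} (ht : ∀ a, c.π.app a ≫ τ a = t)

omit [IsCofiltered K] [∀ {a b : K} (φ : a ⟶ b), IsAffineHom (T.map φ)] [∀ a, CompactSpace (T.obj a)]
  [∀ a, QuasiSeparatedSpace (T.obj a)] [QuasiCompact f] [QuasiSeparated f] in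
theorem proj_eq_mZ (a : K) : PullbackSys.proj T τ f c t ht a = mZ f (c.π.app a) (ht a) := rfl

include hc hτ ht in
theorem surjAt_limit (H : ∀ a, SurjAt f F (τ a)) : SurjAt f F t := by
  intro v hv x
  have i1 : ∀ {a b : K} (φ : a ⟶ b), IsAffineHom ((PullbackSys.sys T τ hτ f).map φ) := fun φ =>
    PullbackSys.isAffineHom_mapp T τ hτ f (fun _ _ _ => inferInstance) φ
  have i2 : ∀ a, CompactSpace ((PullbackSys.sys T τ hτ f).obj a) :=
    fun a => PullbackSys.compactSpace_obj T τ hτ f a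
  have i3 : ∀ a, QuasiSeparatedSpace ((PullbackSys.sys T τ hτ f).obj a) :=
    fun a => PullbackSys.quasiSeparatedSpace_obj T τ hτ f a
  obtain ⟨j, v', hv', hvv'⟩ := Groth.Agent.EtpbcB.LimSec.exists_ext (F := F)
    (PullbackSys.cone T τ hτ f c t ht) (PullbackSys.isLimitCone T τ hτ f c t ht hc)
    (X := X)
    { app := fun a => pullback.fst f (τ a)
      naturality := fun a b φ => by
        exact (PullbackSys.mapp_fst T τ hτ f φ).trans (Category.comp_id _).symm }
    (q := pullback.fst f t)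
    (fun a => PullbackSys.proj_fst T τ f c t ht a) hv
  obtain ⟨W, a, ha, y, w, hw, V, b, hb, σ, hy, h⟩ := H j v' hv' (c.π.app j x)
  obtain ⟨p, hp1, hp2⟩ := Scheme.Pullback.exists_preimage_pullback (f := a) (g := c.π.app j) y x hy
  have h1 : pullback.snd a (c.π.app j) ≫ t = pullback.fst a (c.π.app j) ≫ w := by
    rw [← ht j, ← hw, ← Category.assoc, ← pullback.condition, Category.assoc]
  refine ⟨pullback a (c.π.app j), pullback.snd _ _, inferInstance, p, _, h1, V,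
    pullback.fst _ _ ≫ b, by rw [Category.assoc, hb], σ, hp2, ?_⟩
  have hvv'' : v'.res (mZ f (c.π.app j) (ht j)) (mZ_fst _ _ _) = v := hvv'
  have h2 := congrArg (fun v => Fam.res v (mZ f (pullback.fst a (c.π.app j)) rfl) (mZ_fst _ _ _)) h
  simp only [Fam.res_res] at h2
  rw [← hvv'', Fam.res_res]
  rw [Fam.res_congr _ _ (mZ_mB f _ rfl b hb (pullback.fst _ _ ≫ b) (by rw [Category.assoc, hb]) rfl)] at h2
  rw [← h2]
  refine v'.res_congr _ ?_
  exact (mZ_mZ f (c.π.app j) (ht j) _ h1 (pullback.snd _ _ ≫ c.π.app j)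
    (by rw [Category.assoc, ht j, h1]) rfl).trans
    (mZ_mZ f a hw _ rfl (pullback.snd _ _ ≫ c.π.app j) (by rw [Category.assoc, ht j, h1])
      pullback.condition).symm

omit [QuasiSeparated f] in
include hc hτ ht in
theorem injAt_limit (H : ∀ a, InjAt f F (τ a)) : InjAt f F t := by
  intro V b hb σ h x
  have i1 : ∀ {a b : K} (φ : a ⟶ b), IsAffineHom ((PullbackSys.sys T τ hτ f).map φ) := fun φ =>
    PullbackSys.isAffineHom_mapp T τ hτ f (fun _ _ _ => inferInstance) φ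
  have i2 : ∀ a, CompactSpace ((PullbackSys.sys T τ hτ f).obj a) :=
    fun a => PullbackSys.compactSpace_obj T τ hτ f a
  obtain ⟨i, g, hg, hg'⟩ := Scheme.exists_π_app_comp_eq_of_locallyOfFinitePresentation T
    ({ app := τ, naturality := fun a b φ => (hτ φ).trans (Category.comp_id _).symm } :
      T ⟶ (Functor.const K).obj Y) V.hom c hc b (by
      ext a : 2
      change c.π.app a ≫ τ a = b ≫ V.hom
      rw [ht, hb])
  replace hg' : g ≫ V.hom = τ i := hg'
  have h1 : ((fam σ).res (mB f g hg') (mB_hom _ _ _)).res (mZ f (c.π.app i) (ht i)) (mZ_fst _ _ _) =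
      ((fam (0 : EtCoh.sect F ((EtCoh.bc f).obj V))).res (mB f g hg') (mB_hom _ _ _)).res
        (mZ f (c.π.app i) (ht i)) (mZ_fst _ _ _) := by
    rw [Fam.res_res, Fam.res_res, Fam.res_congr _ _ (mZ_mB f _ (ht i) g hg' b hb hg),
      Fam.res_congr _ _ (mZ_mB f _ (ht i) g hg' b hb hg)]
    exact h
  obtain ⟨j, φ, hφ⟩ := Groth.Agent.EtpbcB.LimSec.exists_agree (F := F)
    (PullbackSys.cone T τ hτ f c t ht) (PullbackSys.isLimitCone T τ hτ f c t ht hc)
    (i := i) (q := pullback.fst f (τ i))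
    ((isLoc_fam σ).res (mB f g hg') (mB_hom _ _ _))
    ((isLoc_fam (0 : EtCoh.sect F ((EtCoh.bc f).obj V))).res (mB f g hg') (mB_hom _ _ _)) (by
      ext Ω _ _ l ξ hl
      exact Fam.congr_fun h1 l (by rw [← hl]; exact congrArg (l ≫ ·) (mZ_fst f _ (ht i)).symm))
  have hb' : (T.map φ ≫ g) ≫ V.hom = τ j := by rw [Category.assoc, hg', hτ]
  have h2 : ((fam σ).res (mB f g hg') (mB_hom _ _ _)).res (mZ f (T.map φ) (hτ φ)) (mZ_fst _ _ _) =
      ((fam (0 : EtCoh.sect F ((EtCoh.bc f).obj V))).res (mB f g hg') (mB_hom _ _ _)).res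
        (mZ f (T.map φ) (hτ φ)) (mZ_fst _ _ _) := by
    ext Ω _ _ l ξ hl
    exact Fam.congr_fun hφ l (by rw [← hl]; exact congrArg (l ≫ ·) (mZ_fst f _ (hτ φ)))
  rw [Fam.res_res, Fam.res_res, Fam.res_congr _ _ (mZ_mB f (T.map φ) (hτ φ) g hg' _ hb' rfl),
      Fam.res_congr _ _ (mZ_mB f (T.map φ) (hτ φ) g hg' _ hb' rfl)] at h2
  obtain ⟨W, a, ha, y, V', c', b', hy, hc', hσ⟩ := H j V (T.map φ ≫ g) hb' σ h2 (c.π.app j x)
  obtain ⟨p, hp1, hp2⟩ := Scheme.Pullback.exists_preimage_pullback (f := a) (g := c.π.app j) y x hy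
  refine ⟨pullback a (c.π.app j), pullback.snd _ _, inferInstance, p, V', c',
    pullback.fst _ _ ≫ b', hp2, ?_, hσ⟩
  rw [Category.assoc, hc', ← Category.assoc, pullback.condition, Category.assoc, ← hg, ← c.w φ]
  simp only [Category.assoc]

end Limit

section Main

open Groth.Agent.Ega43.LimDesc

variable {I : Type u} [SmallCategory I] [IsCofiltered I] {D : I ⥤ Scheme.{u}}
  [∀ {a b : I} (φ : a ⟶ b), IsAffineHom (D.map φ)] {c : Cone D} (hc : IsLimit c)
  {X Y : Scheme.{u}} {f : X ⟶ Y} [QuasiCompact f] [QuasiSeparated f] {F : EtCoh.Ab X}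
  (τ : ∀ a, D.obj a ⟶ Y) (hτ : ∀ ⦃a b : I⦄ (h : a ⟶ b), D.map h ≫ τ b = τ a)
  {t : c.pt ⟶ Y} (ht : ∀ a, c.π.app a ≫ τ a = t)

include hc hτ ht in
/-- If the degree zero base change map is an isomorphism for all stages of a cofiltered system of `Y`-schemes with
affine transition maps, then all étale schemes over the limit satisfy `SurjAt` and `InjAt`. -/
theorem at_of_limit
    (H : ∀ a, IsIso (EtCoh.baseChange0 f (τ a) (pullback.snd f (τ a)) (pullback.fst f (τ a))
      pullback.condition F)) {U : Scheme.{u}} (g : U ⟶ c.pt) [Etale g] (u : U ⟶ Y) (hu : g ≫ t = u) :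
    SurjAt f F u ∧ InjAt f F u := by
  have key : ∀ x : U, ∃ (W : Scheme.{u}) (a : W ⟶ U) (_ : Etale a) (y : W) (w : W ⟶ Y) (_ : a ≫ u = w),
      a y = x ∧ SurjAt f F w ∧ InjAt f F w := by
    intro x
    obtain ⟨i, W, w, hw, hW, k, hk, z, hkw, hz⟩ :=
      Groth.Agent.Etcore.EtaleDescend.exists_etale_nhd_isOpenImmersion D c hc g x
    let σ : (bcCone D c w).pt ≅ pullback w (c.π.app i) := pullbackSymmetry (c.π.app i) w
    have hσ : σ.hom ≫ pullback.snd w (c.π.app i) = bcPtFst D c w := pullbackSymmetry_hom_comp_snd _ _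
    have ha : ∀ φ : Over i, SurjAt f F (bcFst D w φ ≫ τ φ.left) ∧ InjAt f F (bcFst D w φ ≫ τ φ.left) := by
      intro φ
      have het : Etale (bcFst D w φ) := inferInstanceAs (Etale (pullback.fst (D.map φ.hom) w))
      exact at_of_isIso (IsPullback.of_hasPullback f (τ φ.left)) (H φ.left)
        (Scheme.Etale.mk (bcFst D w φ)) _ rfl
    have hτ' : ∀ ⦃a b : Over i⦄ (h : a ⟶ b), (bc D w).map h ≫ bcFst D w b ≫ τ b.left =
        bcFst D w a ≫ τ a.left := by
      intro a b h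
      rw [← Category.assoc, Ega43.LimDesc.bc_map_fst, Category.assoc, hτ]
    have ht' : ∀ a : Over i, (bcCone D c w).π.app a ≫ bcFst D w a ≫ τ a.left = bcPtFst D c w ≫ t := by
      intro a
      rw [← Category.assoc, bcCone_π_fst, Category.assoc, ht]
    refine ⟨(bcCone D c w).pt, σ.hom ≫ k, inferInstance, σ.inv z,
      bcPtFst D c w ≫ t, ?_, ?_, ?_, ?_⟩
    · rw [← hu, Category.assoc, ← Category.assoc k, hkw, ← Category.assoc, hσ]
    · rw [← Scheme.Hom.comp_apply, Iso.inv_hom_id_assoc, hz]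
    · exact surjAt_limit (T := bc D w) (bcIsLimit D c w hc) (fun φ => bcFst D w φ ≫ τ φ.left) hτ' ht'
        (fun φ => (ha φ).1)
    · exact injAt_limit (T := bc D w) (bcIsLimit D c w hc) (fun φ => bcFst D w φ ≫ τ φ.left) hτ' ht'
        (fun φ => (ha φ).2)
  constructor
  · apply SurjAt.of_local
    intro x
    obtain ⟨W, a, ha, y, w, hw, hy, h1, h2⟩ := key x
    exact ⟨W, a, ha, y, w, hw, hy, h1⟩
  · apply InjAt.of_local
    intro x
    obtain ⟨W, a, ha, y, w, hw, hy, h1, h2⟩ := key x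
    exact ⟨W, a, ha, y, w, hw, hy, h2⟩

include hc hτ ht in
/-- If the degree zero base change map is an isomorphism for all stages of a cofiltered system of `Y`-schemes with
affine transition maps, then it is an isomorphism for the limit. -/
theorem isIso_baseChange0_of_limit
    (H : ∀ a, IsIso (EtCoh.baseChange0 f (τ a) (pullback.snd f (τ a)) (pullback.fst f (τ a))
      pullback.condition F)) {X' : Scheme.{u}} (f' : X' ⟶ c.pt) (g' : X' ⟶ X)
    (hsq : IsPullback g' f' f t) : IsIso (EtCoh.baseChange0 f t f' g' hsq.w F) :=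
  isIso_of_at hsq (fun U u hu => at_of_limit hc τ hτ ht H U.hom u hu)

end Main

end Groth.Agent.Etcore.LimBC0
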