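import Mathlib.Algebra.Homology.ShortComplex.Ab
import Mathlib.Algebra.Homology.ShortComplex.HomologicalComplex
import Mathlib.Algebra.Homology.ConcreteCategory

/-!
Element-level description of the homology of complexes of abelian groups.
-/

set_option autoImplicit false
open CategoryTheory CategoryTheory.Limits
universe w

namespace Groth.Agent.Etcore.AbHomology

variable {ι : Type*} {c : ComplexShape ι} (K L : HomologicalComplex AddCommGrpCat.{w} c)

lemma homologyπ_surj {j : ι} (y : K.homology j) : ∃ z : K.cycles j, K.homologyπ j z = y :=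
  (AddCommGrpCat.epi_iff_surjective _).1 inferInstance y

lemma cycles_ext {j : ι} {z z' : K.cycles j} (h : K.iCycles j z = K.iCycles j z') : z = z' :=
  (AddCommGrpCat.mono_iff_injective _).1 inferInstance h

lemma d_iCycles {j : ι} (k : ι) (z : K.cycles j) : K.d j k (K.iCycles j z) = 0 := by
  rw [← ConcreteCategory.comp_apply, K.iCycles_d]
  rfl

lemma exists_cycles {j : ι} (x : K.X j) (k : ι) (hk : c.next j = k) (hx : K.d j k x = 0) :
    ∃ z : K.cycles j, K.iCycles j z = x := by
  refine ⟨(K.sc j).abCyclesIso.inv ⟨x, ?_⟩, (K.sc j).abCyclesIso_inv_apply_iCycles _⟩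
  subst hk
  exact hx

lemma homologyπ_toCycles {j : ι} (i : ι) (y : K.X i) : K.homologyπ j (K.toCycles i j y) = 0 := by
  rw [← ConcreteCategory.comp_apply, K.toCycles_comp_homologyπ]
  rfl

lemma iCycles_toCycles {j : ι} (i : ι) (y : K.X i) : K.iCycles j (K.toCycles i j y) = K.d i j y := by
  rw [← ConcreteCategory.comp_apply, K.toCycles_i]

lemma homologyπ_eq_zero_iff {j : ι} (z : K.cycles j) (i : ι) (hi : c.prev j = i) :
    K.homologyπ j z = 0 ↔ ∃ y : K.X i, K.d i j y = K.iCycles j z := by
  constructor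
  · intro h
    have hex : (ShortComplex.mk (K.toCycles i j) (K.homologyπ j) (K.toCycles_comp_homologyπ i j)).Exact :=
      ShortComplex.exact_of_g_is_cokernel _ (K.homologyIsCokernel i j hi)
    obtain ⟨y, hy⟩ := (ShortComplex.ab_exact_iff _).1 hex z h
    exact ⟨y, by rw [← hy]; exact (iCycles_toCycles K i y).symm⟩
  · rintro ⟨y, hy⟩
    have : z = K.toCycles i j y := cycles_ext K (by rw [← hy, iCycles_toCycles])
    rw [this, homologyπ_toCycles]

variable {K} in
/-- Classification of homology classes: a surjective additive function on cocycles, with kernel the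
coboundaries, identifies the homology. -/
theorem exists_equiv {j k i : ι} (hk : c.next j = k) (hi : c.prev j = i) {E : Type*} [AddCommGroup E]
    (φ : ∀ x : K.X j, K.d j k x = 0 → E)
    (hadd : ∀ x y hx hy hxy, φ (x + y) hxy = φ x hx + φ y hy)
    (hsurj : ∀ e : E, ∃ x hx, φ x hx = e)
    (hker : ∀ x hx, φ x hx = 0 ↔ ∃ y : K.X i, K.d i j y = x) :
    ∃ e : K.homology j ≃+ E, ∀ z : K.cycles j, e (K.homologyπ j z) = φ (K.iCycles j z) (d_iCycles K k z) := by
  let Φ : K.cycles j →+ E := AddMonoidHom.mk' (fun z => φ (K.iCycles j z) (d_iCycles K k z)) (by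
    intro a b
    have := hadd (K.iCycles j a) (K.iCycles j b) (d_iCycles K k a) (d_iCycles K k b)
      (by rw [← map_add]; exact d_iCycles K k (a + b))
    rw [← this]
    congr 1
    exact map_add _ _ _)
  have hΦ : ∀ z, Φ z = 0 ↔ K.homologyπ j z = 0 := by
    intro z
    rw [homologyπ_eq_zero_iff K z i hi]
    exact hker _ _
  have hk1 : (K.homologyπ j).hom.ker = Φ.ker := by
    ext z
    rw [AddMonoidHom.mem_ker, AddMonoidHom.mem_ker, hΦ]
  have hs1 : Function.Surjective (K.homologyπ j).hom := homologyπ_surj K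
  have hs2 : Function.Surjective Φ := by
    intro e
    obtain ⟨x, hx, rfl⟩ := hsurj e
    obtain ⟨z, hz⟩ := exists_cycles K x k hk hx
    subst hz
    exact ⟨z, rfl⟩
  refine ⟨(QuotientAddGroup.quotientKerEquivOfSurjective _ hs1).symm.trans
    ((QuotientAddGroup.quotientAddEquivOfEq hk1).trans
      (QuotientAddGroup.quotientKerEquivOfSurjective _ hs2)), fun z => ?_⟩
  have e1 : (QuotientAddGroup.quotientKerEquivOfSurjective _ hs1).symm (K.homologyπ j z) =
      (QuotientAddGroup.mk z : (K.cycles j) ⧸ (K.homologyπ j).hom.ker) := by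
    rw [AddEquiv.symm_apply_eq]
    rfl
  rw [AddEquiv.trans_apply, e1]
  rfl

end Groth.Agent.Etcore.AbHomology
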