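import Mathlib.Algebra.Homology.DerivedCategory.Ext.ExactSequences

/-!
# Mayer-Vietoris in an abelian category

A square `W ⟶ A, B ⟶ P` with `W ⟶ A` mono which is cocartesian gives the Mayer-Vietoris sequence
for `Ext (-, F)`.
-/

set_option autoImplicit false
universe w v u

open CategoryTheory CategoryTheory.Limits CategoryTheory.Abelian

namespace Groth.Agent.Etcore.AbMV

variable {C : Type u} [Category.{v} C] [Abelian C]

/-- The data of a Mayer-Vietoris square. -/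
structure Sq (P A B W : C) where
  /-- map -/
  a : A ⟶ P
  /-- map -/
  b : B ⟶ P
  /-- map -/
  c : W ⟶ A
  /-- map -/
  d : W ⟶ B
  w : c ≫ a = d ≫ b
  inj : ∀ {I : C} (φ ψ : P ⟶ I), a ≫ φ = a ≫ ψ → b ≫ φ = b ≫ ψ → φ = ψ
  ex : ∀ {I : C} (α : A ⟶ I) (β : B ⟶ I), c ≫ α = d ≫ β → ∃ φ : P ⟶ I, a ≫ φ = α ∧ b ≫ φ = β
  mono : Mono c

variable {P A B W : C} (s : Sq P A B W)

/-- first map -/
noncomputable def Sq.f : W ⟶ A ⊞ B := biprod.lift s.c (-s.d)

/-- second map -/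
noncomputable def Sq.g : A ⊞ B ⟶ P := biprod.desc s.a s.b

theorem Sq.f_fst : s.f ≫ biprod.fst = s.c := biprod.lift_fst _ _
theorem Sq.f_snd : s.f ≫ biprod.snd = -s.d := biprod.lift_snd _ _
theorem Sq.inl_g : biprod.inl ≫ s.g = s.a := biprod.inl_desc _ _
theorem Sq.inr_g : biprod.inr ≫ s.g = s.b := biprod.inr_desc _ _

theorem Sq.f_eq : s.f = s.c ≫ biprod.inl - s.d ≫ biprod.inr := by
  rw [Sq.f, biprod.lift_eq, Preadditive.neg_comp, sub_eq_add_neg]

theorem Sq.g_eq : s.g = biprod.fst ≫ s.a + biprod.snd ≫ s.b := by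
  rw [Sq.g, biprod.desc_eq]

theorem Sq.f_g : s.f ≫ s.g = 0 := by
  rw [Sq.f, Sq.g, biprod.lift_desc, Preadditive.neg_comp, s.w, add_neg_cancel]

/-- The short complex of a Mayer-Vietoris square. -/
noncomputable def Sq.sc : ShortComplex C := ShortComplex.mk s.f s.g s.f_g

theorem Sq.mono_f : Mono s.f := by
  have : Mono (s.f ≫ biprod.fst) := by rw [s.f_fst]; exact s.mono
  exact mono_of_mono s.f biprod.fst

theorem Sq.epi_g : Epi s.g := by
  constructor
  intro Z φ ψ h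
  apply s.inj
  · rw [← s.inl_g, Category.assoc, h, Category.assoc]
  · rw [← s.inr_g, Category.assoc, h, Category.assoc]

theorem Sq.exists_desc {I : C} (k : A ⊞ B ⟶ I) (hk : s.f ≫ k = 0) : ∃ φ : P ⟶ I, s.g ≫ φ = k := by
  have h1 : s.c ≫ (biprod.inl ≫ k) = s.d ≫ (biprod.inr ≫ k) := by
    rw [s.f_eq, Preadditive.sub_comp, sub_eq_zero, Category.assoc, Category.assoc] at hk
    exact hk
  obtain ⟨φ, e1, e2⟩ := s.ex _ _ h1
  refine ⟨φ, ?_⟩
  apply biprod.hom_ext'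
  · rw [← e1, ← Category.assoc, s.inl_g]
  · rw [← e2, ← Category.assoc, s.inr_g]

theorem Sq.shortExact : s.sc.ShortExact := by
  have hex : s.sc.Exact := by
    apply ShortComplex.exact_of_g_is_cokernel
    have : Epi s.sc.g := s.epi_g
    refine CokernelCofork.IsColimit.ofπ' _ _ (fun {I} k hk => ?_)
    exact ⟨(s.exists_desc k hk).choose, (s.exists_desc k hk).choose_spec⟩
  exact { exact := hex, mono_f := s.mono_f, epi_g := s.epi_g }

variable [HasExt.{w} C] (F : C) (n : ℕ)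

/-- The restriction map. -/
noncomputable def Sq.alpha : Ext P F n →+ Ext A F n × Ext B F n :=
  AddMonoidHom.prod ((Ext.mk₀ s.a).precomp F (zero_add n)) ((Ext.mk₀ s.b).precomp F (zero_add n))

/-- The difference map. -/
noncomputable def Sq.beta : Ext A F n × Ext B F n →+ Ext W F n :=
  ((Ext.mk₀ s.c).precomp F (zero_add n)).comp (AddMonoidHom.fst _ _) -
    ((Ext.mk₀ s.d).precomp F (zero_add n)).comp (AddMonoidHom.snd _ _)

/-- The extension class. -/
noncomputable def Sq.cls : Ext P W 1 := s.shortExact.extClass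

/-- The connecting map. -/
noncomputable def Sq.delta : Ext W F n →+ Ext P F (n + 1) :=
  s.cls.precomp F (add_comm 1 n)

theorem Sq.alpha_apply (x : Ext P F n) : s.alpha F n x =
    ((Ext.mk₀ s.a).comp x (zero_add n), (Ext.mk₀ s.b).comp x (zero_add n)) := rfl

theorem Sq.beta_apply (x : Ext A F n × Ext B F n) : s.beta F n x =
    (Ext.mk₀ s.c).comp x.1 (zero_add n) - (Ext.mk₀ s.d).comp x.2 (zero_add n) := rfl

theorem Sq.delta_apply (x : Ext W F n) : s.delta F n x =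
    s.cls.comp x (add_comm 1 n) := rfl

theorem Sq.exact₁ (x : Ext W F n) (hx : s.cls.comp x (add_comm 1 n) = 0) :
    ∃ y : Ext (A ⊞ B) F n, (Ext.mk₀ s.f).comp y (zero_add n) = x :=
  Ext.contravariant_sequence_exact₁ s.shortExact F x (add_comm 1 n) hx

theorem Sq.exact₂ (x : Ext (A ⊞ B) F n) (hx : (Ext.mk₀ s.f).comp x (zero_add n) = 0) :
    ∃ y : Ext P F n, (Ext.mk₀ s.g).comp y (zero_add n) = x :=
  Ext.contravariant_sequence_exact₂ s.shortExact F x hx

theorem Sq.exact₃ (x : Ext P F (n + 1)) (hx : (Ext.mk₀ s.g).comp x (zero_add _) = 0) :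
    ∃ y : Ext W F n, s.cls.comp y (add_comm 1 n) = x :=
  Ext.contravariant_sequence_exact₃ s.shortExact F x hx (add_comm 1 n)

theorem Sq.comp₁ (y : Ext (A ⊞ B) F n) :
    s.cls.comp ((Ext.mk₀ s.f).comp y (zero_add n)) (add_comm 1 n) = 0 :=
  s.shortExact.extClass_comp_assoc y

theorem Sq.comp₃ (y : Ext W F n) :
    (Ext.mk₀ s.g).comp (s.cls.comp y (add_comm 1 n)) (zero_add _) = 0 :=
  s.shortExact.comp_extClass_assoc y _

theorem Sq.alpha_eq (x : Ext P F n) : s.alpha F n x =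
    Ext.biprodAddEquiv ((Ext.mk₀ s.g).comp x (zero_add n)) := by
  apply Ext.biprodAddEquiv.symm.injective
  rw [AddEquiv.symm_apply_apply, Ext.biprodAddEquiv_symm_apply, s.alpha_apply, s.g_eq,
    Ext.mk₀_add, Ext.add_comp, ← Ext.mk₀_comp_mk₀_assoc, ← Ext.mk₀_comp_mk₀_assoc]

theorem Sq.beta_eq (x : Ext (A ⊞ B) F n) : s.beta F n (Ext.biprodAddEquiv x) =
    (Ext.mk₀ s.f).comp x (zero_add n) := by
  obtain ⟨⟨y, z⟩, rfl⟩ := Ext.biprodAddEquiv.symm.surjective x
  rw [AddEquiv.apply_symm_apply, Ext.biprodAddEquiv_symm_apply, s.beta_apply, Ext.comp_add,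
    Ext.mk₀_comp_mk₀_assoc, Ext.mk₀_comp_mk₀_assoc, s.f_fst, s.f_snd, Ext.mk₀_neg, Ext.neg_comp,
    sub_eq_add_neg]

theorem Sq.alpha_zero_ker : (s.alpha F 0).ker = ⊥ := by
  rw [AddMonoidHom.ker_eq_bot_iff, injective_iff_map_eq_zero]
  intro x hx
  rw [s.alpha_eq, AddEquivClass.map_eq_zero_iff] at hx
  obtain ⟨φ, rfl⟩ := (Ext.mk₀_bijective P F).2 x
  rw [Ext.mk₀_comp_mk₀] at hx
  have := s.epi_g
  have h0 : s.g ≫ φ = 0 := (Ext.mk₀_bijective _ _).1 (hx.trans (Ext.mk₀_zero _ _).symm)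
  have : φ = 0 := by
    rw [← cancel_epi s.g, h0, comp_zero]
  rw [this, Ext.mk₀_zero]

theorem Sq.alpha_succ_ker : (s.alpha F (n + 1)).ker = (s.delta F n).range := by
  ext x
  rw [AddMonoidHom.mem_ker, AddMonoidHom.mem_range]
  constructor
  · intro hx
    rw [s.alpha_eq, AddEquivClass.map_eq_zero_iff] at hx
    exact s.exact₃ F n x hx
  · rintro ⟨y, rfl⟩
    rw [s.alpha_eq, s.delta_apply, s.comp₃, map_zero]

theorem Sq.beta_ker : (s.beta F n).ker = (s.alpha F n).range := by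
  ext x
  obtain ⟨y, rfl⟩ := Ext.biprodAddEquiv.surjective x
  rw [AddMonoidHom.mem_ker, AddMonoidHom.mem_range]
  constructor
  · intro hx
    rw [s.beta_eq] at hx
    obtain ⟨z, hz⟩ := s.exact₂ F n y hx
    exact ⟨z, by rw [s.alpha_eq, hz]⟩
  · rintro ⟨z, hz⟩
    rw [s.alpha_eq] at hz
    have := Ext.biprodAddEquiv.injective hz
    rw [s.beta_eq, ← this, Ext.mk₀_comp_mk₀_assoc, s.f_g, Ext.mk₀_zero, Ext.zero_comp]

theorem Sq.delta_ker : (s.delta F n).ker = (s.beta F n).range := by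
  ext x
  rw [AddMonoidHom.mem_ker, AddMonoidHom.mem_range]
  constructor
  · intro hx
    obtain ⟨z, hz⟩ := s.exact₁ F n x hx
    exact ⟨Ext.biprodAddEquiv z, by rw [s.beta_eq, hz]⟩
  · rintro ⟨z, rfl⟩
    obtain ⟨y, rfl⟩ := Ext.biprodAddEquiv.surjective z
    rw [s.beta_eq, s.delta_apply, s.comp₁]

end Groth.Agent.Etcore.AbMV
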