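import Mathlib.AlgebraicGeometry.Morphisms.FlatRank
import Mathlib.AlgebraicGeometry.Morphisms.Etale
import Mathlib.RingTheory.Etale.Field
import Mathlib.FieldTheory.IsSepClosed

/-!
# Points of finite étale schemes over a separably closed field

* `card_algHom`: a finite étale algebra `B` over a separably closed field has `dim B` points.
* `card_sections`: a finite étale scheme over a separably closed field has as many rational points as its
  rank.
-/

set_option autoImplicit false
universe u
open CategoryTheory CategoryTheory.Limits AlgebraicGeometry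

namespace Groth.Agent.Etcore.FinEtPts

theorem algHom_pi_eq {k : Type*} [Field k] {I : Type*} [Finite I] (φ : (I → k) →ₐ[k] k) :
    ∃ i, φ = Pi.evalAlgHom k (fun _ => k) i := by
  classical
  have := Fintype.ofFinite I
  have h1 : ∑ i, φ (Pi.single i 1) = 1 := by
    rw [← map_sum, Finset.univ_sum_single (fun _ => (1 : k))]
    exact map_one φ
  obtain ⟨i, -, hi⟩ : ∃ i ∈ Finset.univ, φ (Pi.single i 1) ≠ 0 := by
    by_contra h
    push Not at h
    rw [Finset.sum_eq_zero h] at h1
    exact zero_ne_one h1
  refine ⟨i, AlgHom.ext fun x => ?_⟩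
  have h2 : x * Pi.single i 1 = x i • Pi.single i (1 : k) := by
    ext j
    by_cases hj : j = i
    · subst hj; simp
    · simp [Pi.single_eq_of_ne hj]
  have h3 := congrArg φ h2
  rw [map_mul, map_smul, smul_eq_mul] at h3
  exact mul_right_cancel₀ hi h3

theorem card_algHom_pi (k : Type*) [Field k] (I : Type*) [Finite I] :
    Nat.card ((I → k) →ₐ[k] k) = Nat.card I := by
  classical
  symm
  refine Nat.card_eq_of_bijective (fun i => Pi.evalAlgHom k (fun _ => k) i) ⟨fun i j h => ?_, fun φ => ?_⟩
  · by_contra hij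
    have := DFunLike.congr_fun h (Pi.single i 1)
    simp only [Pi.evalAlgHom_apply, Pi.single_eq_same] at this
    rw [Pi.single_eq_of_ne (Ne.symm hij)] at this
    exact one_ne_zero this
  · obtain ⟨i, hi⟩ := algHom_pi_eq φ
    exact ⟨i, hi.symm⟩

/-- A finite étale algebra over a separably closed field has `dim B` points. -/
theorem card_algHom (k : Type u) (B : Type u) [Field k] [IsSepClosed k] [CommRing B] [Algebra k B]
    [Algebra.Etale k B] : Nat.card (B →ₐ[k] k) = Module.finrank k B := by
  obtain ⟨I, _, Ai, _, _, e, h⟩ := (Algebra.Etale.iff_exists_algEquiv_prod k B).mp inferInstance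
  have := Fintype.ofFinite I
  let e' : (∀ i, Ai i) ≃ₐ[k] (I → k) := AlgEquiv.piCongrRight fun i =>
    haveI := (h i).2
    (AlgEquiv.ofBijective (Algebra.ofId k (Ai i)) (IsSepClosed.algebraMap_bijective k (Ai i))).symm
  let f : B ≃ₐ[k] (I → k) := e.trans e'
  rw [Nat.card_congr (AlgEquiv.arrowCongr f (AlgEquiv.refl (R := k) (A₁ := k))), card_algHom_pi,
    f.toLinearEquiv.finrank_eq, Module.finrank_pi, Nat.card_eq_fintype_card]

/-- sections of `Spec B ⟶ Spec k`. -/
noncomputable def sectionsSpecEquiv {k B : CommRingCat.{u}} (φ : k ⟶ B) :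
    letI := φ.hom.toAlgebra
    {s : Spec k ⟶ Spec B // s ≫ Spec.map φ = 𝟙 _} ≃ (B →ₐ[k] k) :=
  letI := φ.hom.toAlgebra
  { toFun := fun s => AlgHom.mk (Spec.preimage s.1).hom (fun r => by
      have h : φ ≫ Spec.preimage s.1 = 𝟙 _ := by
        apply Spec.map_injective
        rw [Spec.map_comp, Spec.map_preimage, s.2, Spec.map_id]
      exact congrArg (fun ψ => ψ.hom r) h)
    invFun := fun ψ => ⟨Spec.map (CommRingCat.ofHom ψ.toRingHom), by
      have h : φ ≫ CommRingCat.ofHom ψ.toRingHom = 𝟙 _ := by
        ext r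
        exact ψ.commutes r
      rw [← Spec.map_comp, h, Spec.map_id]⟩
    left_inv := fun s => Subtype.ext (by exact Spec.map_preimage s.1)
    right_inv := fun ψ => by
      apply AlgHom.ext
      intro b
      change (Spec.preimage (Spec.map (CommRingCat.ofHom ψ.toRingHom))).hom b = _
      rw [Spec.preimage_map]
      rfl }

/-- A finite étale scheme over a separably closed field has as many rational points as its rank. -/
theorem card_sections {k : Type u} [Field k] [IsSepClosed k] {K : Scheme.{u}}
    (p : K ⟶ Spec (CommRingCat.of k)) [IsFinite p] [Etale p] (x : Spec (CommRingCat.of k)) :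
    Nat.card {s : Spec (CommRingCat.of k) ⟶ K // s ≫ p = 𝟙 _} = p.finrank x := by
  have : IsAffine K := isAffine_of_isAffineHom p
  obtain ⟨B, e, φ, hφ⟩ : ∃ (B : CommRingCat.{u}) (e : Spec B ≅ K) (φ : CommRingCat.of k ⟶ B),
      e.hom ≫ p = Spec.map φ :=
    ⟨Γ(K, ⊤), K.isoSpec.symm, Spec.preimage (K.isoSpec.symm.hom ≫ p), (Spec.map_preimage _).symm⟩
  have h1 : p.finrank = (Spec.map φ).finrank := by
    rw [← hφ, Scheme.Hom.finrank_comp_left_of_isIso]
  have hfin : IsFinite (Spec.map φ) := by rw [← hφ]; infer_instance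
  have het : Etale (Spec.map φ) := by rw [← hφ]; infer_instance
  have hflat : Flat (Spec.map φ) := inferInstance
  let _ : Algebra k B := φ.hom.toAlgebra
  have hf : Module.Finite k B := (IsFinite.SpecMap_iff _).mp hfin
  have he : Algebra.Etale k B := (HasRingHomProperty.Spec_iff (P := @Etale)).mp het
  rw [h1, Scheme.Hom.finrank_SpecMap_eq_finrank ((IsFinite.SpecMap_iff _).mp hfin)
    (Flat.SpecMap_iff.mp hflat)]
  have h2 : φ.hom.finrank x = Module.finrank k B := by
    change (algebraMap k B).finrank x = _
    rw [RingHom.finrank_algebraMap, Module.rankAtStalk_eq_finrank_of_free]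
    rfl
  rw [h2, ← card_algHom k B, ← Nat.card_congr (sectionsSpecEquiv φ)]
  refine Nat.card_congr (Equiv.subtypeEquiv ((Iso.homCongr (Iso.refl _) e.symm)) fun s => ?_)
  simp [Iso.homCongr, ← hφ]

end Groth.Agent.Etcore.FinEtPts
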