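import Groth.Agent.CurvesA.PtAffine
import Groth.Agent.CurvesA.CurveDeg
import Groth.Agent.CurvesA.PicDiv
import Groth.Agent.CurvesA.RatSec
import Groth.Agent.CurvesA.CurveDvr
import Groth.Agent.S1860
import Groth.Agent.Etcore.Herbrand

/-!
# Divisors modulo principal divisors and `n`-th multiples on a smooth proper curve
-/

set_option autoImplicit false
universe u

open CategoryTheory AlgebraicGeometry TopologicalSpace

namespace Groth.Agent.Etcore.AffCok425

open Groth.Agent.CurvesA

variable {k : Type u} [Field k] [IsAlgClosed k] {X : Scheme.{u}} [IsIntegral X]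
  (f : X ⟶ Spec (CommRingCat.of k)) [IsProper f]

theorem valuationRing_stalk (hX : DivPoint.IsDed X) (x : X) : ValuationRing (X.presheaf.stalk x) := by
  by_cases hx : x = genericPoint X
  · subst hx
    exact ValuationRing.of_field X.functionField
  · have := hX x hx
    infer_instance

include f in
/-- The complement of a closed point: affine, with divisible class group. -/
theorem exists_open (hdim : topologicalKrullDim X = 1) (hX : DivPoint.IsDed X) (n : ℕ)
    (hn : (n : k) ≠ 0) (x₀ : {x : X // x ≠ genericPoint X}) :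
    ∃ (U : X.Opens) (_ : Nonempty U), IsAffineOpen U ∧ (∀ x : X, x ∈ U ↔ x ≠ x₀.1) ∧
      ∀ c : ClassGroup Γ(X, U), ∃ c', c' ^ n = c := by
  have hLN : IsLocallyNoetherian X := LocallyOfFiniteType.isLocallyNoetherian f
  obtain ⟨z, hU, hz⟩ := PtAffine.exists_isAffineOpen f hdim.le (valuationRing_stalk hX) hX x₀.1 x₀.2
  have hne : Nonempty (Groth.Agent.Picfga.RegLocus.reg z) := ⟨⟨genericPoint X, (hz _).2 x₀.2.symm⟩⟩
  refine ⟨Groth.Agent.Picfga.RegLocus.reg z, hne, hU, hz, ?_⟩
  generalize Groth.Agent.Picfga.RegLocus.reg z = U at hU hne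
  have hD : IsDedekindDomain Γ(X, U) := DivOpen.isDedekindDomain U hU hX
  let φ : k →+* Γ(X, U) := ((Scheme.ΓSpecIso (CommRingCat.of k)).inv ≫ f.appLE ⊤ U le_top).hom
  let _ : Algebra k Γ(X, U) := φ.toAlgebra
  have hft : Algebra.FiniteType k Γ(X, U) := by
    have h1 : (f.appLE ⊤ U le_top).hom.FiniteType :=
      f.finiteType_appLE (isAffineOpen_top _) hU le_top
    have h2 : (Scheme.ΓSpecIso (CommRingCat.of k)).inv.hom.FiniteType :=
      RingHom.FiniteType.of_surjective _
        (Scheme.ΓSpecIso (CommRingCat.of k)).symm.commRingCatIsoToRingEquiv.surjective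
    exact h1.comp h2
  exact PicDiv.classGroup_divisible (k := k) (B := Γ(X, U)) n hn

include f in
theorem deg_principal (hdim : topologicalKrullDim X = 1) (hX : DivPoint.IsDed X)
    (g : (X.functionField)ˣ) (D : {x : X // x ≠ genericPoint X} →₀ ℤ)
    (hD : ∀ x, D x = DivOpen.ordPt hX x (g : X.functionField)) : CurveDeg.deg X D = 0 :=
  CurveDeg.deg_eq_zero f hdim hX g
    (Groth.Agent.S1860.result k X f hdim g g.ne_zero) D hD

include f in
/-- Away from a given point, every divisor is principal plus `n` times a divisor. -/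
theorem exists_div_compl (hdim : topologicalKrullDim X = 1) (hX : DivPoint.IsDed X) (n : ℕ)
    (hn : (n : k) ≠ 0) (s : {x : X // x ≠ genericPoint X})
    (D : {x : X // x ≠ genericPoint X} →₀ ℤ) :
    ∃ (g : (X.functionField)ˣ) (E : {x : X // x ≠ genericPoint X} →₀ ℤ), ∀ x ≠ s,
      D x = DivOpen.ordPt hX x (g : X.functionField) + n * E x := by
  have hLN : IsLocallyNoetherian X := LocallyOfFiniteType.isLocallyNoetherian f
  obtain ⟨U, hne, hU, hz, hdiv⟩ := exists_open f hdim hX n hn s
  obtain ⟨g, E, h⟩ := DivOpen.exists_div U hU hX n hdiv D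
  exact ⟨g, E, fun x hx => h x ((hz x.1).2 fun h' => hx (Subtype.ext h'))⟩

include f in
/-- `Pic(X)/n` has order `n`. -/
theorem cok_div [CompactSpace X] [IsLocallyNoetherian X]
    (hdim : topologicalKrullDim X = 1) (hX : DivPoint.IsDed X) (n : ℕ)
    (hn : (n : k) ≠ 0) :
    Herbrand.cok n (({x : X // x ≠ genericPoint X} →₀ ℤ) ⧸ (RatSec.div hX).range) = n := by
  obtain ⟨x₀, hx₀⟩ := CurveDvr.exists_ne_genericPoint hdim
  obtain ⟨U, hne, hU, hz, hdiv⟩ := exists_open f hdim hX n hn ⟨x₀, hx₀⟩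
  have hn0 : n ≠ 0 := by rintro rfl; simp at hn
  have : NeZero n := ⟨hn0⟩
  have hprin : ∀ g : Additive (X.functionField)ˣ, CurveDeg.deg X (RatSec.div hX g) = 0 := fun g =>
    deg_principal f hdim hX g.toMul _ fun x => by
      rw [RatSec.div_apply]; rfl
  let φ : ({x : X // x ≠ genericPoint X} →₀ ℤ) ⧸ (RatSec.div hX).range →+ ZMod n :=
    QuotientAddGroup.lift _ ((Int.castAddHom (ZMod n)).comp (CurveDeg.deg X)) (by
      rintro _ ⟨g, rfl⟩
      simp [hprin])
  have hφ : ∀ D, φ (QuotientAddGroup.mk D) = (CurveDeg.deg X D : ZMod n) := fun D => rfl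
  rw [Herbrand.cok_eq_of_surjective n φ, Nat.card_zmod]
  · intro y
    obtain ⟨m, rfl⟩ := ZMod.intCast_surjective y
    refine ⟨QuotientAddGroup.mk (Finsupp.single ⟨x₀, hx₀⟩ m), ?_⟩
    rw [hφ, CurveDeg.deg_single]
  · intro D
    obtain ⟨D, rfl⟩ := QuotientAddGroup.mk_surjective D
    rw [hφ, ZMod.intCast_zmod_eq_zero_iff_dvd]
    constructor
    · intro h
      obtain ⟨g, P, E, hP, hE⟩ := CurveDeg.exists_of_dvd_deg hX ⟨x₀, hx₀⟩ U hU
        (fun x hx => (hz x).2 hx) n hdiv (deg_principal f hdim hX) D h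
      refine ⟨QuotientAddGroup.mk E, ?_⟩
      rw [hE, QuotientAddGroup.mk_add, (QuotientAddGroup.eq_zero_iff P).2, zero_add,
        QuotientAddGroup.mk_nsmul]
      refine ⟨Additive.ofMul g, ?_⟩
      ext x
      rw [RatSec.div_apply, hP]
      rfl
    · rintro ⟨E, hE⟩
      obtain ⟨E, rfl⟩ := QuotientAddGroup.mk_surjective E
      have h1 := congrArg φ hE
      rw [map_nsmul, hφ, hφ] at h1
      rw [← ZMod.intCast_zmod_eq_zero_iff_dvd, ← h1]
      simp

end Groth.Agent.Etcore.AffCok425
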