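import Groth.Agent.Etcore.OpenCount
import Groth.Agent.Etcore.CurveH1
import Groth.Agent.S0663
import Groth.Agent.S0225
import Groth.Agent.S0227
import Groth.Agent.S0231
import Groth.Agent.CurvesA.CurveDvr

/-!
# `#H¹(U, μ_n) = n^(2g+r-1)` for a smooth proper curve minus `r ≥ 1` points
-/

set_option autoImplicit false
universe u

open CategoryTheory CategoryTheory.Limits AlgebraicGeometry Opposite

namespace Groth.Agent.Etcore.AffCurveH1

open Herbrand

theorem card_H1_mu (k : Type u) [Field k] [IsAlgClosed k] (X : Scheme.{u})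
    [X.Over (Spec (CommRingCat.of k))] (hX : Curve.IsSmoothProperCurve k X (X ↘ Spec (CommRingCat.of k)))
    (U : X.Opens) (r : ℕ) (hr : 1 ≤ r) (hUc : ((U : Set X)ᶜ).Finite)
    (hUr : Nat.card ↥((U : Set X)ᶜ) = r) (n : ℕ) (hn : (n : k) ≠ 0) :
    Nat.card (EtCoh.H (↑U : Scheme.{u}) (EtCoh.mu ↑U n) 1) =
      n ^ (2 * Module.finrank k (Coh.HH X (Coh.structureModule X) 1) + r - 1) := by
  let f := X ↘ Spec (CommRingCat.of k)
  have hX1 : IsProper f := hX.1
  have hX2 : Smooth f := hX.2.1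
  have hX3 : IsIntegral X := hX.2.2.1
  have hX4 : topologicalKrullDim X = 1 := hX.2.2.2
  have hn0 : n ≠ 0 := by rintro rfl; simp at hn
  have hn1 : 1 ≤ n := Nat.pos_of_ne_zero hn0
  have hU0 : Nonempty U := CurveOpen.nonempty_open f hX4 U hUc
  have hUi : IsIntegral (U : Scheme.{u}) := inferInstance
  have hUd : topologicalKrullDim (U : Scheme.{u}) = 1 := CurveOpen.krullDim_open f hX4 U hUc
  let fU : (U : Scheme.{u}) ⟶ Spec (CommRingCat.of k) := U.ι ≫ f
  have hXn : IsLocallyNoetherian X := LocallyOfFiniteType.isLocallyNoetherian f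
  have hUn : IsLocallyNoetherian (U : Scheme.{u}) := LocallyOfFiniteType.isLocallyNoetherian fU
  have hXc : CompactSpace X := (quasiCompact_iff_compactSpace (f := f)).mp inferInstance
  have hne : ((U : Set X)ᶜ).Nonempty := by
    rw [Set.nonempty_iff_ne_empty]
    intro h
    rw [h] at hUr
    simp at hUr
    omega
  have hUa : IsAffine (U : Scheme.{u}) := CurveAffine.isAffine_open k X f hX4 U hUc hne
  have hUcp : CompactSpace (U : Scheme.{u}) := inferInstance
  have hDX : CurvesA.DivPoint.IsDed X := fun x hx =>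
    CurvesA.CurveDvr.isDiscreteValuationRing_stalk f hX4.le x hx
  have hDU : CurvesA.DivPoint.IsDed (U : Scheme.{u}) := fun x hx =>
    CurvesA.CurveDvr.isDiscreteValuationRing_stalk fU hUd.le x hx
  have hHX : Subsingleton (EtCoh.H X (CurvesA.OrdMap.jGm X) 1) := S0231.result k X f hX4 1 le_rfl
  have hHU : Subsingleton (EtCoh.H (U : Scheme.{u}) (CurvesA.OrdMap.jGm (U : Scheme.{u})) 1) :=
    S0231.result k (U : Scheme.{u}) fU hUd 1 le_rfl
  -- the torsion of H⁰
  have t0X := GlobalUnits.tor_H0 f n hn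
  have t0U := GlobalUnits.tor_H0 fU n hn
  have c0X := GlobalUnits.cok_H0 f n hn0
  have t1X := CurveH1.tor_H1Gm X f hX4 rfl n hn
  -- H² on `U`
  have cU : cok n (EtCoh.H (U : Scheme.{u}) (EtCoh.Gm (U : Scheme.{u})) 1) = 1 := by
    have h1 := KumCount.card_H_mu (U : Scheme.{u}) n (MuCard.epi_powMap (U : Scheme.{u}) fU n hn) 1
    have h2 : Subsingleton (EtCoh.H (U : Scheme.{u}) (EtCoh.mu (U : Scheme.{u}) n) 2) :=
      (S0663.result k X hX U r hr hUc hUr n hn1 hn).2 2 le_rfl
    have h3 : Nat.card (EtCoh.H (U : Scheme.{u}) (EtCoh.mu (U : Scheme.{u}) n) (1 + 1)) = 1 :=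
      Nat.card_unique
    rw [h3] at h1
    exact Nat.eq_one_of_mul_eq_one_right h1.symm
  -- H² on `X`
  have cX : cok n (EtCoh.H X (EtCoh.Gm X) 1) = n := by
    have h1 := KumCount.card_H_mu X n (MuCard.epi_powMap X f n hn) 1
    have h2 : Subsingleton (EtCoh.H X (EtCoh.Gm X) 2) := S0227.result k X f hX4 2 le_rfl
    have h3 : tor n (EtCoh.H X (EtCoh.Gm X) (1 + 1)) = 1 :=
      tor_eq_one n _ (fun m _ => @Subsingleton.elim _ h2 _ _)
    obtain ⟨e1⟩ := S0225.result k X hX n hn1 hn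
    obtain ⟨e2⟩ := CurvesA.MuConst.nonempty_iso_const_mu_of_isSepClosed k n hn f
    have h4 : Nat.card (EtCoh.H X (EtCoh.mu X n) (1 + 1)) = n :=
      (Nat.card_congr ((EtCoh.HF X 2).mapIso e2).addCommGroupIsoToAddEquiv.toEquiv).symm.trans
        ((Nat.card_congr e1.toEquiv).trans (Nat.card_zmod n))
    rw [h3, mul_one, h4] at h1
    exact h1.symm
  have key := OpenCount.open_count U hDX hDU n hn0 hUc hHX hHU (t0X.trans t0U.symm)
    (by rw [t0U]; exact hn0) c0X cU (by rw [t1X]; exact pow_ne_zero _ hn0)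
  rw [cX, t1X, hUr] at key
  have h5 := KumCount.card_H_mu (U : Scheme.{u}) n (MuCard.epi_powMap (U : Scheme.{u}) fU n hn) 0
  have h6 : Nat.card (EtCoh.H (↑U : Scheme.{u}) (EtCoh.mu ↑U n) 1) * n =
      n ^ (2 * Module.finrank k (Coh.HH X (Coh.structureModule X) 1) + r - 1) * n := by
    refine (congrArg (· * n) h5).trans (key.trans ?_)
    rw [← pow_succ, ← pow_add]
    congr 1
    omega
  exact Nat.eq_of_mul_eq_mul_right hn1 h6

end Groth.Agent.Etcore.AffCurveH1
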