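import Groth.Agent.Etcore.AbHomology
import Mathlib.CategoryTheory.Abelian.Injective.Ext
import Mathlib.CategoryTheory.Abelian.Projective.Ext
import Mathlib.CategoryTheory.Abelian.RightDerived
import Mathlib.CategoryTheory.Abelian.Projective.Resolution

/-!
* `projRes`: a projective resolution from a complex of projectives exact in positive degrees.
* `exists_rightDerived_equiv_ext`: if `F` is corepresented by `S` then `R^{n+1} F P ≃ Ext S P (n+1)`, naturally in `P`.
-/

set_option autoImplicit false
open CategoryTheory CategoryTheory.Limits Opposite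
universe w v u

namespace Groth.Agent.Etcore.ExtRes

variable {A : Type u} [Category.{v} A] [Abelian A]

/-- A projective resolution of the cokernel of `d 1 0` from a complex of projectives which is exact
in positive degrees. -/
noncomputable def projRes (K : ChainComplex A ℕ) (hK : ∀ n, Projective (K.X n))
    (hex : ∀ n, K.ExactAt (n + 1)) : ProjectiveResolution (cokernel (K.d 1 0)) where
  complex := K
  projective := hK
  π := (ChainComplex.toSingle₀Equiv _ _).symm ⟨cokernel.π _, cokernel.condition _⟩
  quasiIso := ⟨fun n => by
    cases n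
    · rw [ChainComplex.quasiIsoAt₀_iff, ShortComplex.quasiIso_iff_of_zeros']
      · refine (ShortComplex.exact_and_epi_g_iff_of_iso ?_).2
          ⟨ShortComplex.exact_cokernel (K.d 1 0), by dsimp; infer_instance⟩
        exact ShortComplex.isoMk (Iso.refl _) (Iso.refl _) (Iso.refl _)
          ((Category.id_comp _).trans (Category.comp_id _).symm)
          ((Category.id_comp _).trans ((Category.comp_id _).trans
            (ChainComplex.toSingle₀Equiv_symm_apply_f_zero _ _)).symm)
      · exact K.shape 0 0 (by simp)
      all_goals rfl
    · rw [quasiIsoAt_iff_exactAt']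
      · apply hex
      · apply ChainComplex.exactAt_succ_single_obj⟩

section

variable [HasExt.{w} A] [HasInjectiveResolutions A]

theorem exists_rightDerived_equiv_ext (F : A ⥤ AddCommGrpCat.{v}) [F.Additive] (S : A)
    (e : ∀ P, F.obj P ≃+ (S ⟶ P)) (he : ∀ (P Q : A) (g : P ⟶ Q) (x : F.obj P), e Q (F.map g x) = e P x ≫ g)
    (n : ℕ) :
    ∃ φ : ∀ P, (F.rightDerived (n + 1)).obj P ≃+ Abelian.Ext S P (n + 1),
      ∀ (P Q : A) (g : P ⟶ Q) (x : (F.rightDerived (n + 1)).obj P),
        φ Q ((F.rightDerived (n + 1)).map g x) = (φ P x).comp (Abelian.Ext.mk₀ g) (add_zero _) := by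
  -- for an injective resolution
  have key : ∀ (P : A) (I : InjectiveResolution P),
      ∃ f : ((F.mapHomologicalComplex (ComplexShape.up ℕ)).obj I.cocomplex).homology (n + 1) ≃+
        Abelian.Ext S P (n + 1), ∀ z,
        f (((F.mapHomologicalComplex (ComplexShape.up ℕ)).obj I.cocomplex).homologyπ (n + 1) z) =
          I.extMk (e _ (((F.mapHomologicalComplex (ComplexShape.up ℕ)).obj I.cocomplex).iCycles (n + 1) z))
            (n + 2) rfl (by
              rw [← he]
              exact (congrArg (e _) (AbHomology.d_iCycles _ (n + 2) z)).trans (map_zero _)) := by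
    intro P I
    refine AbHomology.exists_equiv
      (K := (F.mapHomologicalComplex (ComplexShape.up ℕ)).obj I.cocomplex) (j := n + 1) (k := n + 2) (i := n)
      (by simp) (by simp)
      (fun x hx => I.extMk (e _ x) (n + 2) rfl (by
        rw [← he]; exact (congrArg (e _) hx).trans (map_zero _))) ?_ ?_ ?_
    · intro x y hx hy hxy
      rw [I.add_extMk]
      congr 1
      exact map_add _ _ _
    · intro α
      obtain ⟨f, hf, hα⟩ := I.extMk_surjective α (n + 2) rfl
      refine ⟨(e _).symm f, (e _).injective ?_, ?_⟩
      · refine (he _ _ _ _).trans ?_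
        rw [(e _).apply_symm_apply, hf]
        exact (map_zero _).symm
      · rw [← hα]
        congr 1
        exact (e _).apply_symm_apply f
    · intro x hx
      rw [I.extMk_eq_zero_iff _ _ _ _ n rfl]
      constructor
      · rintro ⟨g, hg⟩
        refine ⟨(e _).symm g, (e _).injective ?_⟩
        refine (he _ _ _ _).trans ?_
        rw [(e _).apply_symm_apply, hg]
      · rintro ⟨y, hy⟩
        refine ⟨e _ y, ?_⟩
        rw [← he]
        exact congrArg (e _) hy
  choose f hf using key
  refine ⟨fun P => ((injectiveResolution P).isoRightDerivedObj F (n + 1)).addCommGroupIsoToAddEquiv.trans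
    (f P (injectiveResolution P)), ?_⟩
  intro P Q g x
  let φ : InjectiveResolution.Hom (injectiveResolution P) (injectiveResolution Q) g :=
    { hom := InjectiveResolution.desc g _ _
      ι_f_zero_comp_hom_f_zero := HomologicalComplex.congr_hom (InjectiveResolution.desc_commutes g _ _) 0 }
  have h1 := congrArg (fun k => k.hom x) (InjectiveResolution.isoRightDerivedObj_hom_naturality g
    (injectiveResolution P) (injectiveResolution Q) φ.hom
    (InjectiveResolution.desc_commutes_zero g _ _) F (n + 1))
  change f Q (injectiveResolution Q) (((injectiveResolution Q).isoRightDerivedObj F (n + 1)).hom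
    ((F.rightDerived (n + 1)).map g x)) =
      (f P (injectiveResolution P) (((injectiveResolution P).isoRightDerivedObj F (n + 1)).hom x)).comp
        (Abelian.Ext.mk₀ g) (add_zero _)
  refine (congrArg (f Q (injectiveResolution Q)) h1).trans ?_
  obtain ⟨z, hz⟩ := AbHomology.homologyπ_surj _
    (((injectiveResolution P).isoRightDerivedObj F (n + 1)).hom x)
  have h2 : (((injectiveResolution P).isoRightDerivedObj F (n + 1)).hom ≫
      (F.mapHomologicalComplex (ComplexShape.up ℕ) ⋙
        HomologicalComplex.homologyFunctor _ _ (n + 1)).map φ.hom) x =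
      ((F.mapHomologicalComplex (ComplexShape.up ℕ)).obj (injectiveResolution Q).cocomplex).homologyπ (n + 1)
        (HomologicalComplex.cyclesMap ((F.mapHomologicalComplex (ComplexShape.up ℕ)).map φ.hom) (n + 1) z) := by
    rw [ConcreteCategory.comp_apply]
    refine (congrArg _ hz.symm).trans ?_
    refine Eq.trans ?_ (congrArg (fun k => k.hom z) (HomologicalComplex.homologyπ_naturality
      ((F.mapHomologicalComplex (ComplexShape.up ℕ)).map φ.hom) (n + 1)))
    rfl
  refine (congrArg (f Q (injectiveResolution Q)) h2).trans ?_
  refine ((hf Q (injectiveResolution Q) _).trans ?_).trans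
    (congrArg (fun k => (f P (injectiveResolution P) k).comp (Abelian.Ext.mk₀ g) (add_zero _)) hz)
  rw [hf, InjectiveResolution.extMk_comp_mk₀ _ _ _ _ φ]
  congr 1
  rw [← he]
  congr 1
  exact congrArg (fun k => k.hom z) (HomologicalComplex.cyclesMap_i
    ((F.mapHomologicalComplex (ComplexShape.up ℕ)).map φ.hom) (n + 1))

end

end Groth.Agent.Etcore.ExtRes
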