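import Groth.Agent.Etcore.CechFree
import Groth.Agent.Etcore.ExtRes

/-!
Čech cohomology of a presheaf (w.r.t. a family of objects over `U`) as a right derived functor of `Ȟ⁰`.
-/

set_option autoImplicit false
open CategoryTheory CategoryTheory.Limits Opposite Simplicial
universe w v u
set_option linter.unusedSectionVars false
set_option linter.unusedVariables false

namespace Groth.Agent.Etcore.CechDerived

open Groth.Agent.Etcore.CechFree Groth.Agent.Etcore

variable {C : Type u} [Category.{v} C] [LocallySmall.{w} C] {U : C}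

instance projective_Z (X : FormalCoproduct.{w} (Over U)) : Projective (Z X : Cᵒᵖ ⥤ AddCommGrpCat.{w}) where
  factors {P Q} f e he := by
    obtain ⟨x, hx⟩ := τ_surj Q f
    have he' : ∀ i : X.I, Function.Surjective (e.app (op (X.obj i).left)) := fun i =>
      (AddCommGrpCat.epi_iff_surjective _).1 (NatTrans.epi_iff_epi_app e |>.1 he _)
    choose y hy using fun i => he' i (comp Q x i)
    obtain ⟨y', hy'⟩ := exists_ev P y
    refine ⟨τ P y', ?_⟩
    rw [← hx]
    refine Z_hom_ext Q fun V t => ?_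
    induction t using T.ind with | h i g => ?_
    rw [τ_app_mk, ← hy, ← hy']
    change e.app (op V) ((τ P y').app (op V) (FreeAbelianGroup.of (T.mk i g))) = _
    rw [τ_app_mk]
    exact congrArg (fun k => k.hom (comp P y' i)) (e.naturality g.op)

variable [HasFiniteProducts (Over U)]

/-- the free Čech complex -/
noncomputable def KZ (X : FormalCoproduct.{w} (Over U)) : ChainComplex (Cᵒᵖ ⥤ AddCommGrpCat.{w}) ℕ :=
  AlgebraicTopology.AlternatingFaceMapComplex.obj
    (((SimplicialObject.whiskering _ _).obj (Zfun C U)).obj X.cech)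

lemma KZ_d (X : FormalCoproduct.{w} (Over U)) (n : ℕ) : (KZ X).d (n + 1) n = dZ X n :=
  AlgebraicTopology.AlternatingFaceMapComplex.obj_d_eq _ _

lemma KZ_exactAt (X : FormalCoproduct.{w} (Over U)) (n : ℕ) : (KZ X).ExactAt (n + 1) := by
  rw [HomologicalComplex.exactAt_iff' _ (n + 2) (n + 1) n (by simp) (by simp)]
  refine (ShortComplex.exact_iff_of_iso ?_).1 (exact X n)
  exact ShortComplex.isoMk (Iso.refl _) (Iso.refl _) (Iso.refl _)
    ((Category.id_comp _).trans ((KZ_d X (n + 1)).trans (Category.comp_id _).symm))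
    ((Category.id_comp _).trans ((KZ_d X n).trans (Category.comp_id _).symm))

/-- projective resolution -/
noncomputable def R (X : FormalCoproduct.{w} (Over U)) :
    ProjectiveResolution (cokernel ((KZ X).d 1 0)) :=
  ExtRes.projRes (KZ X) (fun n => projective_Z _) (KZ_exactAt X)

variable {ι : Type w} (Uf : ι → Over U)

/-- the presheaf corepresenting Čech `H⁰` -/
noncomputable abbrev S : Cᵒᵖ ⥤ AddCommGrpCat.{w} := cokernel ((KZ (FormalCoproduct.mk ι Uf)).d 1 0)

lemma τ_eq_zero_iff {X : FormalCoproduct.{w} (Over U)} (P : Cᵒᵖ ⥤ AddCommGrpCat.{w}) (x : ev P X) :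
    τ P x = 0 ↔ x = 0 := by
  constructor
  · intro h
    exact τ_inj P (h.trans (τ_zero P).symm)
  · rintro rfl
    exact τ_zero P

lemma τ_add {X : FormalCoproduct.{w} (Over U)} (P : Cᵒᵖ ⥤ AddCommGrpCat.{w}) (x y : ev P X) :
    τ P (x + y) = τ P x + τ P y := by
  have h := τ_zsmul_sum (X := X) P (Finset.univ : Finset (Fin 2)) (fun _ => 1) ![x, y]
  simpa [Fin.sum_univ_two] using h

/-- cocycles -/
lemma d_comp_τ (P : Cᵒᵖ ⥤ AddCommGrpCat.{w}) (n : ℕ) (x : (EtCech.cechComplex Uf P).X n)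
    (hx : (EtCech.cechComplex Uf P).d n (n + 1) x = 0) :
    (KZ (FormalCoproduct.mk ι Uf)).d (n + 1) n ≫ τ P x = 0 := by
  rw [KZ_d]
  refine (dZ_τ Uf P n x).trans ?_
  exact (congrArg (τ P) hx).trans (τ_zero P)

lemma τ_comp {X : FormalCoproduct.{w} (Over U)} {P Q : Cᵒᵖ ⥤ AddCommGrpCat.{w}} (g : P ⟶ Q) (x : ev P X)
    (y : ev Q X) (h : ∀ i, comp Q y i = g.app _ (comp P x i)) :
    τ P x ≫ g = τ Q y := by
  refine Z_hom_ext Q fun V t => ?_
  induction t using T.ind with | h i f => ?_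
  rw [τ_app_mk, h]
  change g.app (op V) ((τ P x).app (op V) (FreeAbelianGroup.of (T.mk i f))) = _
  rw [τ_app_mk]
  exact congrArg (fun k => k.hom (comp P x i)) (g.naturality f.op)

/-- the map of Čech complexes -/
noncomputable abbrev cmap {P Q : Cᵒᵖ ⥤ AddCommGrpCat.{w}} (g : P ⟶ Q) :
    EtCech.cechComplex Uf P ⟶ EtCech.cechComplex Uf Q :=
  (cechComplexFunctor Uf).map (Functor.whiskerLeft (Over.forget U).op g)

lemma τ_cmap {P Q : Cᵒᵖ ⥤ AddCommGrpCat.{w}} (g : P ⟶ Q) (n : ℕ) (x : (EtCech.cechComplex Uf P).X n) :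
    τ P x ≫ g = τ Q ((cmap Uf g).f n x) := by
  refine τ_comp g x _ fun i => ?_
  have h : (cmap Uf g).f n ≫ Pi.π (fun (i : ((FormalCoproduct.mk ι Uf).power (Fin (n + 1))).I) =>
      ((Over.forget U).op ⋙ Q).obj (op (((FormalCoproduct.mk ι Uf).power (Fin (n + 1))).obj i))) i =
      Pi.π (fun (i : ((FormalCoproduct.mk ι Uf).power (Fin (n + 1))).I) =>
      ((Over.forget U).op ⋙ P).obj (op (((FormalCoproduct.mk ι Uf).power (Fin (n + 1))).obj i))) i ≫ g.app _ := by
    change (((FormalCoproduct.evalOp.{w} (Over U) AddCommGrpCat.{w}).map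
      (Functor.whiskerLeft (Over.forget U).op g)).app
        (op ((FormalCoproduct.mk ι Uf).power (Fin (n + 1))))) ≫ _ = _
    exact Pi.map_π (fun i : ((FormalCoproduct.mk ι Uf).power (Fin (n + 1))).I =>
      (Functor.whiskerLeft (Over.forget U).op g).app
        (op (((FormalCoproduct.mk ι Uf).power (Fin (n + 1))).obj i))) i
  exact congrArg (fun k => k.hom x) h

/-- Čech H⁰ is corepresented by `S`. -/
theorem exists_equiv_zero :
    ∃ e : ∀ P : Cᵒᵖ ⥤ AddCommGrpCat.{w}, (EtCech.cechHFunctor Uf 0).obj P ≃+ (S Uf ⟶ P),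
      ∀ (P Q : Cᵒᵖ ⥤ AddCommGrpCat.{w}) (g : P ⟶ Q) (x : (EtCech.cechHFunctor Uf 0).obj P),
        e Q ((EtCech.cechHFunctor Uf 0).map g x) = e P x ≫ g := by
  have key : ∀ P : Cᵒᵖ ⥤ AddCommGrpCat.{w}, ∃ e : (EtCech.cechComplex Uf P).homology 0 ≃+ (S Uf ⟶ P),
      ∀ z, cokernel.π _ ≫ e ((EtCech.cechComplex Uf P).homologyπ 0 z) =
        τ P ((EtCech.cechComplex Uf P).iCycles 0 z) := by
    intro P
    obtain ⟨e, he⟩ := AbHomology.exists_equiv (K := EtCech.cechComplex Uf P) (j := 0) (k := 1) (i := 0)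
      (by simp) (by simp) (fun x hx => cokernel.desc _ (τ P x) (d_comp_τ Uf P 0 x hx)) (by
        intro x y hx hy hxy
        rw [← cancel_epi (cokernel.π _)]
        simp only [cokernel.π_desc, Preadditive.comp_add]
        exact τ_add P x y) (by
        intro f
        obtain ⟨x, hx⟩ := τ_surj P (cokernel.π _ ≫ f)
        refine ⟨x, ?_, ?_⟩
        · refine τ_inj P ?_
          refine (dZ_τ Uf P 0 x).symm.trans ?_
          refine ((congrArg (dZ _ 0 ≫ ·) hx).trans ?_).trans (τ_zero P).symm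
          rw [← KZ_d]
          exact (Category.assoc _ _ _).symm.trans
            ((congrArg (· ≫ f) (cokernel.condition ((KZ (FormalCoproduct.mk ι Uf)).d 1 0))).trans zero_comp)
        · rw [← cancel_epi (cokernel.π _)]
          exact (cokernel.π_desc _ _ _).trans hx) (by
        intro x hx
        rw [← cancel_epi (cokernel.π _), cokernel.π_desc, comp_zero]
        refine (τ_eq_zero_iff P x).trans ?_
        constructor
        · rintro rfl
          exact ⟨0, map_zero _⟩
        · rintro ⟨y, hy⟩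
          rw [← hy, (EtCech.cechComplex Uf P).shape 0 0 (by simp)]
          rfl)
    refine ⟨e, fun z => ?_⟩
    exact (congrArg (fun k => cokernel.π ((KZ (FormalCoproduct.mk ι Uf)).d 1 0) ≫ k) (he z)).trans
      (cokernel.π_desc _ _ _)
  choose e he using key
  refine ⟨e, fun P Q g x => ?_⟩
  obtain ⟨z, rfl⟩ := AbHomology.homologyπ_surj _ x
  rw [← cancel_epi (cokernel.π _)]
  have h1 : (EtCech.cechHFunctor Uf 0).map g ((EtCech.cechComplex Uf P).homologyπ 0 z) =
      (EtCech.cechComplex Uf Q).homologyπ 0 (HomologicalComplex.cyclesMap (cmap Uf g) 0 z) :=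
    congrArg (fun k => k.hom z) (HomologicalComplex.homologyπ_naturality (cmap Uf g) 0)
  refine (congrArg (fun y => cokernel.π _ ≫ e Q y) h1).trans ?_
  refine (he Q _).trans ?_
  refine Eq.trans ?_ (Category.assoc _ _ _)
  refine Eq.trans ?_ (congrArg (fun k => k ≫ g) (he P z)).symm
  refine Eq.trans ?_ (τ_cmap Uf g 0 _).symm
  refine congrArg (τ Q) ?_
  exact congrArg (fun k => k.hom z) (HomologicalComplex.cyclesMap_i (cmap Uf g) 0)

/-- Čech cohomology as an Ext group. -/
theorem exists_equiv_succ [HasExt.{w} (Cᵒᵖ ⥤ AddCommGrpCat.{w})] (n : ℕ) :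
    ∃ e : ∀ P : Cᵒᵖ ⥤ AddCommGrpCat.{w}, (EtCech.cechHFunctor Uf (n + 1)).obj P ≃+ Abelian.Ext (S Uf) P (n + 1),
      ∀ (P Q : Cᵒᵖ ⥤ AddCommGrpCat.{w}) (g : P ⟶ Q) (x : (EtCech.cechHFunctor Uf (n + 1)).obj P),
        e Q ((EtCech.cechHFunctor Uf (n + 1)).map g x) = (e P x).comp (Abelian.Ext.mk₀ g) (add_zero _) := by
  have key : ∀ P : Cᵒᵖ ⥤ AddCommGrpCat.{w}, ∃ e : (EtCech.cechComplex Uf P).homology (n + 1) ≃+
      Abelian.Ext (S Uf) P (n + 1),
      ∀ z, e ((EtCech.cechComplex Uf P).homologyπ (n + 1) z) =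
        (R (FormalCoproduct.mk ι Uf)).extMk (τ P ((EtCech.cechComplex Uf P).iCycles (n + 1) z)) (n + 2) rfl
          (d_comp_τ Uf P (n + 1) _ (AbHomology.d_iCycles _ _ _)) := by
    intro P
    refine AbHomology.exists_equiv (K := EtCech.cechComplex Uf P) (j := n + 1) (k := n + 2) (i := n)
      (by simp) (by simp) (fun x hx => (R (FormalCoproduct.mk ι Uf)).extMk (τ P x) (n + 2) rfl
        (d_comp_τ Uf P (n + 1) x hx)) ?_ ?_ ?_
    · intro x y hx hy hxy
      rw [(R (FormalCoproduct.mk ι Uf)).add_extMk]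
      congr 1
      exact τ_add P x y
    · intro α
      obtain ⟨f, hf, hα⟩ := (R (FormalCoproduct.mk ι Uf)).extMk_surjective α (n + 2) rfl
      obtain ⟨x, hx⟩ := τ_surj P f
      refine ⟨x, ?_, ?_⟩
      · refine τ_inj P ?_
        refine (dZ_τ Uf P (n + 1) x).symm.trans ?_
        refine ((congrArg (dZ _ (n + 1) ≫ ·) hx).trans ?_).trans (τ_zero P).symm
        rw [← KZ_d]
        exact hf
      · rw [← hα]
        congr 1
    · intro x hx
      rw [(R (FormalCoproduct.mk ι Uf)).extMk_eq_zero_iff _ _ _ _ n rfl]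
      constructor
      · rintro ⟨f, hf⟩
        obtain ⟨y, hy⟩ := τ_surj P f
        refine ⟨y, τ_inj P ?_⟩
        refine (dZ_τ Uf P n y).symm.trans ?_
        refine (congrArg (dZ _ n ≫ ·) hy).trans ?_
        rw [← KZ_d]
        exact hf
      · rintro ⟨y, hy⟩
        refine ⟨τ P y, ?_⟩
        refine (congrArg (· ≫ τ P y) (KZ_d _ n)).trans ?_
        refine (dZ_τ Uf P n y).trans ?_
        exact congrArg (τ P) hy
  choose e he using key
  refine ⟨e, fun P Q g x => ?_⟩
  obtain ⟨z, rfl⟩ := AbHomology.homologyπ_surj _ x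
  have h1 : (EtCech.cechHFunctor Uf (n + 1)).map g ((EtCech.cechComplex Uf P).homologyπ (n + 1) z) =
      (EtCech.cechComplex Uf Q).homologyπ (n + 1) (HomologicalComplex.cyclesMap (cmap Uf g) (n + 1) z) :=
    congrArg (fun k => k.hom z) (HomologicalComplex.homologyπ_naturality (cmap Uf g) (n + 1))
  refine (congrArg (e Q) h1).trans ?_
  refine (he Q _).trans ?_
  refine Eq.trans ?_ (congrArg (fun k => Abelian.Ext.comp k (Abelian.Ext.mk₀ g) (add_zero _)) (he P z)).symm
  refine Eq.trans ?_ (ProjectiveResolution.extMk_comp_mk₀ _ _ _ _ _ g).symm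
  congr 1
  refine Eq.trans ?_ (τ_cmap Uf g (n + 1) _).symm
  refine congrArg (τ Q) ?_
  exact congrArg (fun k => k.hom z) (HomologicalComplex.cyclesMap_i (cmap Uf g) (n + 1))

end Groth.Agent.Etcore.CechDerived
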