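import Groth.Prelude.Def_EtCech
import Mathlib.CategoryTheory.Preadditive.Injective.Basic
import Mathlib.GroupTheory.FreeAbelianGroup
import Mathlib.CategoryTheory.Limits.Shapes.ConcreteCategory
import Mathlib.Algebra.Homology.ShortComplex.Ab
import Mathlib.Algebra.Homology.Functor
import Mathlib.Algebra.Homology.ShortComplex.PreservesHomology
import Mathlib.CategoryTheory.Abelian.Injective.Basic

set_option autoImplicit false
open CategoryTheory CategoryTheory.Limits Opposite Simplicial
universe w v u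
set_option linter.unusedSectionVars false
set_option linter.unusedVariables false

namespace Groth.Agent.Etcore.CechFree

section Free

variable {C : Type u} [Category.{v} C] [LocallySmall.{w} C] {U : C}

/-- generators over `V` of the free abelian presheaf attached to a formal coproduct over `U` -/
def T (X : FormalCoproduct.{w} (Over U)) (V : C) : Type w :=
  Σ i : X.I, Shrink.{w} (V ⟶ (X.obj i).left)

namespace T

variable {X Y Z : FormalCoproduct.{w} (Over U)} {V V' V'' : C}

noncomputable def mk (i : X.I) (f : V ⟶ (X.obj i).left) : T X V := ⟨i, equivShrink _ f⟩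

def idx (t : T X V) : X.I := t.1

noncomputable def hom (t : T X V) : V ⟶ (X.obj t.idx).left := (equivShrink _).symm t.2

lemma mk_idx_hom (t : T X V) : mk t.idx t.hom = t := by
  obtain ⟨i, f⟩ := t
  exact congrArg (Sigma.mk i) ((equivShrink _).apply_symm_apply f)

@[simp] lemma idx_mk (i : X.I) (f : V ⟶ (X.obj i).left) : (mk i f).idx = i := rfl

@[simp] lemma hom_mk (i : X.I) (f : V ⟶ (X.obj i).left) : (mk i f).hom = f := by
  change (equivShrink _).symm (equivShrink _ f) = f
  simp

lemma ind {P : T X V → Prop} (h : ∀ (i : X.I) (f : V ⟶ (X.obj i).left), P (mk i f)) (t : T X V) :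
    P t := by
  rw [← mk_idx_hom t]; exact h _ _

noncomputable def map (g : X ⟶ Y) (t : T X V) : T Y V := mk (g.f t.idx) (t.hom ≫ (g.φ t.idx).left)

noncomputable def res (u : V' ⟶ V) (t : T X V) : T X V' := mk t.idx (u ≫ t.hom)

lemma map_mk (g : X ⟶ Y) (i : X.I) (f : V ⟶ (X.obj i).left) :
    map g (mk i f) = mk (g.f i) (f ≫ (g.φ i).left) := by
  simp [map]

lemma res_mk (u : V' ⟶ V) (i : X.I) (f : V ⟶ (X.obj i).left) :
    res u (mk i f) = mk i (u ≫ f) := by
  simp [res]

lemma map_res (g : X ⟶ Y) (u : V' ⟶ V) (t : T X V) : map g (res u t) = res u (map g t) := by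
  induction t using ind with | h i f => simp [map_mk, res_mk]

lemma map_id (t : T X V) : map (𝟙 X) t = t := by
  induction t using ind with | h i f => simp [map_mk]

lemma map_comp (g : X ⟶ Y) (h : Y ⟶ Z) (t : T X V) : map (g ≫ h) t = map h (map g t) := by
  induction t using ind with | h i f => simp [map_mk]

lemma res_id (t : T X V) : res (𝟙 V) t = t := by
  induction t using ind with | h i f => simp [res_mk]

lemma res_comp (u : V' ⟶ V) (u' : V'' ⟶ V') (t : T X V) : res (u' ≫ u) t = res u' (res u t) := by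
  induction t using ind with | h i f => simp [res_mk]

/-- the structure map to `U` -/
noncomputable def base (t : T X V) : V ⟶ U := t.hom ≫ (X.obj t.idx).hom

lemma base_mk (i : X.I) (f : V ⟶ (X.obj i).left) : (mk i f).base = f ≫ (X.obj i).hom := by
  simp [base]

lemma base_map (g : X ⟶ Y) (t : T X V) : (map g t).base = t.base := by
  induction t using ind with | h i f => simp [map_mk, base_mk]

end T

/-- The free abelian presheaf on `C` attached to a formal coproduct of objects over `U`. -/
noncomputable def Z (X : FormalCoproduct.{w} (Over U)) : Cᵒᵖ ⥤ AddCommGrpCat.{w} where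
  obj V := AddCommGrpCat.of (FreeAbelianGroup (T X V.unop))
  map g := AddCommGrpCat.ofHom (FreeAbelianGroup.map (T.res g.unop))
  map_id V := by
    refine AddCommGrpCat.hom_ext (FreeAbelianGroup.lift_ext _ _ fun t => ?_)
    change FreeAbelianGroup.map (T.res (𝟙 _)) (FreeAbelianGroup.of t) = FreeAbelianGroup.of t
    rw [FreeAbelianGroup.map_of_apply, T.res_id]
  map_comp g h := by
    refine AddCommGrpCat.hom_ext (FreeAbelianGroup.lift_ext _ _ fun t => ?_)
    change FreeAbelianGroup.map (T.res (h.unop ≫ g.unop)) (FreeAbelianGroup.of t) =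
      FreeAbelianGroup.map (T.res h.unop) (FreeAbelianGroup.map (T.res g.unop) (FreeAbelianGroup.of t))
    simp only [FreeAbelianGroup.map_of_apply, T.res_comp]

noncomputable def Zmap {X Y : FormalCoproduct.{w} (Over U)} (g : X ⟶ Y) : Z X ⟶ Z Y where
  app V := AddCommGrpCat.ofHom (FreeAbelianGroup.map (T.map g))
  naturality V V' u := by
    refine AddCommGrpCat.hom_ext (FreeAbelianGroup.lift_ext _ _ fun t => ?_)
    change FreeAbelianGroup.map (T.map g) (FreeAbelianGroup.map (T.res u.unop) (FreeAbelianGroup.of t)) =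
      FreeAbelianGroup.map (T.res u.unop) (FreeAbelianGroup.map (T.map g) (FreeAbelianGroup.of t))
    simp only [FreeAbelianGroup.map_of_apply, T.map_res]

lemma Zmap_app_of {X Y : FormalCoproduct.{w} (Over U)} (g : X ⟶ Y) (V : Cᵒᵖ) (t : T X V.unop) :
    (Zmap g).app V (FreeAbelianGroup.of t) = FreeAbelianGroup.of (T.map g t) := by
  change FreeAbelianGroup.map (T.map g) (FreeAbelianGroup.of t) = _
  rw [FreeAbelianGroup.map_of_apply]

variable (C U) in
/-- `Z` as a functor. -/
noncomputable def Zfun : FormalCoproduct.{w} (Over U) ⥤ (Cᵒᵖ ⥤ AddCommGrpCat.{w}) where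
  obj X := Z X
  map g := Zmap g
  map_id X := by
    ext V : 2
    refine AddCommGrpCat.hom_ext (FreeAbelianGroup.lift_ext _ _ fun t => ?_)
    change FreeAbelianGroup.map (T.map (𝟙 X)) (FreeAbelianGroup.of t) = FreeAbelianGroup.of t
    simp only [FreeAbelianGroup.map_of_apply, T.map_id]
  map_comp g h := by
    ext V : 2
    refine AddCommGrpCat.hom_ext (FreeAbelianGroup.lift_ext _ _ fun t => ?_)
    change FreeAbelianGroup.map (T.map (g ≫ h)) (FreeAbelianGroup.of t) =
      FreeAbelianGroup.map (T.map h) (FreeAbelianGroup.map (T.map g) (FreeAbelianGroup.of t))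
    simp only [FreeAbelianGroup.map_of_apply, T.map_comp]

/-! ### The contracting maps -/

section

variable [HasFiniteProducts (Over U)] (X : FormalCoproduct.{w} (Over U))

/-- components of an element of the Čech object -/
lemma T.ext_power {n : ℕ} {V : C} (s t : T (X.power (Fin (n + 1))) V)
    (h : ∀ a : Fin (n + 1), T.map (X.powerπ a) s = T.map (X.powerπ a) t) : s = t := by
  induction s using T.ind with | h i f => ?_
  induction t using T.ind with | h j g => ?_
  simp only [T.map_mk] at h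
  have hij : i = j := by
    funext a
    exact congrArg T.idx (h a)
  subst hij
  have h' : ∀ a : Fin (n + 1), f ≫ (Pi.π (X.obj ∘ i) a).left = g ≫ (Pi.π (X.obj ∘ i) a).left := by
    intro a
    have := h a
    dsimp [T.mk] at this
    have h2 := eq_of_heq (Sigma.mk.inj this).2
    exact (equivShrink _).injective h2
  congr 1
  have hb : f ≫ (∏ᶜ (X.obj ∘ i)).hom = g ≫ (∏ᶜ (X.obj ∘ i)).hom := by
    have e : (∏ᶜ (X.obj ∘ i)).hom = (Pi.π (X.obj ∘ i) 0).left ≫ ((X.obj ∘ i) 0).hom :=
      (Over.w (Pi.π (X.obj ∘ i) 0)).symm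
    rw [e]
    exact (Category.assoc _ _ _).symm.trans ((congrArg (· ≫ ((X.obj ∘ i) 0).hom) (h' 0)).trans
      (Category.assoc _ _ _))
  have key : (Over.homMk f rfl : Over.mk (f ≫ (∏ᶜ (X.obj ∘ i)).hom) ⟶ ∏ᶜ (X.obj ∘ i)) =
      Over.homMk g hb.symm := by
    refine Pi.hom_ext _ _ fun a => ?_
    ext
    exact h' a
  exact congrArg CommaMorphism.left key

/-- a tuple of elements with the same structure map gives an element of the power -/
lemma T.exists_power {n : ℕ} {V : C} (s : Fin (n + 1) → T X V) (b : V ⟶ U)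
    (hs : ∀ a, (s a).base = b) :
    ∃ t : T (X.power (Fin (n + 1))) V, ∀ a, T.map (X.powerπ a) t = s a := by
  let i : Fin (n + 1) → X.I := fun a => (s a).idx
  let m : Over.mk b ⟶ ∏ᶜ (X.obj ∘ i) := Pi.lift (fun a => Over.homMk (s a).hom (hs a))
  refine ⟨T.mk (X := X.power (Fin (n + 1))) i m.left, fun a => ?_⟩
  rw [T.map_mk]
  have e : m ≫ Pi.π (X.obj ∘ i) a = Over.homMk (s a).hom (hs a) := Pi.lift_π _ _
  have e' : m.left ≫ (Pi.π (X.obj ∘ i) a).left = (s a).hom := by
    rw [← Over.comp_left, e]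
    rfl
  exact (congrArg (fun z => T.mk (X := X) (s a).idx z) e').trans (T.mk_idx_hom _)

/-- choice of an element over `b`, if there is one -/
noncomputable def pick {V : C} (b : V ⟶ U) (t₀ : T X V) : T X V :=
  open Classical in if h : ∃ t : T X V, t.base = b then h.choose else t₀

lemma pick_base {V : C} (b : V ⟶ U) (t₀ : T X V) (h : t₀.base = b) : (pick X b t₀).base = b := by
  unfold pick
  rw [dif_pos ⟨t₀, h⟩]
  exact Exists.choose_spec (p := fun t : T X V => t.base = b) _

lemma pick_eq {V : C} (b : V ⟶ U) (t₀ t₁ : T X V) (h : t₀.base = b) (h' : t₁.base = b) :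
    pick X b t₀ = pick X b t₁ := by
  unfold pick
  rw [dif_pos ⟨t₀, h⟩, dif_pos ⟨t₀, h⟩]

lemma exists_cone {n : ℕ} {V : C} (t : T (X.power (Fin (n + 1))) V) :
    ∃ t' : T (X.power (Fin (n + 2))) V,
      T.map (X.powerπ 0) t' = pick X t.base (T.map (X.powerπ 0) t) ∧
      ∀ a : Fin (n + 1), T.map (X.powerπ a.succ) t' = T.map (X.powerπ a) t := by
  obtain ⟨t', ht'⟩ := T.exists_power X (n := n + 1)
    (Fin.cons (pick X t.base (T.map (X.powerπ 0) t)) (fun a => T.map (X.powerπ a) t)) t.base (by
      intro a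
      refine Fin.cases ?_ (fun a => ?_) a
      · rw [Fin.cons_zero]
        exact pick_base _ _ _ (T.base_map _ _)
      · rw [Fin.cons_succ]
        exact T.base_map _ _)
  refine ⟨t', ?_, fun a => ?_⟩
  · rw [ht', Fin.cons_zero]
  · rw [ht', Fin.cons_succ]

noncomputable def cone {n : ℕ} {V : C} (t : T (X.power (Fin (n + 1))) V) :
    T (X.power (Fin (n + 2))) V := (exists_cone X t).choose

lemma cone_zero {n : ℕ} {V : C} (t : T (X.power (Fin (n + 1))) V) :
    T.map (X.powerπ 0) (cone X t) = pick X t.base (T.map (X.powerπ 0) t) :=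
  (exists_cone X t).choose_spec.1

lemma cone_succ {n : ℕ} {V : C} (t : T (X.power (Fin (n + 1))) V) (a : Fin (n + 1)) :
    T.map (X.powerπ a.succ) (cone X t) = T.map (X.powerπ a) t :=
  (exists_cone X t).choose_spec.2 a

/-- the faces of the Čech object -/
noncomputable def face (n : ℕ) (j : Fin (n + 2)) :
    X.power (Fin (n + 2)) ⟶ X.power (Fin (n + 1)) := X.mapPower (Fin.succAbove j)

lemma face_π (n : ℕ) (j : Fin (n + 2)) (a : Fin (n + 1)) :
    face X n j ≫ X.powerπ a = X.powerπ (j.succAbove a) :=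
  X.mapPower_π _ _

lemma map_face_π {n : ℕ} (j : Fin (n + 2)) (a : Fin (n + 1)) {V : C}
    (t : T (X.power (Fin (n + 2))) V) :
    T.map (X.powerπ a) (T.map (face X n j) t) = T.map (X.powerπ (j.succAbove a)) t := by
  rw [← T.map_comp, face_π]

lemma face_zero_cone {n : ℕ} {V : C} (t : T (X.power (Fin (n + 1))) V) :
    T.map (face X n 0) (cone X t) = t := by
  refine T.ext_power X _ _ fun a => ?_
  rw [map_face_π, Fin.succAbove_zero, cone_succ]

lemma face_succ_cone {n : ℕ} {V : C} (t : T (X.power (Fin (n + 2))) V) (j : Fin (n + 2)) :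
    T.map (face X (n + 1) j.succ) (cone X t) = cone X (T.map (face X n j) t) := by
  refine T.ext_power X _ _ fun a => ?_
  rw [map_face_π]
  refine Fin.cases ?_ (fun a => ?_) a
  · rw [Fin.succ_succAbove_zero, cone_zero, cone_zero, T.base_map]
    exact pick_eq _ _ _ _ (T.base_map _ _) ((T.base_map _ _).trans (T.base_map _ _))
  · rw [Fin.succ_succAbove_succ, cone_succ, cone_succ, map_face_π]

/-- the differential of the free Čech complex -/
noncomputable def dZ (n : ℕ) : Z (X.power (Fin (n + 2))) ⟶ Z (X.power (Fin (n + 1))) :=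
  ∑ j : Fin (n + 2), (-1 : ℤ) ^ (j : ℕ) • Zmap (face X n j)

lemma dZ_comp_dZ (n : ℕ) : dZ X (n + 1) ≫ dZ X n = 0 :=
  AlgebraicTopology.AlternatingFaceMapComplex.d_squared
    (((SimplicialObject.whiskering _ _).obj (Zfun C U)).obj X.cech) n

lemma sum_app_apply {F G : Cᵒᵖ ⥤ AddCommGrpCat.{w}} {ι : Type*} (s : Finset ι) (c : ι → ℤ)
    (g : ι → (F ⟶ G)) (V : Cᵒᵖ) (x : F.obj V) :
    (∑ j ∈ s, c j • g j).app V x = ∑ j ∈ s, c j • ((g j).app V x) := by
  classical
  induction s using Finset.induction_on with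
  | empty => simp
  | insert a s ha ih => 
    rw [Finset.sum_insert ha, Finset.sum_insert ha, ← ih]
    rfl

lemma dZ_app_of (n : ℕ) {V : C} (t : T (X.power (Fin (n + 2))) V) :
    (dZ X n).app (op V) (FreeAbelianGroup.of t) =
      ∑ j : Fin (n + 2), (-1 : ℤ) ^ (j : ℕ) • FreeAbelianGroup.of (T.map (face X n j) t) := by
  unfold dZ
  rw [sum_app_apply]
  rfl

lemma homotopy_of (n : ℕ) {V : C} (t : T (X.power (Fin (n + 2))) V) :
    (dZ X (n + 1)).app (op V) (FreeAbelianGroup.of (cone X t)) =
      FreeAbelianGroup.of t -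
        FreeAbelianGroup.map (cone X) ((dZ X n).app (op V) (FreeAbelianGroup.of t)) := by
  rw [dZ_app_of, Fin.sum_univ_succ, face_zero_cone, dZ_app_of, map_sum, sub_eq_add_neg,
    ← Finset.sum_neg_distrib, Fin.val_zero, pow_zero, one_smul]
  refine congrArg (FreeAbelianGroup.of t + ·) (Finset.sum_congr rfl fun j _ => ?_)
  rw [face_succ_cone, map_zsmul, FreeAbelianGroup.map_of_apply, ← neg_smul]
  congr 1
  rw [Fin.val_succ, pow_succ, mul_neg, mul_one]

lemma homotopy (n : ℕ) {V : C} (x : FreeAbelianGroup (T (X.power (Fin (n + 2))) V)) :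
    (dZ X (n + 1)).app (op V) (FreeAbelianGroup.map (cone X) x) =
      x - FreeAbelianGroup.map (cone X) ((dZ X n).app (op V) x) := by
  have h : (((dZ X (n + 1)).app (op V)).hom.comp (FreeAbelianGroup.map (cone X)) :
      FreeAbelianGroup (T (X.power (Fin (n + 2))) V) →+ FreeAbelianGroup (T (X.power (Fin (n + 2))) V)) =
      AddMonoidHom.id _ - (FreeAbelianGroup.map (cone X)).comp ((dZ X n).app (op V)).hom := by
    refine FreeAbelianGroup.lift_ext _ _ fun t => ?_
    refine (congrArg ((dZ X (n + 1)).app (op V)).hom (FreeAbelianGroup.map_of_apply t)).trans ?_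
    exact homotopy_of X n t
  exact DFunLike.congr_fun h x

/-- exactness of the free Čech complex in positive degrees -/
lemma exact (n : ℕ) : (ShortComplex.mk (dZ X (n + 1)) (dZ X n) (dZ_comp_dZ X n)).Exact := by
  rw [ShortComplex.exact_iff_isZero_homology, Functor.isZero_iff]
  intro V
  refine IsZero.of_iso ?_ (((ShortComplex.mk (dZ X (n + 1)) (dZ X n)
    (dZ_comp_dZ X n)).mapHomologyIso ((evaluation _ _).obj V)).symm)
  rw [← ShortComplex.exact_iff_isZero_homology, ShortComplex.ab_exact_iff]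
  intro x hx
  refine ⟨FreeAbelianGroup.map (cone X) x, ?_⟩
  refine (homotopy X n x).trans ?_
  have h0 : ∀ y : FreeAbelianGroup (T (X.power (Fin (n + 1))) V.unop), y = 0 →
      ∀ x' : FreeAbelianGroup (T (X.power (Fin (n + 2))) V.unop),
      x' - FreeAbelianGroup.map (cone X) y = x' := by
    intro y hy x'
    rw [hy, map_zero, sub_zero]
  exact h0 _ hx x

end

/-! ### Maps out of the free presheaf -/

section

variable (P : Cᵒᵖ ⥤ AddCommGrpCat.{w}) {X Y : FormalCoproduct.{w} (Over U)}

/-- the restriction of `P` to `Over U` -/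
noncomputable abbrev rP : (Over U)ᵒᵖ ⥤ AddCommGrpCat.{w} := (Over.forget U).op ⋙ P

/-- the value of `P` on a formal coproduct over `U` -/
noncomputable abbrev ev (X : FormalCoproduct.{w} (Over U)) : AddCommGrpCat.{w} :=
  ((FormalCoproduct.evalOp.{w} (Over U) AddCommGrpCat.{w}).obj ((Over.forget U).op ⋙ P)).obj (op X)

/-- functoriality of `ev` -/
noncomputable abbrev evMap (g : X ⟶ Y) : ev P Y ⟶ ev P X :=
  ((FormalCoproduct.evalOp.{w} (Over U) AddCommGrpCat.{w}).obj ((Over.forget U).op ⋙ P)).map g.op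

/-- a component of an element of `ev` -/
noncomputable def comp (x : ev P X) (i : X.I) : P.obj (op (X.obj i).left) :=
  Pi.π (fun (i : X.I) => ((Over.forget U).op ⋙ P).obj (op (X.obj i))) i x

omit [LocallySmall.{w} C] in
lemma comp_evMap (g : X ⟶ Y) (x : ev P Y) (i : X.I) :
    comp P (evMap P g x) i = P.map (g.φ i).left.op (comp P x (g.f i)) := by
  have h : evMap P g ≫ Pi.π (fun (i : X.I) => ((Over.forget U).op ⋙ P).obj (op (X.obj i))) i =
      Pi.π (fun (i : Y.I) => ((Over.forget U).op ⋙ P).obj (op (Y.obj i))) (g.f i) ≫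
        P.map (g.φ i).left.op := Pi.lift_π _ _
  exact congrArg (fun k => k x) (congrArg (fun k => k.hom) h)

omit [LocallySmall.{w} C] in
lemma ev_ext (x y : ev P X) (h : ∀ i, comp P x i = comp P y i) : x = y :=
  Concrete.limit_ext _ _ _ (fun ⟨i⟩ => h i)

omit [LocallySmall.{w} C] in
lemma exists_ev (f : ∀ i : X.I, P.obj (op (X.obj i).left)) : ∃ x : ev P X, ∀ i, comp P x i = f i := by
  refine ⟨(Concrete.productEquiv (fun (i : X.I) => ((Over.forget U).op ⋙ P).obj (op (X.obj i)))).symm f,
    fun i => ?_⟩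
  exact Concrete.productEquiv_symm_apply_π _ _ _

omit [LocallySmall.{w} C] in
lemma comp_zsmul (c : ℤ) (x : ev P X) (i : X.I) : comp P (c • x) i = c • comp P x i :=
  map_zsmul (Pi.π (fun (i : X.I) => ((Over.forget U).op ⋙ P).obj (op (X.obj i))) i).hom c x

omit [LocallySmall.{w} C] in
lemma comp_sum {ι : Type*} (s : Finset ι) (x : ι → ev P X) (i : X.I) :
    comp P (∑ j ∈ s, x j) i = ∑ j ∈ s, comp P (x j) i :=
  map_sum (Pi.π (fun (i : X.I) => ((Over.forget U).op ⋙ P).obj (op (X.obj i))) i).hom x s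

/-- the map out of `Z X` attached to an element of `ev P X` -/
noncomputable def τ (x : ev P X) : Z X ⟶ P where
  app V := AddCommGrpCat.ofHom (FreeAbelianGroup.lift (fun t : T X V.unop => P.map t.hom.op (comp P x t.idx)))
  naturality V V' u := by
    refine AddCommGrpCat.hom_ext (FreeAbelianGroup.lift_ext _ _ fun t => ?_)
    change FreeAbelianGroup.lift _ (FreeAbelianGroup.map (T.res u.unop) (FreeAbelianGroup.of t)) =
      P.map u (FreeAbelianGroup.lift _ (FreeAbelianGroup.of t))
    rw [FreeAbelianGroup.map_of_apply, FreeAbelianGroup.lift_apply_of, FreeAbelianGroup.lift_apply_of]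
    induction t using T.ind with | h i f => ?_
    rw [T.res_mk, T.hom_mk, T.hom_mk]
    exact congrArg (fun k => k (comp P x i)) (congrArg (fun k => k.hom) (P.map_comp f.op u))

lemma τ_app_of (x : ev P X) {V : C} (t : T X V) :
    (τ P x).app (op V) (FreeAbelianGroup.of t) = P.map t.hom.op (comp P x t.idx) :=
  FreeAbelianGroup.lift_apply_of _ _

lemma Z_hom_ext {f g : Z X ⟶ P}
    (h : ∀ (V : C) (t : T X V), f.app (op V) (FreeAbelianGroup.of t) = g.app (op V) (FreeAbelianGroup.of t)) :
    f = g := by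
  ext V : 2
  exact AddCommGrpCat.hom_ext (FreeAbelianGroup.lift_ext _ _ fun t => h V.unop t)

lemma τ_app_mk (x : ev P X) {V : C} (i : X.I) (f : V ⟶ (X.obj i).left) :
    (τ P x).app (op V) (FreeAbelianGroup.of (T.mk i f)) = P.map f.op (comp P x i) :=
  (τ_app_of P x _).trans
    (congrArg (fun k : V ⟶ (X.obj i).left => P.map k.op (comp P x i)) (T.hom_mk i f))

lemma τ_inj {x y : ev P X} (h : τ P x = τ P y) : x = y := by
  refine ev_ext P x y fun i => ?_
  have h1 := (τ_app_mk P x i (𝟙 (X.obj i).left)).symm.trans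
    ((congrArg (fun k => k.app (op (X.obj i).left)
    (FreeAbelianGroup.of (T.mk (X := X) i (𝟙 (X.obj i).left)))) h).trans
      (τ_app_mk P y i (𝟙 (X.obj i).left)))
  rwa [op_id, P.map_id] at h1

lemma τ_surj (f : Z X ⟶ P) : ∃ x : ev P X, τ P x = f := by
  obtain ⟨x, hx⟩ := exists_ev (X := X) P (fun i => f.app (op (X.obj i).left)
    (FreeAbelianGroup.of (T.mk (X := X) i (𝟙 (X.obj i).left))))
  refine ⟨x, Z_hom_ext P fun V t => ?_⟩
  induction t using T.ind with | h i g => ?_
  rw [τ_app_mk, hx]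
  have h1 := congrArg (fun k => k.hom (FreeAbelianGroup.of (T.mk (X := X) i (𝟙 (X.obj i).left))))
    (f.naturality g.op)
  refine Eq.trans h1.symm ?_
  change f.app (op V) (FreeAbelianGroup.map (T.res g) (FreeAbelianGroup.of _)) = _
  rw [FreeAbelianGroup.map_of_apply, T.res_mk, Category.comp_id]

lemma Zmap_τ (g : X ⟶ Y) (x : ev P Y) : Zmap g ≫ τ P x = τ P (evMap P g x) := by
  refine Z_hom_ext P fun V t => ?_
  induction t using T.ind with | h i f => ?_
  rw [τ_app_mk, comp_evMap]
  change (τ P x).app (op V) ((Zmap g).app (op V) (FreeAbelianGroup.of (T.mk i f))) = _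
  rw [Zmap_app_of]
  refine Eq.trans (congrArg (fun z => (τ P x).app (op V) (FreeAbelianGroup.of z)) (T.map_mk g i f)) ?_
  rw [τ_app_mk, op_comp, P.map_comp]
  rfl

lemma τ_zsmul_sum {ι : Type*} (s : Finset ι) (c : ι → ℤ) (x : ι → ev P X) :
    τ P (∑ j ∈ s, c j • x j) = ∑ j ∈ s, c j • τ P (x j) := by
  refine Z_hom_ext P fun V t => ?_
  rw [sum_app_apply, τ_app_of, comp_sum, map_sum]
  refine Finset.sum_congr rfl fun j _ => ?_
  rw [comp_zsmul, map_zsmul, τ_app_of]

end

end Free

/-! ### The Čech complex of an injective presheaf -/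

section Vanish

variable {C : Type u} [Category.{v} C] {U : C}
variable [HasFiniteProducts (Over U)] {ι : Type w} (Uf : ι → Over U) (P : Cᵒᵖ ⥤ AddCommGrpCat.{w})

/-- the differential of the Čech complex in terms of `evMap` -/
lemma cech_d (n : ℕ) : (EtCech.cechComplex Uf P).d n (n + 1) =
    ∑ j : Fin (n + 2), (-1 : ℤ) ^ (j : ℕ) • evMap P (face (FormalCoproduct.mk ι Uf) n j) := by
  change (AlgebraicTopology.AlternatingCofaceMapComplex.obj
    ((FormalCoproduct.cosimplicialObjectFunctor (FormalCoproduct.mk ι Uf).cech).obj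
      ((Over.forget U).op ⋙ P))).d n (n + 1) = _
  refine (by simp [AlgebraicTopology.AlternatingCofaceMapComplex.obj] : _ = 
    AlgebraicTopology.AlternatingCofaceMapComplex.objD ((FormalCoproduct.cosimplicialObjectFunctor (FormalCoproduct.mk ι Uf).cech).obj
      ((Over.forget U).op ⋙ P)) n).trans ?_
  rfl

lemma sum_apply {A B : AddCommGrpCat.{w}} {κ : Type*} (s : Finset κ) (c : κ → ℤ) (g : κ → (A ⟶ B)) (x : A) :
    (∑ j ∈ s, c j • g j) x = ∑ j ∈ s, c j • g j x := by
  classical
  induction s using Finset.induction_on with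
  | empty => simp
  | insert a s ha ih =>
    rw [Finset.sum_insert ha, Finset.sum_insert ha, ← ih]
    rfl

variable [LocallySmall.{w} C]

lemma τ_zero {X : FormalCoproduct.{w} (Over U)} : τ (X := X) P 0 = 0 := by
  have h := τ_zsmul_sum (X := X) P (∅ : Finset (Fin 0)) (fun _ => 0) (fun _ => 0)
  simpa using h

lemma dZ_τ (n : ℕ) (x : ev P ((FormalCoproduct.mk ι Uf).power (Fin (n + 1)))) :
    dZ (FormalCoproduct.mk ι Uf) n ≫ τ P x = τ P ((EtCech.cechComplex Uf P).d n (n + 1) x) := by
  have h : (EtCech.cechComplex Uf P).d n (n + 1) x = 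
    ∑ j : Fin (n + 2), (-1 : ℤ) ^ (j : ℕ) • evMap P (face (FormalCoproduct.mk ι Uf) n j) x := by
    rw [cech_d]
    exact sum_apply _ _ _ _
  refine Eq.trans ?_ (congrArg (τ (X := (FormalCoproduct.mk ι Uf).power (Fin (n + 2))) P) h.symm)
  rw [τ_zsmul_sum]
  unfold dZ
  rw [Preadditive.sum_comp]
  refine Finset.sum_congr rfl fun j _ => ?_
  rw [Preadditive.zsmul_comp, Zmap_τ]

theorem isZero_cechH_of_injective (I : Cᵒᵖ ⥤ AddCommGrpCat.{w}) [Injective I] (p : ℕ) :
    IsZero (EtCech.cechH Uf I (p + 1)) := by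
  change IsZero ((EtCech.cechComplex Uf I).homology (p + 1))
  rw [← HomologicalComplex.exactAt_iff_isZero_homology,
    HomologicalComplex.exactAt_iff' _ p (p + 1) (p + 2) (by simp) (by simp), ShortComplex.ab_exact_iff]
  intro x hx
  have h1 : dZ (FormalCoproduct.mk ι Uf) (p + 1) ≫ τ I x = 0 := by
    rw [dZ_τ]
    refine Eq.trans (congrArg (τ I) hx) ?_
    exact τ_zero I
  have hex := exact (FormalCoproduct.mk ι Uf) p
  let f : Z ((FormalCoproduct.mk ι Uf).power (Fin (p + 1))) ⟶ I := hex.descToInjective (τ I x) h1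
  obtain ⟨y, hy⟩ := τ_surj I f
  refine ⟨y, τ_inj I ?_⟩
  refine (dZ_τ Uf I p y).symm.trans ?_
  rw [hy]
  exact hex.comp_descToInjective (τ I x) h1

end Vanish

end Groth.Agent.Etcore.CechFree
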