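import Groth.Agent.Etbase.EtSections
import Mathlib.AlgebraicGeometry.Morphisms.FlatMono

/-!
Extension by zero of a section of an abelian etale sheaf from a clopen subobject.
-/

set_option autoImplicit false
open CategoryTheory CategoryTheory.Limits AlgebraicGeometry Opposite
universe u

namespace Groth.Agent.Etcore.ClopenExt

open Groth.Agent.Etbase Groth.Agent.Etbase.EtSections

variable {X : Scheme.{u}}

/-- sections over an empty scheme are trivial. -/
theorem subsingleton_sect_of_isEmpty (F : EtCoh.Ab X) (V : X.Etale)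
    [IsEmpty V.left] : Subsingleton (EtCoh.sect F V) :=
  ⟨fun s t => EtSite.sect_ext F V s t (fun x => (IsEmpty.false x).elim)⟩

/-- `f` is the inclusion of a clopen subobject in the small etale site. -/
structure IsClopen {V P : X.Etale} (γ : V ⟶ P) : Prop where
  mono : Mono γ.left
  closed : IsClosed (Set.range γ.left)

theorem isOpenImmersion_left {V P : X.Etale} (γ : V ⟶ P) (h : Mono γ.left) :
    IsOpenImmersion γ.left := by
  have : AlgebraicGeometry.Etale γ.left := EtSite.etale_left γ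
  have : Mono γ.left := h
  exact IsOpenImmersion.of_flat_of_mono γ.left

/-- morphisms with image in the image of `γ` factor through `γ`. -/
theorem exists_fac {V P W : X.Etale} (γ : V ⟶ P) (hγ : Mono γ.left) (g : W ⟶ P)
    (hg : Set.range g.left ⊆ Set.range γ.left) : ∃ h : W ⟶ V, h ≫ γ = g := by
  have := isOpenImmersion_left γ hγ
  have hfac := IsOpenImmersion.lift_fac γ.left g.left hg
  have w1 : γ.left ≫ P.hom = V.hom := MorphismProperty.Over.w γ
  have w2 : g.left ≫ P.hom = W.hom := MorphismProperty.Over.w g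
  refine ⟨MorphismProperty.Over.homMk (IsOpenImmersion.lift γ.left g.left hg) ?_, ?_⟩
  · calc IsOpenImmersion.lift γ.left g.left hg ≫ V.hom
        = IsOpenImmersion.lift γ.left g.left hg ≫ γ.left ≫ P.hom := congrArg (_ ≫ ·) w1.symm
      _ = (IsOpenImmersion.lift γ.left g.left hg ≫ γ.left) ≫ P.hom := (Category.assoc _ _ _).symm
      _ = g.left ≫ P.hom := congrArg (· ≫ P.hom) hfac
      _ = W.hom := w2
  · exact MorphismProperty.Over.Hom.ext hfac

theorem fac_unique {V P W : X.Etale} (γ : V ⟶ P) (hγ : Mono γ.left) (h h' : W ⟶ V)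
    (e : h ≫ γ = h' ≫ γ) : h = h' := by
  apply MorphismProperty.Over.Hom.ext
  have : (h ≫ γ).left = (h' ≫ γ).left := by rw [e]
  exact (cancel_mono γ.left).1 this

/-- the open subobject of `P` given by an open subset. -/
noncomputable def openObj (P : X.Etale) (O : P.left.Opens) : X.Etale :=
  Scheme.Etale.mk (O.ι ≫ P.hom)

noncomputable def openHom (P : X.Etale) (O : P.left.Opens) : openObj P O ⟶ P :=
  MorphismProperty.Over.homMk O.ι rfl

theorem range_openHom (P : X.Etale) (O : P.left.Opens) :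
    Set.range (openHom P O).left = (O : Set P.left) :=
  Scheme.Opens.range_ι O

theorem exists_ext (F : EtCoh.Ab X) {V P : X.Etale} (γ : V ⟶ P) (hγ : IsClopen γ)
    (s : EtCoh.sect F V) :
    ∃ t : EtCoh.sect F P, F.obj.map γ.op t = s ∧
      ∀ (W : X.Etale) (g : W ⟶ P), Disjoint (Set.range g.left) (Set.range γ.left) →
        F.obj.map g.op t = 0 := by
  classical
  let R : Sieve P :=
    { arrows := fun W g => (∃ h : W ⟶ V, h ≫ γ = g) ∨
        Disjoint (Set.range g.left) (Set.range γ.left)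
      downward_closed := by
        rintro W W' g (⟨h, rfl⟩ | hd) k
        · exact Or.inl ⟨k ≫ h, by rw [Category.assoc]⟩
        · refine Or.inr (hd.mono_left ?_)
          rintro _ ⟨w, rfl⟩
          exact ⟨k.left w, rfl⟩ }
  let a : ∀ (W : X.Etale) (g : W ⟶ P), R g → EtCoh.sect F W := fun W g _ =>
    if h : ∃ h : W ⟶ V, h ≫ γ = g then F.obj.map h.choose.op s else 0
  have ha1 : ∀ (W : X.Etale) (g : W ⟶ P) (hg : R g) (h : W ⟶ V) (e : h ≫ γ = g),
      a W g hg = F.obj.map h.op s := by
    intro W g hg h e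
    have h1 : ∃ h : W ⟶ V, h ≫ γ = g := ⟨h, e⟩
    have h2 : h1.choose = h := fac_unique γ hγ.mono _ _ (h1.choose_spec.trans e.symm)
    simp only [a]
    rw [dif_pos h1, h2]
  have ha2 : ∀ (W : X.Etale) (g : W ⟶ P) (hg : R g)
      (_ : Disjoint (Set.range g.left) (Set.range γ.left)), a W g hg = 0 := by
    intro W g hg hd
    by_cases h1 : ∃ h : W ⟶ V, h ≫ γ = g
    · obtain ⟨h, rfl⟩ := h1
      have : IsEmpty W.left := ⟨fun w => Set.disjoint_left.1 hd ⟨w, rfl⟩ ⟨h.left w, rfl⟩⟩
      exact (subsingleton_sect_of_isEmpty F W).elim _ _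
    · simp only [a]
      rw [dif_neg h1]
  obtain ⟨t, ht⟩ := exists_glue F P R (by
    intro p
    by_cases hp : p ∈ Set.range γ.left
    · obtain ⟨v, hv⟩ := hp
      exact ⟨V, γ, v, Or.inl ⟨𝟙 V, Category.id_comp γ⟩, hv⟩
    · let O : P.left.Opens := ⟨(Set.range γ.left)ᶜ, hγ.closed.isOpen_compl⟩
      have hp' : p ∈ Set.range (openHom P O).left := by
        rw [range_openHom]; exact hp
      obtain ⟨v, hv⟩ := hp'
      refine ⟨openObj P O, openHom P O, v, Or.inr ?_, hv⟩
      rw [range_openHom]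
      exact disjoint_compl_left) a (by
    intro W W' g hg k hk
    have hg' := hg
    rcases hg' with ⟨h, rfl⟩ | hd
    · rw [ha1 W _ hg h rfl, ha1 W' _ hk (k ≫ h) (Category.assoc _ _ _), map_map]
    · rw [ha2 W g hg hd, map_zero, ha2 W' _ hk]
      refine hd.mono_left ?_
      rintro _ ⟨w, rfl⟩
      exact ⟨k.left w, rfl⟩)
  refine ⟨t, ?_, ?_⟩
  · have hg : R γ := Or.inl ⟨𝟙 V, Category.id_comp γ⟩
    rw [ht V γ hg, ha1 V γ hg (𝟙 V) (Category.id_comp γ)]
    rw [op_id, F.obj.map_id]
    rfl
  · intro W g hd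
    have hg : R g := Or.inr hd
    rw [ht W g hg, ha2 W g hg hd]

theorem ext_unique (F : EtCoh.Ab X) {V P : X.Etale} (γ : V ⟶ P) (hγ : IsClopen γ)
    (t t' : EtCoh.sect F P) (h1 : F.obj.map γ.op t = F.obj.map γ.op t')
    (h2 : ∀ (W : X.Etale) (g : W ⟶ P), Disjoint (Set.range g.left) (Set.range γ.left) →
        F.obj.map g.op t = F.obj.map g.op t') : t = t' := by
  apply EtSite.sect_ext
  intro p
  by_cases hp : p ∈ Set.range γ.left
  · obtain ⟨v, hv⟩ := hp
    exact ⟨V, γ, v, hv, h1⟩
  · let O : P.left.Opens := ⟨(Set.range γ.left)ᶜ, hγ.closed.isOpen_compl⟩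
    have hp' : p ∈ Set.range (openHom P O).left := by
      rw [range_openHom]; exact hp
    obtain ⟨v, hv⟩ := hp'
    refine ⟨openObj P O, openHom P O, v, hv, h2 _ _ ?_⟩
    rw [range_openHom]
    exact disjoint_compl_left

/-- extension by zero of sections along a clopen subobject, as a homomorphism. -/
noncomputable def extHom (F : EtCoh.Ab X) {V P : X.Etale} (γ : V ⟶ P) (hγ : IsClopen γ) :
    EtCoh.sect F V →+ EtCoh.sect F P :=
  AddMonoidHom.mk' (fun s => (exists_ext F γ hγ s).choose) (by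
    intro s s'
    have h := (exists_ext F γ hγ s).choose_spec
    have h' := (exists_ext F γ hγ s').choose_spec
    have h'' := (exists_ext F γ hγ (s + s')).choose_spec
    apply ext_unique F γ hγ
    · rw [map_add, h.1, h'.1, h''.1]
    · intro W g hd
      rw [map_add, h.2 W g hd, h'.2 W g hd, h''.2 W g hd, add_zero])

theorem map_extHom (F : EtCoh.Ab X) {V P : X.Etale} (γ : V ⟶ P) (hγ : IsClopen γ)
    (s : EtCoh.sect F V) : F.obj.map γ.op (extHom F γ hγ s) = s :=
  (exists_ext F γ hγ s).choose_spec.1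

theorem map_extHom_of_disjoint (F : EtCoh.Ab X) {V P : X.Etale} (γ : V ⟶ P) (hγ : IsClopen γ)
    (s : EtCoh.sect F V) {W : X.Etale} (g : W ⟶ P)
    (hd : Disjoint (Set.range g.left) (Set.range γ.left)) :
    F.obj.map g.op (extHom F γ hγ s) = 0 :=
  (exists_ext F γ hγ s).choose_spec.2 W g hd

end Groth.Agent.Etcore.ClopenExt
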