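import Groth.Agent.CurvesA.DivCls
import Groth.Agent.Etcore.Herbrand
import Groth.Agent.CurvesA.Torsor
import Groth.Prelude.Def_EtCore

/-!
# Units and Picard group of an open subset of a Dedekind scheme in terms of divisors

* `kerDiv`: `H⁰(X, G_m)` is the kernel of `div`.
* `cokerDiv`: `H¹(X, G_m)` is the cokernel of `div` if `H¹(X, j_* G_m) = 0`.
* `div_open`: compatibility of `div` with restriction to open subschemes.
* `count`: the resulting relation between the cardinalities.
-/

set_option autoImplicit false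
universe u

open CategoryTheory CategoryTheory.Limits AlgebraicGeometry Opposite TopologicalSpace

namespace Groth.Agent.Etcore.CurveDiv

open CurvesA CurvesA.DivPoint CurvesA.DivSheaf CurvesA.DivTop CurvesA.RatSec CurvesA.OrdMap CurvesA.GmFunct Herbrand

section single

variable {X : Scheme.{u}} [IsIntegral X] [IsLocallyNoetherian X] [CompactSpace X] (hX : IsDed X)

/-- Global units as rational functions. -/
noncomputable def unitsToRat :
    EtCoh.sect (EtCoh.Gm X) (EtCoh.top X) →+ Additive (X.functionField)ˣ :=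
  (ratEquiv X).symm.toAddMonoidHom.comp ((gmMap (j X)).hom.app (op (EtCoh.top X))).hom

include hX in
theorem unitsToRat_injective : Function.Injective (unitsToRat (X := X)) :=
  (ratEquiv X).symm.injective.comp (gmMap_injective hX (EtCoh.top X))

theorem div_eq_zero_iff (f : Additive (X.functionField)ˣ) :
    div hX f = 0 ↔ ∃ s, unitsToRat s = f := by
  have h1 : div hX f = divHom hX (((dv X).hom.app (op (EtCoh.top X))).hom (ratEquiv X f)) := rfl
  rw [h1, map_eq_zero_iff _ (divHom_bijective hX).1]
  constructor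
  · intro h
    obtain ⟨s, hs⟩ := Torsor.sections_exact (seq_shortExact hX) (EtCoh.top X) (ratEquiv X f) h
    refine ⟨s, ?_⟩
    change (ratEquiv X).symm _ = f
    rw [AddEquiv.symm_apply_eq]
    exact hs
  · rintro ⟨s, rfl⟩
    have h2 : ratEquiv X (unitsToRat s) = ((gmMap (j X)).hom.app (op (EtCoh.top X))).hom s :=
      (ratEquiv X).apply_symm_apply _
    rw [h2]
    have h3 := congrArg (fun φ => (φ.hom.app (op (EtCoh.top X))).hom s) (gmMap_dv X)
    exact h3

/-- `H⁰(X, G_m)` is the kernel of `div`. -/
noncomputable def kerDiv : EtCoh.H X (EtCoh.Gm X) 0 ≃+ (div hX).ker :=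
  (Sheaf.H.equiv₀ (EtCoh.Gm X) (EtCore.topIsTerminal X)).trans
    (AddEquiv.ofBijective
      ({ toFun := fun s => ⟨unitsToRat s, (div_eq_zero_iff hX _).2 ⟨s, rfl⟩⟩
         map_zero' := Subtype.ext (map_zero _)
         map_add' := fun a b => Subtype.ext (map_add _ _ _) } :
          EtCoh.sect (EtCoh.Gm X) (EtCoh.top X) →+ (div hX).ker)
      ⟨fun a b h => unitsToRat_injective hX (congrArg Subtype.val h), fun f => by
        obtain ⟨s, hs⟩ := (div_eq_zero_iff hX _).1 f.2
        exact ⟨s, Subtype.ext hs⟩⟩)

/-- `H¹(X, G_m)` is the cokernel of `div`. -/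
noncomputable def cokerDiv (hH : Subsingleton (EtCoh.H X (jGm X) 1)) :
    (({x : X // x ≠ genericPoint X} →₀ ℤ) ⧸ (div hX).range) ≃+ EtCoh.H X (EtCoh.Gm X) 1 :=
  (QuotientAddGroup.quotientAddEquivOfEq (by
    ext E
    rw [AddMonoidHom.mem_ker, DivCls.divCls_eq_zero_iff]
    rfl)).trans
  (QuotientAddGroup.quotientKerEquivOfSurjective (DivCls.divCls hX) (DivCls.divCls_surjective hX hH))

end single

end Groth.Agent.Etcore.CurveDiv
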