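import Groth.Agent.Etcore.CurveDiv

/-!
# Divisors of rational functions and open subschemes
-/

set_option autoImplicit false
set_option linter.unusedSectionVars false
universe u

open CategoryTheory CategoryTheory.Limits AlgebraicGeometry Opposite TopologicalSpace

namespace Groth.Agent.Etcore.CurveDivOpen

open CurvesA CurvesA.DivPoint CurvesA.DivSheaf CurvesA.DivTop CurvesA.RatSec CurvesA.OrdMap
  CurvesA.GmFunct Herbrand CurveDiv

variable {X : Scheme.{u}} [IsIntegral X] (U : X.Opens) [Nonempty U]

theorem ι_genericPoint : U.ι (genericPoint (U : Scheme.{u})) = genericPoint X :=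
  genericPoint_eq_of_isOpenImmersion U.ι

/-- function fields of open subschemes -/
noncomputable def θ : X.functionField ⟶ (U : Scheme.{u}).functionField :=
  X.presheaf.stalkSpecializes (specializes_of_eq (ι_genericPoint U)) ≫
    U.ι.stalkMap (genericPoint (U : Scheme.{u}))

instance isIso_θ : IsIso (θ U) := by
  have h1 : IsIso (X.presheaf.stalkSpecializes (specializes_of_eq (ι_genericPoint U))) :=
    inferInstanceAs (IsIso (X.presheaf.stalkCongr (.of_eq (ι_genericPoint U))).inv)
  unfold θ
  infer_instance

/-- compatibility with the local rings -/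
theorem stalk_θ (u : (U : Scheme.{u})) :
    X.presheaf.stalkSpecializes (genericPoint_specializes (U.ι u)) ≫ θ U =
      U.ι.stalkMap u ≫ (U : Scheme.{u}).presheaf.stalkSpecializes (genericPoint_specializes u) := by
  rw [θ, ← Category.assoc, TopCat.Presheaf.stalkSpecializes_comp]
  exact Scheme.Hom.stalkSpecializes_stalkMap U.ι (genericPoint (U : Scheme.{u})) u
    (genericPoint_specializes u)

/-- rational functions on open subschemes -/
noncomputable def ratOpen : Additive (X.functionField)ˣ ≃+ Additive ((U : Scheme.{u}).functionField)ˣ :=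
  MulEquiv.toAdditive (Units.mapEquiv (asIso (θ U)).commRingCatIsoToRingEquiv.toMulEquiv)

theorem ι_ne (u : (U : Scheme.{u})) (hu : u ≠ genericPoint (U : Scheme.{u})) :
    U.ι u ≠ genericPoint X := by
  intro h
  apply hu
  apply Subtype.val_injective
  rw [← ι_genericPoint U] at h
  exact h

/-- non-generic points of open subschemes -/
def pt (u : {u : (U : Scheme.{u}) // u ≠ genericPoint (U : Scheme.{u})}) :
    {x : X // x ≠ genericPoint X} := ⟨U.ι u.1, ι_ne U u.1 u.2⟩

theorem pt_injective : Function.Injective (pt U) := by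
  intro a b h
  apply Subtype.ext
  apply Subtype.val_injective
  exact congrArg (fun z : {x : X // x ≠ genericPoint X} => z.1) h

variable (hX : IsDed X) (hU : IsDed (U : Scheme.{u}))

theorem ordAt_ratOpen [IsLocallyNoetherian X] (f : Additive (X.functionField)ˣ)
    (u : {u : (U : Scheme.{u}) // u ≠ genericPoint (U : Scheme.{u})}) :
    ordAt hU u (ratOpen U f) = ordAt hX (pt U u) f := by
  have h1 : IsDiscreteValuationRing (X.presheaf.stalk (U.ι u.1)) := hX _ (pt U u).2
  have h2 : IsDiscreteValuationRing ((U : Scheme.{u}).presheaf.stalk u.1) := hU _ u.2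
  have h3 := map_maximalIdeal U.ι u.1
  let _ := (U.ι.stalkMap u.1).hom.toAlgebra
  exact DvrExt.ordU_map (X.presheaf.stalk (U.ι u.1)) ((U : Scheme.{u}).presheaf.stalk u.1)
    X.functionField (U : Scheme.{u}).functionField h3 (θ U).hom
    (congrArg CommRingCat.Hom.hom (stalk_θ U u.1)) f

/-- restriction of divisors -/
noncomputable def resDiv : ({x : X // x ≠ genericPoint X} →₀ ℤ) →+
    ({u : (U : Scheme.{u}) // u ≠ genericPoint (U : Scheme.{u})} →₀ ℤ) :=
  Finsupp.comapDomain.addMonoidHom (pt_injective U)

theorem resDiv_apply (E : {x : X // x ≠ genericPoint X} →₀ ℤ)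
    (u : {u : (U : Scheme.{u}) // u ≠ genericPoint (U : Scheme.{u})}) :
    resDiv U E u = E (pt U u) := rfl

theorem resDiv_surjective : Function.Surjective (resDiv U) := by
  intro E
  refine ⟨Finsupp.mapDomain (pt U) E, ?_⟩
  ext u
  rw [resDiv_apply, Finsupp.mapDomain_apply (pt_injective U)]

theorem div_ratOpen [IsLocallyNoetherian X] [CompactSpace X] [CompactSpace (U : Scheme.{u})]
    [IsLocallyNoetherian (U : Scheme.{u})]
    (f : Additive (X.functionField)ˣ) : div hU (ratOpen U f) = resDiv U (div hX f) := by
  ext u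
  rw [resDiv_apply, div_apply, div_apply, ordAt_ratOpen U hX hU]

end Groth.Agent.Etcore.CurveDivOpen
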