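import Groth.Agent.S0203
import Groth.Agent.S0224
import Groth.Agent.S0225
import Groth.Agent.S0662
import Groth.Agent.S0663
import Groth.Agent.CurvesA.MuConst
import Groth.Agent.Etrest.SHPoint
import Groth.Agent.Etrest.HConstIso
import Groth.Agent.Etrest.ConstBasic
import Groth.Agent.Sga4B.HTools
import Groth.Agent.Ega2.NormalCompl
import Groth.Agent.Ega2.SmoothBdry

/-!
# Finiteness of étale cohomology of normal curves with `ℤ/n`-coefficients
-/

set_option autoImplicit false

universe u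

open CategoryTheory CategoryTheory.Limits AlgebraicGeometry Opposite

namespace Groth.Agent.Etcore.CurveZlSmooth

theorem isTorsion_const (X : Scheme.{u}) (n : ℕ) (hn : 1 ≤ n) :
    EtCoh.IsTorsion (EtCoh.const X (ZMod n)) :=
  Etrest.ConstBasic.isTorsion_of_killedBy (n := n) (by omega)
    (Etrest.ConstBasic.killedBy_const X (ZMod n) n (fun m => by simp))

/-- Smooth proper curves. -/
theorem finite_of_smoothProper (k : Type u) [Field k] [IsAlgClosed k] (X : Scheme.{u})
    (f : X ⟶ Spec (CommRingCat.of k)) (hX : Curve.IsSmoothProperCurve k X f)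
    (n : ℕ) (hn : 1 ≤ n) (hnk : (n : k) ≠ 0) (q : ℕ) :
    Finite (EtCoh.H X (EtCoh.const X (ZMod n)) q) := by
  let : X.Over (Spec (CommRingCat.of k)) := ⟨f⟩
  have : NeZero n := ⟨by omega⟩
  obtain ⟨h1, h2, h3, h4⟩ := hX
  match q with
  | 0 =>
    obtain ⟨e⟩ := Etrest.SHPoint.nonempty_H0_const X (ZMod n)
    exact Finite.of_equiv _ e.symm.toEquiv
  | 1 =>
    obtain ⟨e⟩ := S0224.result k X ⟨h1, h2, h3, h4⟩ _ rfl n hn hnk
    exact Finite.of_equiv _ e.symm.toEquiv
  | 2 =>
    obtain ⟨e⟩ := S0225.result k X ⟨h1, h2, h3, h4⟩ n hn hnk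
    exact Finite.of_equiv _ e.symm.toEquiv
  | q + 3 =>
    have := S0203.result k X f h4.le _ (isTorsion_const X n hn) (q + 3) (by omega)
    infer_instance

/-- Complements of finitely many points in smooth proper curves. -/
theorem finite_of_open (k : Type u) [Field k] [IsAlgClosed k] (X : Scheme.{u})
    (f : X ⟶ Spec (CommRingCat.of k)) (hX : Curve.IsSmoothProperCurve k X f)
    (U : X.Opens) (hUc : ((U : Set X)ᶜ).Finite) (hU : ((U : Set X)ᶜ).Nonempty)
    (n : ℕ) (hn : 1 ≤ n) (hnk : (n : k) ≠ 0) (q : ℕ) :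
    Finite (EtCoh.H (U : Scheme.{u}) (EtCoh.const (U : Scheme.{u}) (ZMod n)) q) := by
  let : X.Over (Spec (CommRingCat.of k)) := ⟨f⟩
  have : NeZero n := ⟨by omega⟩
  have hr : 1 ≤ Nat.card ↥((U : Set X)ᶜ) := by
    have h1 := hUc.to_subtype
    have h2 := hU.to_subtype
    exact Nat.card_pos
  have hXc := hX
  obtain ⟨h1, h2, h3, h4⟩ := hX
  obtain ⟨e⟩ := CurvesA.MuConst.nonempty_iso_const_mu_of_isSepClosed (X := (U : Scheme.{u})) k n hnk
    (U.ι ≫ f)
  suffices h : Finite (EtCoh.H (U : Scheme.{u}) (EtCoh.mu (U : Scheme.{u}) n) q) from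
    Finite.of_equiv _ (Sga4B.HTools.HCongr e q).symm.toEquiv
  match q with
  | 0 =>
    obtain ⟨⟨e⟩, -⟩ := S0663.result k X hXc U _ hr hUc rfl n hn hnk
    exact Finite.of_equiv _ e.symm.toEquiv
  | 1 =>
    obtain ⟨e⟩ := S0662.result k X hXc _ rfl U _ hr hUc rfl n hn hnk
    exact Finite.of_equiv _ e.symm.toEquiv
  | q + 2 =>
    obtain ⟨-, h⟩ := S0663.result k X hXc U _ hr hUc rfl n hn hnk
    have := h (q + 2) (by omega)
    infer_instance

/-- The normal completion of an integral normal curve, as a smooth proper curve. -/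
theorem exists_smooth_completion (k : Type u) [Field k] [IsAlgClosed k] {C : Scheme.{u}} [IsIntegral C]
    (f : C ⟶ Spec (CommRingCat.of k)) [LocallyOfFiniteType f] [IsSeparated f] [QuasiCompact f]
    (hdim : topologicalKrullDim C = 1) (hnorm : Pi1.IsNormalScheme C) :
    ∃ (Q : Scheme.{u}) (p : Q ⟶ Spec (CommRingCat.of k)) (j : C ⟶ Q), j ≫ p = f ∧
      IsOpenImmersion j ∧ Curve.IsSmoothProperCurve k Q p ∧ (Set.range j.base)ᶜ.Finite := by
  have hcurve : ∀ x : C, IsClosed ({x} : Set C) → ringKrullDim (C.presheaf.stalk x) = 1 := by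
    intro x hx
    let : C.Over (Spec (CommRingCat.of k)) := ⟨f⟩
    have : LocallyOfFiniteType (C ↘ (Spec (CommRingCat.of k))) := ‹LocallyOfFiniteType f›
    have h1 := VarietyB.DimSch.localDim_eq k x
    rw [VarietyB.DimSch.trd_eq_zero_of_isClosed k hx, VarietyB.DimSch.localDim_eq_of_irreducible k,
      ← VarietyB.DimSch.topologicalKrullDim_eq_trd k, hdim] at h1
    simpa using h1.symm
  obtain ⟨Q, p, j, hQi, hjp, hp, hj, hd, hfin, -, hreg, -⟩ :=
    Ega2.NormalCompl.exists_normal_completion k f hcurve hnorm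
  refine ⟨Q, p, j, hjp, hj, ⟨hp, Ega2.SmoothBdry.smooth_of_regular p hreg, hQi, ?_⟩, hfin⟩
  let : Q.Over (Spec (CommRingCat.of k)) := ⟨p⟩
  have : LocallyOfFiniteType (Q ↘ (Spec (CommRingCat.of k))) := inferInstanceAs (LocallyOfFiniteType p)
  have hne : (j.opensRange : Set Q).Nonempty := ⟨_, ⟨genericPoint C, rfl⟩⟩
  rw [VarietyB.DimSch.topologicalKrullDim_eq_trd k,
    ← VarietyB.DimSch.topologicalKrullDim_opens_eq_trd k j.opensRange hne, ← hdim]
  exact (IsHomeomorph.topologicalKrullDim_eq _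
    (Scheme.homeoOfIso (Scheme.Hom.isoOpensRange j)).isHomeomorph).symm

/-- Normal curves. -/
theorem finite_of_normal (k : Type u) [Field k] [IsAlgClosed k] {C : Scheme.{u}} [IsIntegral C]
    (f : C ⟶ Spec (CommRingCat.of k)) [LocallyOfFiniteType f] [IsSeparated f] [QuasiCompact f]
    (hdim : topologicalKrullDim C = 1) (hnorm : Pi1.IsNormalScheme C)
    (n : ℕ) (hn : 1 ≤ n) (hnk : (n : k) ≠ 0) (q : ℕ) :
    Finite (EtCoh.H C (EtCoh.const C (ZMod n)) q) := by
  obtain ⟨Q, p, j, hjp, hj, hQ, hfin⟩ := exists_smooth_completion k f hdim hnorm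
  by_cases h : (Set.range j.base)ᶜ.Nonempty
  · have h1 := finite_of_open k Q p hQ j.opensRange hfin h n hn hnk q
    obtain ⟨e⟩ := Etrest.HConstIso.nonempty_HConst (Scheme.Hom.isoOpensRange j) (ZMod n) q
    exact Finite.of_equiv _ e.toEquiv
  · have hs : Surjective j := ⟨fun y => by
      by_contra hy
      exact h ⟨y, hy⟩⟩
    have hiso : IsIso j := (isIso_iff_isOpenImmersion_and_epi_base j).2 ⟨hj, by
      rw [TopCat.epi_iff_surjective]; exact hs.1⟩
    have h1 := finite_of_smoothProper k Q p hQ n hn hnk q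
    obtain ⟨e⟩ := Etrest.HConstIso.nonempty_HConst (asIso j) (ZMod n) q
    exact Finite.of_equiv _ e.toEquiv

end Groth.Agent.Etcore.CurveZlSmooth
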