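import Mathlib.CategoryTheory.Abelian.Injective.Ext
import Mathlib.Algebra.Homology.DerivedCategory.Ext.Map
import Mathlib.Algebra.Homology.DerivedCategory.Ext.ExactSequences
import Mathlib.Algebra.Homology.DerivedCategory.Ext.EnoughInjectives

/-!
# Comparison of Ext groups along an exact functor

* `cmp F c q : Ext P X q →+ Ext Q (F X) q`, `e ↦ c ≫ F(e)` for `c : Q ⟶ F P`.
* `cmp_bijective`: if this is bijective in degree `0` for all `X` and `Ext Q (F I) (q + 1) = 0` for `I`
  injective, then it is bijective in all degrees.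
-/

set_option autoImplicit false
open CategoryTheory CategoryTheory.Limits CategoryTheory.Abelian

namespace Groth.Agent.Etcore.ExtCompare

universe w w' v v' u u'

variable {A : Type u} [Category.{v} A] [Abelian A] [HasExt.{w} A]
variable {B : Type u'} [Category.{v'} B] [Abelian B] [HasExt.{w'} B]
variable (F : A ⥤ B) [F.Additive] [PreservesFiniteLimits F] [PreservesFiniteColimits F]
variable {P : A} {Q : B} (c : Q ⟶ F.obj P)

/-- The comparison map `e ↦ c ≫ F(e)`. -/
noncomputable def cmp (X : A) (q : ℕ) : Ext.{w} P X q →+ Ext.{w'} Q (F.obj X) q where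
  toFun e := (Ext.mk₀ c).comp (e.mapExactFunctor F) (zero_add q)
  map_zero' := by simp
  map_add' := by intro x y; simp

theorem cmp_apply {X : A} {q : ℕ} (e : Ext.{w} P X q) :
    cmp F c X q e = (Ext.mk₀ c).comp (e.mapExactFunctor F) (zero_add q) := rfl

theorem cmp_comp {X Y : A} {q r s : ℕ} (e : Ext.{w} P X q) (e' : Ext.{w} X Y r) (h : q + r = s) :
    cmp F c Y s (e.comp e' h) = (cmp F c X q e).comp (e'.mapExactFunctor F) h := by
  subst h
  rw [cmp_apply, cmp_apply, Ext.mapExactFunctor_comp, Ext.comp_assoc]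
  all_goals omega

theorem cmp_mk₀ {X : A} (f : P ⟶ X) :
    cmp F c X 0 (Ext.mk₀ f) = Ext.mk₀ (c ≫ F.map f) := by
  rw [cmp_apply, Ext.mapExactFunctor_mk₀, Ext.mk₀_comp_mk₀]

theorem cmp_comp_mk₀ {X Y : A} {q : ℕ} (e : Ext.{w} P X q) (f : X ⟶ Y) :
    cmp F c Y q (e.comp (Ext.mk₀ f) (add_zero q)) =
      (cmp F c X q e).comp (Ext.mk₀ (F.map f)) (add_zero q) := by
  rw [cmp_comp, Ext.mapExactFunctor_mk₀]

theorem cmp_zero_bijective (h0 : ∀ X : A, Function.Bijective (fun f : P ⟶ X => c ≫ F.map f))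
    (X : A) : Function.Bijective (cmp F c X 0) := by
  constructor
  · intro e e' h
    obtain ⟨f, rfl⟩ := (Ext.mk₀_bijective P X).2 e
    obtain ⟨f', rfl⟩ := (Ext.mk₀_bijective P X).2 e'
    rw [cmp_mk₀, cmp_mk₀] at h
    rw [(h0 X).1 ((Ext.mk₀_bijective Q (F.obj X)).1 h)]
  · intro e
    obtain ⟨g, rfl⟩ := (Ext.mk₀_bijective Q (F.obj X)).2 e
    obtain ⟨f, rfl⟩ := (h0 X).2 g
    exact ⟨Ext.mk₀ f, cmp_mk₀ F c f⟩

/-- The comparison map is bijective if it is so in degree zero and the right hand side vanishes on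
injectives. -/
theorem cmp_bijective [EnoughInjectives A]
    (h0 : ∀ X : A, Function.Bijective (fun f : P ⟶ X => c ≫ F.map f))
    (hac : ∀ (I : A) [Injective I] (q : ℕ) (e : Ext.{w'} Q (F.obj I) (q + 1)), e = 0)
    (X : A) (q : ℕ) : Function.Bijective (cmp F c X q) := by
  induction q generalizing X with
  | zero => exact cmp_zero_bijective F c h0 X
  | succ q ih =>
    let I : InjectivePresentation X := Classical.arbitrary _
    let S := ShortComplex.mk _ _ (cokernel.condition I.f)
    have hI : Injective S.X₂ := I.injective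
    have hS : S.ShortExact := { exact := ShortComplex.exact_cokernel I.f }
    have hcl : hS.extClass.mapExactFunctor F = (hS.map_of_exact F).extClass :=
      Ext.mapExactFunctor_extClass F hS
    constructor
    · rw [injective_iff_map_eq_zero]
      intro a ha
      obtain ⟨b, hb⟩ := Ext.covariant_sequence_exact₁ P hS a (Ext.eq_zero_of_injective _)
        (rfl : q + 1 = q + 1)
      subst hb
      have h1 : (cmp F c S.X₃ q b).comp ((hS.map_of_exact F).extClass) (rfl : q + 1 = q + 1) = 0 := by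
        refine Eq.trans ?_ ha
        refine Eq.trans ?_ (cmp_comp F c b hS.extClass rfl).symm
        exact congrArg (fun z => (cmp F c S.X₃ q b).comp z (rfl : q + 1 = q + 1)) hcl.symm
      obtain ⟨d, hd⟩ := Ext.covariant_sequence_exact₃ Q (hS.map_of_exact F) (cmp F c S.X₃ q b)
        (rfl : q + 1 = q + 1) h1
      obtain ⟨d', rfl⟩ := (ih S.X₂).2 d
      have h2 : cmp F c S.X₃ q (d'.comp (Ext.mk₀ S.g) (add_zero q)) = cmp F c S.X₃ q b := by
        rw [cmp_comp_mk₀]
        exact hd
      rw [← (ih S.X₃).1 h2, Ext.comp_assoc_of_second_deg_zero, hS.comp_extClass, Ext.comp_zero]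
    · intro e
      obtain ⟨e', he'⟩ := Ext.covariant_sequence_exact₁ Q (hS.map_of_exact F) e (hac S.X₂ q _)
        (rfl : q + 1 = q + 1)
      obtain ⟨a, rfl⟩ := (ih S.X₃).2 e'
      refine ⟨a.comp hS.extClass rfl, ?_⟩
      refine Eq.trans (cmp_comp F c a hS.extClass rfl) (Eq.trans ?_ he')
      exact congrArg (fun z => (cmp F c S.X₃ q a).comp z (rfl : q + 1 = q + 1)) hcl

end Groth.Agent.Etcore.ExtCompare
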