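import Groth.Prelude.Def_EtCore
import Groth.Agent.S0101

/-!
# Fast instances for abelian étale sheaves

The default instances (`HasSheafify`, `HasExt`, ...) on `EtCoh.Ab X` are large terms, and the kernel is
slow at comparing terms which involve them. `open Groth.Agent.Etcore.FastInst` activates named
instances which are syntactically the ones inside `EtCoh.H`.
-/

set_option autoImplicit false
universe u
open CategoryTheory CategoryTheory.Limits CategoryTheory.Abelian AlgebraicGeometry Opposite

namespace Groth.Agent.Etcore.FastInst

set_option linter.auxLemma false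

attribute [scoped instance 2000] EtCoh.H._proof_1

theorem hasExtAb (X : Scheme.{u}) : HasExt.{u + 1} (EtCoh.Ab X) := EtCoh.H._proof_4 X

attribute [scoped instance 2000] hasExtAb

theorem grothAb (X : Scheme.{u}) : IsGrothendieckAbelian.{u + 1} (EtCoh.Ab X) := inferInstance

attribute [scoped instance 2000] grothAb

theorem enoughAb (X : Scheme.{u}) : EnoughInjectives (EtCoh.Ab X) := inferInstance

attribute [scoped instance 2000] enoughAb

variable {X Y : Scheme.{u}}

theorem pullAdd (f : X ⟶ Y) : @Functor.Additive (EtCoh.Ab Y) (EtCoh.Ab X) _ _
    Abelian.toPreadditive Abelian.toPreadditive (EtCoh.pull f) := EtCore.pull_additive f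

attribute [scoped instance 2000] pullAdd

theorem pushAdd (f : X ⟶ Y) : @Functor.Additive (EtCoh.Ab X) (EtCoh.Ab Y) _ _
    Abelian.toPreadditive Abelian.toPreadditive (EtCoh.push f) := inferInstance

attribute [scoped instance 2000] pushAdd

theorem pullFinColim (f : X ⟶ Y) : PreservesFiniteColimits (EtCoh.pull f) :=
  EtCore.pull_preservesFiniteColimits f

attribute [scoped instance 2000] pullFinColim

theorem pullExact (f : X ⟶ Y) : PreservesFiniteLimits (EtCoh.pull f) :=
  Groth.Agent.S0101.result f

attribute [scoped instance 2000] pullExact

end Groth.Agent.Etcore.FastInst
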