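import Groth.Agent.EtpbcB.BCCalc
import Groth.Agent.EtpbcB.BCIso
import Groth.Agent.Sga4h.RightDer
import Groth.Agent.S0075
import Mathlib.CategoryTheory.Sites.DenseSubsite.SheafEquiv

/-!
# Base change along universal homeomorphisms; composition and cancellation of base change

`BCAt f F g` : for every cartesian square over `g : Y' ⟶ Y` and `f : X ⟶ Y` the higher direct images
`R^q f_* F` are compatible with pullback along `g` (abstract isomorphisms for all `q`, the canonical
map in degree `0`).

* `BCAt.comp` : composition.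
* `bcAt_of_uh` : universal homeomorphisms (integral, universally injective, surjective).
* `BCAt.cancel` : if `h` is a universal homeomorphism and `BCAt f F (h ≫ g)`, then `BCAt f F g`.
-/

set_option autoImplicit false
open CategoryTheory CategoryTheory.Limits AlgebraicGeometry Opposite
universe u

namespace Groth.Agent.Etcore.FieldExt82

open EtCoh Groth.Agent.EtpbcB.BCCalc

variable {X Y Z : Scheme.{u}}

/-- Base change for `R^q f_* F` along `g`. -/
def BCAt (f : X ⟶ Y) (F : Ab X) {Y' : Scheme.{u}} (g : Y' ⟶ Y) : Prop :=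
  ∀ ⦃X' : Scheme.{u}⦄ (f' : X' ⟶ Y') (g' : X' ⟶ X) (h : IsPullback g' f' f g),
    (∀ q : ℕ, Nonempty ((pull g).obj ((Rpush f q).obj F) ≅ (Rpush f' q).obj ((pull g').obj F))) ∧
      IsIso (baseChange0 f g f' g' h.w F)

theorem isDenseSubsite_bc {Y' : Scheme.{u}} (g : Y' ⟶ Y) [Surjective g] [(bc g).IsEquivalence] :
    (bc g).IsDenseSubsite Y.smallEtaleTopology Y'.smallEtaleTopology where
  functorPushforward_mem_iff := by
    intro U S
    refine ⟨fun hS => ?_, fun hS => (coverPreserving_bc g).cover_preserve hS⟩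
    have eY : Y.smallEtaleTopology = (Y.smallPretopology (P := etaleMP) (Q := etaleMP)).toGrothendieck :=
      Scheme.smallGrothendieckTopology_eq_toGrothendieck_smallPretopology Y le_rfl
    have eY' : Y'.smallEtaleTopology =
        (Y'.smallPretopology (P := etaleMP) (Q := etaleMP)).toGrothendieck :=
      Scheme.smallGrothendieckTopology_eq_toGrothendieck_smallPretopology Y' le_rfl
    rw [eY'] at hS
    rw [eY]
    replace hS := (Scheme.mem_toGrothendieck_smallPretopology _ _).1 hS
    refine (Scheme.mem_toGrothendieck_smallPretopology U _).2 ?_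
    intro x
    have hsurj : Surjective (pr g U) := by
      rw [show pr g U = pullback.fst U.hom g from rfl]
      infer_instance
    obtain ⟨x', hx'⟩ := hsurj.surj x
    obtain ⟨V, a, v, ha, -, hv⟩ := hS x'
    obtain ⟨W, b, c, hb, rfl⟩ := ha
    refine ⟨W, b, pr g W (c.left v), hb, inferInstance, ?_⟩
    have h1 : pr g U (((bc g).map b).left (c.left v)) = x := by
      rw [← hx', ← hv, comp_left, Scheme.Hom.comp_apply]
    calc b.left (pr g W (c.left v)) = (pr g W ≫ b.left) (c.left v) := (Scheme.Hom.comp_apply _ _ _).symm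
      _ = (((bc g).map b).left ≫ pr g U) (c.left v) :=
        congrArg (fun k : ((bc g).obj W).left ⟶ U.left => k (c.left v)) (bc_map_left_pr g b).symm
      _ = pr g U (((bc g).map b).left (c.left v)) := Scheme.Hom.comp_apply _ _ _
      _ = x := h1

instance isEquivalence_push {Y' : Scheme.{u}} (g : Y' ⟶ Y) [Surjective g]
    [(bc g).IsEquivalence] : (push g).IsEquivalence := by
  have := isDenseSubsite_bc g
  infer_instance

instance isEquivalence_pull {Y' : Scheme.{u}} (g : Y' ⟶ Y) [Surjective g]
    [(bc g).IsEquivalence] : (pull g).IsEquivalence :=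
  (pullPushAdj g).isEquivalence_left_of_isEquivalence_right

/-- Horizontal composition of base change. -/
theorem BCAt.comp {f : X ⟶ Y} {F : Ab X} {Y' Y'' : Scheme.{u}} {g : Y' ⟶ Y} {h : Y'' ⟶ Y'}
    (hg : BCAt f F g)
    (hh : BCAt (pullback.snd f g) ((pull (pullback.fst f g)).obj F) h) :
    BCAt f F (h ≫ g) := by
  intro X'' f'' k hk
  have hX' : IsPullback (pullback.fst f g) (pullback.snd f g) f g := IsPullback.of_hasPullback f g
  obtain ⟨h', hk', hs⟩ : ∃ h' : X'' ⟶ pullback f g, h' ≫ pullback.fst f g = k ∧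
      h' ≫ pullback.snd f g = f'' ≫ h :=
    ⟨pullback.lift k (f'' ≫ h) (by rw [hk.w, Category.assoc]), pullback.lift_fst _ _ _,
      pullback.lift_snd _ _ _⟩
  have hsq : IsPullback h' f'' (pullback.snd f g) h := by
    refine IsPullback.of_right ?_ hs hX'
    rw [hk']
    exact hk
  subst hk'
  obtain ⟨a1, a2⟩ := hg _ _ hX'
  obtain ⟨b1, b2⟩ := hh _ _ hsq
  refine ⟨fun q => ?_, ?_⟩
  · obtain ⟨a⟩ := a1 q
    obtain ⟨b⟩ := b1 q
    exact ⟨((pullComp g h).symm.app ((Rpush f q).obj F)) ≪≫ (pull h).mapIso a ≪≫ b ≪≫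
      (Rpush f'' q).mapIso ((pullComp (pullback.fst f g) h').app F)⟩
  · have e := baseChange0_hpaste hX'.w hsq.w hk.w F
    have : IsIso ((pullComp g h).hom.app ((push f).obj F) ≫
        baseChange0 f (h ≫ g) f'' (h' ≫ pullback.fst f g) hk.w F) := by
      rw [e]
      infer_instance
    exact IsIso.of_isIso_comp_left ((pullComp g h).hom.app ((push f).obj F)) _

/-- Higher direct images commute with equivalences of sites. -/
theorem bcAt_of_isEquivalence (f : X ⟶ Y) (F : Ab X) {Y' : Scheme.{u}} (g : Y' ⟶ Y)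
    (Hg : (push g).IsEquivalence)
    (Hg' : ∀ ⦃X' : Scheme.{u}⦄ (f' : X' ⟶ Y') (g' : X' ⟶ X), IsPullback g' f' f g →
      (push g').IsEquivalence) :
    BCAt f F g := by
  intro X' f' g' h
  have H1 : (push g').IsEquivalence := Hg' f' g' h
  have H2 : (pull g).IsEquivalence := (pullPushAdj g).isEquivalence_left_of_isEquivalence_right
  have H3 : (pull g').IsEquivalence := (pullPushAdj g').isEquivalence_left_of_isEquivalence_right
  have hI : ∀ I : Ab X', Injective I → Injective ((push g').obj I) := fun I hI =>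
    (push g').asEquivalence.map_injective_iff I |>.2 hI
  refine ⟨fun q => ?_, ?_⟩
  · -- `push g (R^q f'_* G) ≅ R^q f_* (push g' G)`
    let G := (pull g').obj F
    have e1 : ((push g' ⋙ push f).rightDerived q).obj G ≅ (Rpush f q).obj ((push g').obj G) :=
      Sga4h.RightDer.rightDerivedExactComp (push g') hI (push f) q G
    have e2 : ((push f' ⋙ push g).rightDerived q).obj G ≅ (push g).obj ((Rpush f' q).obj G) :=
      Sga4h.RightDer.rightDerivedCompExact (push f') (push g) q G
    have e3 : ((push g' ⋙ push f).rightDerived q).obj G ≅ ((push f' ⋙ push g).rightDerived q).obj G :=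
      (Sga4h.RightDer.rightDerivedIso (sq h.w) q).app G
    have e4 : F ≅ (push g').obj G := asIso ((pullPushAdj g').unit.app F)
    exact ⟨(pull g).mapIso ((Rpush f q).mapIso e4 ≪≫ e1.symm ≪≫ e3 ≪≫ e2) ≪≫
      asIso ((pullPushAdj g).counit.app ((Rpush f' q).obj G))⟩
  · rw [baseChange0]
    have : IsIso ((push f).map ((pullPushAdj g').unit.app F) ≫ (pushComp f g').hom.app _ ≫
        (pushCongr h.w).hom.app _ ≫ (pushComp g f').inv.app ((pull g').obj F)) := inferInstance
    rw [Adjunction.homEquiv_counit]
    infer_instance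

/-- Base change along universal homeomorphisms. -/
theorem bcAt_of_uh (f : X ⟶ Y) (F : Ab X) {Y' : Scheme.{u}} (g : Y' ⟶ Y) [IsIntegralHom g]
    [UniversallyInjective g] [Surjective g] : BCAt f F g := by
  have Hg : (bc g).IsEquivalence := S0075.result g
  refine bcAt_of_isEquivalence f F g inferInstance (fun X' f' g' h => ?_)
  have h1 : IsIntegralHom g' := MorphismProperty.of_isPullback h.flip inferInstance
  have h2 : UniversallyInjective g' := MorphismProperty.of_isPullback h.flip inferInstance
  have h3 : Surjective g' := MorphismProperty.of_isPullback h.flip inferInstance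
  have Hg' : (bc g').IsEquivalence := S0075.result g'
  infer_instance

/-- Cancellation. -/
theorem BCAt.cancel {f : X ⟶ Y} {F : Ab X} {Y' Y'' : Scheme.{u}} {g : Y' ⟶ Y} {h : Y'' ⟶ Y'}
    (hgh : BCAt f F (h ≫ g)) [IsIntegralHom h] [UniversallyInjective h] [Surjective h] :
    BCAt f F g := by
  intro X' f' g' hX'
  have Hh : (bc h).IsEquivalence := S0075.result h
  have Hp : (pull h).IsEquivalence := inferInstance
  have hX'' : IsPullback (pullback.fst f' h) (pullback.snd f' h) f' h := IsPullback.of_hasPullback f' h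
  have hk : IsPullback (pullback.fst f' h ≫ g') (pullback.snd f' h) f (h ≫ g) := hX''.paste_horiz hX'
  obtain ⟨a1, a2⟩ := hgh _ _ hk
  obtain ⟨b1, b2⟩ := bcAt_of_uh f' ((pull g').obj F) h _ _ hX''
  refine ⟨fun q => ?_, ?_⟩
  · obtain ⟨a⟩ := a1 q
    obtain ⟨b⟩ := b1 q
    have e : (pull h).obj ((pull g).obj ((Rpush f q).obj F)) ≅
        (pull h).obj ((Rpush f' q).obj ((pull g').obj F)) :=
      (pullComp g h).app ((Rpush f q).obj F) ≪≫ a ≪≫
        (Rpush (pullback.snd f' h) q).mapIso ((pullComp g' (pullback.fst f' h)).symm.app F) ≪≫ b.symm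
    exact ⟨(pull h).preimageIso e⟩
  · have e := baseChange0_hpaste hX'.w hX''.w hk.w F
    have h1 : IsIso ((pullComp g h).hom.app ((push f).obj F) ≫
        baseChange0 f (h ≫ g) (pullback.snd f' h) (pullback.fst f' h ≫ g') hk.w F) := inferInstance
    rw [e] at h1
    have h2 : IsIso ((pull h).map (baseChange0 f g f' g' hX'.w F)) :=
      IsIso.of_isIso_comp_right _ (baseChange0 f' h (pullback.snd f' h) (pullback.fst f' h) hX''.w
        ((pull g').obj F) ≫ (push (pullback.snd f' h)).map ((pullComp g' (pullback.fst f' h)).hom.app F))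
    exact isIso_of_reflects_iso _ (pull h)

end Groth.Agent.Etcore.FieldExt82
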