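import Groth.Agent.Etcore.FGLim
import Groth.Agent.Etcore.PullbackLim
import Mathlib.RingTheory.Smooth.Field
import Mathlib.RingTheory.Smooth.Locus
import Mathlib.AlgebraicGeometry.Morphisms.Smooth

/-!
# Field extensions of perfect fields as filtered colimits of smooth algebras

`SmSub k K` : the finitely generated smooth `k`-subalgebras of the field `K`, `k` perfect.  It is
directed with union `K`.
-/

set_option autoImplicit false
open CategoryTheory CategoryTheory.Limits AlgebraicGeometry Opposite
universe u

namespace Groth.Agent.Etcore.SmoothSub82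

section Alg

variable (k K : Type u) [Field k] [PerfectField k] [Field K] [Algebra k K]

/-- Finitely generated smooth subalgebras. -/
abbrev SmSub : Type u := {B : Subalgebra k K // B.FG ∧ Algebra.Smooth k B}

/-- Every finitely generated subalgebra is contained in a smooth one. -/
theorem exists_smSub_ge (C : Subalgebra k K) (hC : C.FG) : ∃ D : SmSub k K, C ≤ D.1 := by
  have hft : Algebra.FiniteType k C := (Subalgebra.fg_iff_finiteType C).1 hC
  have hfp : Algebra.FinitePresentation k C := Algebra.FinitePresentation.of_finiteType.1 hft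
  have hess : Algebra.EssFiniteType k (Localization.AtPrime (⊥ : Ideal C)) := by
    have : Algebra.EssFiniteType C (Localization.AtPrime (⊥ : Ideal C)) :=
      Algebra.EssFiniteType.of_isLocalization _ (⊥ : Ideal C).primeCompl
    exact Algebra.EssFiniteType.comp k C _
  have hfr : IsFractionRing C (Localization.AtPrime (⊥ : Ideal C)) := by
    have key : ∀ (M : Submonoid C), (⊥ : Ideal C).primeCompl = M →
        IsLocalization M (Localization.AtPrime (⊥ : Ideal C)) := by
      rintro _ rfl
      infer_instance
    exact key _ (Ideal.primeCompl_bot)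
  have hsm : Algebra.FormallySmooth k (Localization.AtPrime (⊥ : Ideal C)) := by
    let _ : Field (Localization.AtPrime (⊥ : Ideal C)) := IsFractionRing.toField C
    exact Algebra.FormallySmooth.of_perfectField
  obtain ⟨f, hf, hs⟩ := Algebra.IsSmoothAt.exists_notMem_smooth k (⊥ : Ideal C)
  have hf0 : (f : K) ≠ 0 := fun h => hf (by
    rw [Ideal.mem_bot]
    exact Subtype.ext h)
  let g : Localization.Away f →ₐ[k] K := IsLocalization.liftAlgHom (M := Submonoid.powers f) (f := C.val)
    (fun y => by
      obtain ⟨y, n, rfl⟩ := y
      exact (IsUnit.mk0 _ (by simpa using pow_ne_zero n hf0)))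
  have hg : Function.Injective g := by
    refine (IsLocalization.lift_injective_iff (M := Submonoid.powers f) (S := Localization.Away f)
      (g := (C.val : C →+* K)) _).2 fun x y => ?_
    have h1 : Function.Injective (algebraMap C (Localization.Away f)) :=
      IsLocalization.injective (M := Submonoid.powers f) _
        (powers_le_nonZeroDivisors_of_noZeroDivisors (x := f) (fun h => hf0 (by rw [h]; rfl)))
    rw [h1.eq_iff]
    exact Subtype.coe_injective.eq_iff.symm
  have : Algebra.FiniteType k (Localization.Away f) := inferInstance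
  have e : Localization.Away f ≃ₐ[k] g.range := AlgEquiv.ofInjective g hg
  refine ⟨⟨g.range, ?_, Algebra.Smooth.of_equiv e⟩, fun c hc => ?_⟩
  · exact (Subalgebra.fg_iff_finiteType _).2 (Algebra.FiniteType.equiv this e)
  · refine ⟨algebraMap C (Localization.Away f) ⟨c, hc⟩, ?_⟩
    exact IsLocalization.lift_eq (M := Submonoid.powers f) _ (⟨c, hc⟩ : C)

instance : IsDirected (SmSub k K) (· ≤ ·) where
  directed A B := by
    obtain ⟨D, hD⟩ := exists_smSub_ge k K (A.1 ⊔ B.1) (A.2.1.sup B.2.1)
    exact ⟨D, show A.1 ≤ D.1 from le_sup_left.trans hD, show B.1 ≤ D.1 from le_sup_right.trans hD⟩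

instance : Nonempty (SmSub k K) :=
  ⟨(exists_smSub_ge k K ⊥ Subalgebra.fg_bot).choose⟩

/-- The directed system of smooth subalgebras. -/
def smSys : SmSub k K ⥤ CommRingCat.{u} where
  obj B := CommRingCat.of B.1
  map h := CommRingCat.ofHom (Subalgebra.inclusion h.le).toRingHom
  map_id _ := rfl
  map_comp _ _ := rfl

/-- The cocone with point the whole field. -/
def smCocone : Cocone (smSys k K) where
  pt := CommRingCat.of K
  ι :=
    { app := fun B => CommRingCat.ofHom B.1.val.toRingHom
      naturality := fun _ _ _ => rfl }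

theorem nonempty_isColimit_smCocone : Nonempty (IsColimit (smCocone k K)) := by
  apply FGLim.nonempty_isColimit
  · intro (x : K)
    obtain ⟨D, hD⟩ := exists_smSub_ge k K (Algebra.adjoin k {x}) (by
      simpa using Subalgebra.fg_adjoin_finset (R := k) {x})
    exact ⟨D, ⟨x, hD (Algebra.subset_adjoin rfl)⟩, rfl⟩
  · intro B y z h
    exact ⟨B, 𝟙 B, congrArg _ (Subtype.ext h)⟩

end Alg

section Sch

variable (k K : Type u) [Field k] [PerfectField k] [Field K] [Algebra k K] {S : Scheme.{u}}
  (b : S ⟶ Spec (CommRingCat.of k))

open PullbackLim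

/-- Structure maps of the system of spectra. -/
noncomputable def str (a : (SmSub k K)ᵒᵖ) : (specSys (smSys k K)).obj a ⟶ Spec (CommRingCat.of k) :=
  Spec.map (CommRingCat.ofHom (algebraMap k a.unop.1))

omit [PerfectField k] in
theorem str_w ⦃a a' : (SmSub k K)ᵒᵖ⦄ (h : a ⟶ a') :
    (specSys (smSys k K)).map h ≫ str k K a' = str k K a :=
  (Spec.map_comp _ _).symm

/-- `S ⊗_k A`, `A` smooth. -/
noncomputable def overSys : (SmSub k K)ᵒᵖ ⥤ Over S where
  obj a := Over.mk (pullback.fst b (str k K a))
  map h := Over.homMk ((sys (specSys (smSys k K)) (str k K) (str_w k K) b).map h)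
    (mapp_fst (specSys (smSys k K)) (str k K) (str_w k K) b h)
  map_id a := by
    apply Over.OverMorphism.ext
    exact (sys (specSys (smSys k K)) (str k K) (str_w k K) b).map_id a
  map_comp h h' := by
    apply Over.OverMorphism.ext
    exact (sys (specSys (smSys k K)) (str k K) (str_w k K) b).map_comp h h'

theorem smooth_overSys (a : (SmSub k K)ᵒᵖ) : Smooth ((overSys k K b).obj a).hom := by
  change Smooth (pullback.fst b (str k K a))
  have : Smooth (str k K a) := by
    have h1 : Algebra.Smooth k a.unop.1 := a.unop.2.2
    exact (HasRingHomProperty.Spec_iff (P := @Smooth)).2 (RingHom.smooth_algebraMap.2 h1)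
  infer_instance

theorem isAffineHom_overSys ⦃a a' : (SmSub k K)ᵒᵖ⦄ (h : a ⟶ a') :
    IsAffineHom ((overSys k K b).map h).left :=
  isAffineHom_mapp (specSys (smSys k K)) (str k K) (str_w k K) b
    (fun _ _ h => isAffineHom_specSys _ h) h

/-- The structure map of `Spec K`. -/
noncomputable def strK : (specCone (smSys k K) (smCocone k K)).pt ⟶ Spec (CommRingCat.of k) :=
  Spec.map (CommRingCat.ofHom (algebraMap k K))

omit [PerfectField k] in
theorem strK_w (a : (SmSub k K)ᵒᵖ) :
    (specCone (smSys k K) (smCocone k K)).π.app a ≫ str k K a = strK k K :=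
  (Spec.map_comp _ _).symm

/-- The limit cone of `S ⊗_k A` with point `S ⊗_k K`. -/
noncomputable def overCone : Cone (overSys k K b ⋙ Over.forget S) :=
  cone (specSys (smSys k K)) (str k K) (str_w k K) b (specCone (smSys k K) (smCocone k K))
    (strK k K) (strK_w k K)

/-- It is a limit cone. -/
noncomputable def isLimitOverCone : IsLimit (overCone k K b) :=
  isLimitCone (specSys (smSys k K)) (str k K) (str_w k K) b (specCone (smSys k K) (smCocone k K))
    (strK k K) (strK_w k K) (isLimitSpecCone _ _ (nonempty_isColimit_smCocone k K).some)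

end Sch

end Groth.Agent.Etcore.SmoothSub82
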