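import Groth.Agent.Etcore.LimBC1
import Groth.Agent.Etcore.LimEt

/-!
# Vanishing of higher direct images passes to limits
-/

set_option autoImplicit false
universe u
open CategoryTheory CategoryTheory.Limits AlgebraicGeometry Opposite Abelian
open scoped Groth.Agent.Etcore.EtInst
open Groth.Agent.Etcore.EtInst

namespace Groth.Agent.Etcore.LimBC1

open Groth.Agent.Etcore.HQ Groth.Agent.Etcore.HpullCalc

attribute [local instance] pfl

/-- Every class on the limit comes from a finite stage (helper217's theorem `LimEt.exists_hpVia_eq`). -/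
theorem exists_res_eq {I : Type u} [SmallCategory I] [IsCofiltered I] {D : I ⥤ Scheme.{u}}
    [∀ {i j} (f : i ⟶ j), IsAffineHom (D.map f)] {S : Scheme.{u}}
    (p : ∀ i, S ⟶ D.obj i) (hp : ∀ {x y : I} (f : x ⟶ y), p x ≫ D.map f = p y)
    (hc : IsLimit (LimDeg0.coneOf p hp)) {X : Scheme.{u}} (t : ∀ i, D.obj i ⟶ X)
    (ht : ∀ {x y : I} (f : x ⟶ y), D.map f ≫ t y = t x) {q : S ⟶ X}
    (hq : ∀ j, p j ≫ t j = q) (G : EtCoh.Ab X)
    [∀ i, CompactSpace (D.obj i)] [∀ i, QuasiSeparatedSpace (D.obj i)] (n : ℕ) (ξ : HQ G q n) :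
    ∃ (j : I) (ξj : HQ G (t j) n), res G (p j) (hq j) n ξj = ξ := by
  obtain ⟨j, ξj, h⟩ := LimEt.exists_hpVia_eq p hp hc t ht hq G n ξ
  exact ⟨j, ξj, (res_eq_hpVia G (p j) (hq j) n ξj).trans h⟩

theorem limSurj (n : ℕ) : LimSurj.{u} n where
  out D _ _ _ c hc _ t ht _ hq G ξ :=
    exists_res_eq (S := c.pt) (fun i => (c.π.app i : c.pt ⟶ D.obj i)) (fun f => c.w f)
      (hc.ofIsoLimit (Cone.ext (Iso.refl _) (fun _ => (Category.id_comp _).symm))) t ht hq G n ξ

section Main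

variable {I : Type u} [SmallCategory I] [IsCofiltered I] {D : I ⥤ Scheme.{u}}
  [∀ {a b : I} (φ : a ⟶ b), IsAffineHom (D.map φ)] {c : Cone D} (hc : IsLimit c)
  {X Y : Scheme.{u}} {f : X ⟶ Y} [QuasiCompact f] [QuasiSeparated f] {F : EtCoh.Ab X}
  (τ : ∀ a, D.obj a ⟶ Y) (hτ : ∀ ⦃a b : I⦄ (h : a ⟶ b), D.map h ≫ τ b = τ a)
  {t : c.pt ⟶ Y} (ht : ∀ a, c.π.app a ≫ τ a = t) {n : ℕ}

include hc hτ ht in
/-- **(L1)** If `R^n` (`n > 0`) of the base change of `f` to all stages of a cofiltered system of `Y`-schemes with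
affine transition maps kills `F`, then so does `R^n` of the base change to the limit. -/
theorem isZero_Rpush_of_limit (hn : 0 < n)
    (H : ∀ a, IsZero ((EtCoh.Rpush (pullback.snd f (τ a)) n).obj
      ((EtCoh.pull (pullback.fst f (τ a))).obj F)))
    {X' : Scheme.{u}} (f' : X' ⟶ c.pt) (g' : X' ⟶ X) (hsq : IsPullback g' f' f t) :
    IsZero ((EtCoh.Rpush f' n).obj ((EtCoh.pull g').obj F)) := by
  obtain ⟨m, rfl⟩ : ∃ m, n = m + 1 := ⟨n - 1, by omega⟩
  exact isZero_Rpush_of_limit' hc τ hτ ht (limSurj (m + 1)) H f' g' hsq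

end Main

end Groth.Agent.Etcore.LimBC1
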