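import Groth.Agent.CurvesA.SubSheafEt
import Groth.Agent.Etcore.Torsion
import Groth.Agent.EtpbcA.StalkTools
import Groth.Agent.Etrest.AcycTors
import Groth.Agent.Etrest.Eff
import Groth.Agent.EtpbcB.ClosedImmPush

/-!
# The part of an abelian étale sheaf which is torsion of orders invertible on `S`

* `subData`, `tInv`, `ι`: the subsheaf `tInv S J` of `J` of sections which are étale-locally killed by integers
  invertible on `S`;
* `isZero_Rpush`: `R^q f_* (tInv S J) = 0` for `J` injective, `f` qcqs, `q > 0`;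
* `exists_mono`: every sheaf which is torsion of orders invertible on `S` embeds into `tInv S J`, `J` injective.
* `isTorsionInvertibleOn_of_epi`, `isTorsionInvertibleOn_of_mono`.
-/

set_option autoImplicit false
universe u
open CategoryTheory CategoryTheory.Limits AlgebraicGeometry Opposite

namespace Groth.Agent.Etcore.TorInv

open Groth.Agent.CurvesA.SubSheafEt Groth.Agent.EtpbcA.StalkTools

variable {X : Scheme.{u}}

/-- The section `s` is killed near `x` by an integer invertible on `S`. -/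
def At (S : Scheme.{u}) {F : EtCoh.Ab X} {U : X.Etale} (s : EtCoh.sect F U) (x : U.left) : Prop :=
  ∃ (V : X.Etale) (g : V ⟶ U) (n : ℕ),
    (∃ v : V.left, g.left.base v = x) ∧ IsUnit (n : Γ(S, ⊤)) ∧ n • F.obj.map g.op s = 0

theorem map_map_apply (F : EtCoh.Ab X) {U V W : X.Etale} (g : V ⟶ U) (k : W ⟶ V) (s : EtCoh.sect F U) :
    F.obj.map k.op (F.obj.map g.op s) = F.obj.map (k ≫ g).op s := by
  rw [op_comp, F.obj.map_comp]; rfl

theorem at_add (S : Scheme.{u}) {F : EtCoh.Ab X} {U : X.Etale} {s t : EtCoh.sect F U} {x : U.left}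
    (hs : At S s x) (ht : At S t x) : At S (s + t) x := by
  obtain ⟨V₁, g₁, n₁, ⟨v₁, hv₁⟩, hn₁, h₁⟩ := hs
  obtain ⟨V₂, g₂, n₂, ⟨v₂, hv₂⟩, hn₂, h₂⟩ := ht
  obtain ⟨W, p, q, w, hpq, hwp, hwq⟩ :=
    Groth.Agent.Etbase.EtSite.exists_pullback g₁ g₂ v₁ v₂ (hv₁.trans hv₂.symm)
  refine ⟨W, p ≫ g₁, n₁ * n₂, ⟨w, ?_⟩, ?_, ?_⟩
  · change (p.left ≫ g₁.left).base w = x
    rw [Scheme.Hom.comp_base, TopCat.comp_app, hwp, hv₁]
  · rw [Nat.cast_mul]; exact hn₁.mul hn₂
  · have e1 : n₁ • F.obj.map (p ≫ g₁).op s = 0 := by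
      rw [← map_map_apply, ← map_nsmul, h₁, map_zero]
    have e2 : n₂ • F.obj.map (p ≫ g₁).op t = 0 := by
      rw [hpq, ← map_map_apply, ← map_nsmul, h₂, map_zero]
    have e3 : F.obj.map (p ≫ g₁).op (s + t) = F.obj.map (p ≫ g₁).op s + F.obj.map (p ≫ g₁).op t :=
      map_add _ _ _
    rw [e3, smul_add, mul_comm n₁ n₂, mul_smul, e1, smul_zero, zero_add, mul_comm n₂ n₁, mul_smul, e2,
      smul_zero]

theorem at_neg (S : Scheme.{u}) {F : EtCoh.Ab X} {U : X.Etale} {s : EtCoh.sect F U} {x : U.left}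
    (hs : At S s x) : At S (-s) x := by
  obtain ⟨V₁, g₁, n₁, hv₁, hn₁, h₁⟩ := hs
  refine ⟨V₁, g₁, n₁, hv₁, hn₁, ?_⟩
  have e : F.obj.map g₁.op (-s) = -F.obj.map g₁.op s := map_neg _ _
  rw [e, smul_neg, h₁, neg_zero]

theorem at_zero (S : Scheme.{u}) {F : EtCoh.Ab X} {U : X.Etale} (x : U.left) :
    At S (0 : EtCoh.sect F U) x :=
  ⟨U, 𝟙 U, 1, ⟨x, rfl⟩, by rw [Nat.cast_one]; exact isUnit_one, by rw [map_zero, smul_zero]⟩

theorem at_of_at (S : Scheme.{u}) {F : EtCoh.Ab X} {U V : X.Etale} (g : V ⟶ U) {s : EtCoh.sect F U}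
    {v : V.left} (h : At S (F.obj.map g.op s) v) : At S s (g.left v) := by
  obtain ⟨W, k, n, ⟨w, hw⟩, hn, hs⟩ := h
  refine ⟨W, k ≫ g, n, ⟨w, ?_⟩, hn, ?_⟩
  · change (k.left ≫ g.left).base w = _
    rw [Scheme.Hom.comp_base, TopCat.comp_app, hw]
  · rw [← map_map_apply]; exact hs

theorem at_res (S : Scheme.{u}) {F : EtCoh.Ab X} {U V : X.Etale} (g : V ⟶ U) {s : EtCoh.sect F U}
    {v : V.left} (h : At S s (g.left v)) : At S (F.obj.map g.op s) v := by
  obtain ⟨W, k, n, ⟨w, hw⟩, hn, hs⟩ := h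
  obtain ⟨W', p, q, w', hpq, hwp, hwq⟩ := Groth.Agent.Etbase.EtSite.exists_pullback k g w v hw
  refine ⟨W', q, n, ⟨w', hwq⟩, hn, ?_⟩
  rw [map_map_apply, ← hpq, ← map_map_apply, ← map_nsmul, hs, map_zero]

/-- The subsheaf data. -/
def subData (S : Scheme.{u}) (F : EtCoh.Ab X) : SubData F where
  P U :=
    { carrier := {s | ∀ x, At S s x}
      add_mem' := fun hs ht x => at_add S (hs x) (ht x)
      zero_mem' := fun x => at_zero S x
      neg_mem' := fun hs x => at_neg S (hs x) }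
  res f s hs x := at_res S f (hs _)
  loc U s h x := by
    obtain ⟨V, f, v, hv, hs⟩ := h x
    rw [← hv]
    exact at_of_at S f (hs v)

theorem mem_subData (S : Scheme.{u}) {F : EtCoh.Ab X} {U : X.Etale} (s : EtCoh.sect F U) :
    s ∈ (subData S F).P U ↔ ∀ x, At S s x := Iff.rfl

/-- The part of `F` which is torsion of orders invertible on `S`. -/
noncomputable def tInv (S : Scheme.{u}) (F : EtCoh.Ab X) : EtCoh.Ab X := sub (subData S F)

/-- The inclusion. -/
noncomputable def incl (S : Scheme.{u}) (F : EtCoh.Ab X) : tInv S F ⟶ F := ι (subData S F)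

instance (S : Scheme.{u}) (F : EtCoh.Ab X) : Mono (incl S F) := mono_ι _

/-- A map into `F` with values in the invertible torsion factors through `tInv S F`. -/
noncomputable def liftInv (S : Scheme.{u}) {F G : EtCoh.Ab X} (a : G ⟶ F)
    (h : ∀ (U : X.Etale) (s : EtCoh.sect G U), a.hom.app (op U) s ∈ (subData S F).P U) : G ⟶ tInv S F :=
  lift (subData S F) a h

@[reassoc (attr := simp)]
theorem liftInv_incl (S : Scheme.{u}) {F G : EtCoh.Ab X} (a : G ⟶ F)
    (h : ∀ (U : X.Etale) (s : EtCoh.sect G U), a.hom.app (op U) s ∈ (subData S F).P U) :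
    liftInv S a h ≫ incl S F = a := lift_ι _ _ _

theorem isTorsionInvertibleOn_tInv (S : Scheme.{u}) (F : EtCoh.Ab X) :
    EtPBC.IsTorsionInvertibleOn S (tInv S F) := by
  intro U s x
  obtain ⟨V, g, n, hv, hn, h⟩ := s.2 x
  refine ⟨V, g, n, hv, hn, ?_⟩
  apply sect_ext
  exact h

/-- Sheaves of invertible torsion are stable under quotients. -/
theorem isTorsionInvertibleOn_of_epi (S : Scheme.{u}) {F G : EtCoh.Ab X} (p : F ⟶ G) [Epi p]
    (hF : EtPBC.IsTorsionInvertibleOn S F) : EtPBC.IsTorsionInvertibleOn S G := by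
  rw [Torsion.isTorsionInvertibleOn_iff_stalk] at hF ⊢
  intro Ω _ _ ξ t
  obtain ⟨t', rfl⟩ := (epi_iff_stalk p).1 inferInstance Ω ξ t
  obtain ⟨n, hn, h⟩ := hF Ω ξ t'
  refine ⟨n, hn, ?_⟩
  rw [← map_nsmul, h, map_zero]

theorem injective_app_of_mono {F G : EtCoh.Ab X} (φ : G ⟶ F) [Mono φ] (U : X.Etale) :
    Function.Injective (φ.hom.app (op U)) := by
  have h : Mono φ.hom := inferInstanceAs (Mono ((sheafToPresheaf _ _).map φ))
  have h2 : Mono (φ.hom.app (op U)) := inferInstance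
  exact (AddCommGrpCat.mono_iff_injective _).1 h2

/-- Sheaves of invertible torsion are stable under subobjects. -/
theorem isTorsionInvertibleOn_of_mono (S : Scheme.{u}) {F G : EtCoh.Ab X} (p : F ⟶ G) [Mono p]
    (hG : EtPBC.IsTorsionInvertibleOn S G) : EtPBC.IsTorsionInvertibleOn S F := by
  intro U s x
  obtain ⟨V, g, n, hv, hn, h⟩ := hG U (p.hom.app (op U) s) x
  refine ⟨V, g, n, hv, hn, ?_⟩
  apply injective_app_of_mono p V
  have h1 : p.hom.app (op V) (F.obj.map g.op s) = G.obj.map g.op (p.hom.app (op U) s) :=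
    NatTrans.naturality_apply p.hom g.op s
  rw [map_nsmul, h1, h, map_zero]

/-! ### Multiplication by integers -/

theorem eq_zero_of_coprime {G : Type*} [AddCommGroup G] {p n : ℕ} (h : Nat.Coprime p n) {s : G}
    (h1 : p • s = 0) (h2 : n • s = 0) : s = 0 := by
  have h3 := Nat.dvd_gcd (addOrderOf_dvd_of_nsmul_eq_zero h1) (addOrderOf_dvd_of_nsmul_eq_zero h2)
  rw [Nat.Coprime] at h
  rw [h, Nat.dvd_one, AddMonoid.addOrderOf_eq_one_iff] at h3
  exact h3

theorem exists_nsmul_of_coprime {G : Type*} [AddCommGroup G] {p n : ℕ} (h : Nat.Coprime p n) {s : G}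
    (h2 : n • s = 0) : ∃ t : G, p • t = s := by
  obtain ⟨a, b, hab⟩ := (Int.isCoprime_iff_gcd_eq_one (m := p) (n := n)).2 h
  refine ⟨a • s, ?_⟩
  have : (p : ℤ) • a • s = s := by
    rw [smul_smul, mul_comm]
    have h3 : (a * p + b * n : ℤ) • s = s := by rw [hab, one_smul]
    have h4 : (n : ℤ) • s = 0 := by rw [natCast_zsmul]; exact h2
    rw [add_smul, mul_smul b, h4, smul_zero, add_zero] at h3
    exact h3
  rwa [natCast_zsmul] at this

theorem coprime_of_not_isUnit {R : Type*} [CommRing R] {p n : ℕ} (hp : p.Prime) (hpu : ¬ IsUnit (p : R))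
    (hn : IsUnit (n : R)) : Nat.Coprime p n := by
  rw [hp.coprime_iff_not_dvd]
  rintro ⟨k, rfl⟩
  rw [Nat.cast_mul] at hn
  exact hpu (isUnit_of_mul_isUnit_left hn)

/-- A prime which is not invertible on `S` is bijective on sheaves of torsion invertible on `S`. -/
theorem isIso_nsmul_of_not_isUnit (S : Scheme.{u}) {F : EtCoh.Ab X} (hF : EtPBC.IsTorsionInvertibleOn S F)
    {p : ℕ} (hp : p.Prime) (hpu : ¬ IsUnit (p : Γ(S, ⊤))) : IsIso (p • 𝟙 F) := by
  have h1 : Mono (p • 𝟙 F) := by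
    have : ∀ U : X.Etaleᵒᵖ, Mono (((sheafToPresheaf _ _).map (p • 𝟙 F)).app U) := by
      intro U
      change Mono ((p • 𝟙 F : F ⟶ F).hom.app U)
      rw [AddCommGrpCat.mono_iff_injective, injective_iff_map_eq_zero]
      intro s hs
      have hs' : p • (s : EtCoh.sect F U.unop) = 0 := hs
      change (s : EtCoh.sect F U.unop) = 0
      apply Groth.Agent.Etbase.EtSite.sect_eq_zero
      intro x
      obtain ⟨V, g, n, ⟨v, hv⟩, hn, h0⟩ := hF U.unop s x
      refine ⟨V, g, v, hv, ?_⟩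
      apply eq_zero_of_coprime (coprime_of_not_isUnit hp hpu hn) _ h0
      rw [← map_nsmul, hs', map_zero]
    have h : Mono ((sheafToPresheaf _ _).map (p • 𝟙 F)) := NatTrans.mono_of_mono_app _
    exact (sheafToPresheaf _ _).mono_of_mono_map h
  have h2 : Epi (p • 𝟙 F) := by
    rw [epi_iff_locIm]
    intro U s x
    obtain ⟨V, g, n, ⟨v, hv⟩, hn, h0⟩ := hF U s x
    obtain ⟨t, ht⟩ := exists_nsmul_of_coprime (coprime_of_not_isUnit hp hpu hn) h0
    exact ⟨V, g, v, hv, t, ht⟩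
  exact isIso_of_mono_of_epi _

/-- An integer invertible on `S` is surjective on `tInv S J` if it is so on `J`. -/
theorem epi_nsmul_tInv (S : Scheme.{u}) (J : EtCoh.Ab X) {n : ℕ} (hn : IsUnit (n : Γ(S, ⊤)))
    (h : Epi (n • 𝟙 J)) : Epi (n • 𝟙 (tInv S J)) := by
  rw [epi_iff_locIm] at h ⊢
  intro U s x
  obtain ⟨V, g, v, hv, t, ht⟩ := h U s.1 x
  have ht' : n • t = J.obj.map g.op s.1 := ht
  have hmem : t ∈ (subData S J).P V := by
    intro y
    have h1 : At S (n • t) y := by rw [ht']; exact at_res S g (s.2 _)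
    obtain ⟨W, k, m, hw, hm, h0⟩ := h1
    refine ⟨W, k, m * n, hw, ?_, ?_⟩
    · rw [Nat.cast_mul]; exact hm.mul hn
    · rw [mul_smul, ← map_nsmul]; exact h0
  refine ⟨V, g, v, hv, ⟨t, hmem⟩, ?_⟩
  apply sect_ext
  exact ht'

/-- The `n`-torsion of `J` and `tInv S J` agree for `n` invertible on `S`. -/
noncomputable def kernelIso (S : Scheme.{u}) (J : EtCoh.Ab X) {n : ℕ} (hn : IsUnit (n : Γ(S, ⊤))) :
    kernel (n • 𝟙 (tInv S J)) ≅ kernel (n • 𝟙 J) :=
  have h0 : ∀ (U : X.Etale) (s : EtCoh.sect (kernel (n • 𝟙 J)) U),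
      (kernel.ι (n • 𝟙 J)).hom.app (op U) s ∈ (subData S J).P U := by
    intro U s x
    refine ⟨U, 𝟙 U, n, ⟨x, rfl⟩, hn, ?_⟩
    have h1 : (kernel.ι (n • 𝟙 J) ≫ (n • 𝟙 J)).hom.app (op U) s = 0 := by
      rw [kernel.condition]; rfl
    have h2 : n • ((kernel.ι (n • 𝟙 J)).hom.app (op U) s : EtCoh.sect J U) = 0 := h1
    rw [← map_nsmul]
    exact (congrArg _ h2).trans (map_zero _)
  { hom := kernel.lift _ (kernel.ι _ ≫ incl S J) (by
      rw [Etrest.AcycTors.comp_nsmul_id, ← Preadditive.nsmul_comp, Etrest.AcycTors.kernel_nsmul, zero_comp])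
    inv := kernel.lift _ (liftInv S (kernel.ι _) h0) (by
      rw [Etrest.AcycTors.comp_nsmul_id, ← cancel_mono (incl S J), zero_comp, Preadditive.nsmul_comp,
        liftInv_incl, Etrest.AcycTors.kernel_nsmul])
    hom_inv_id := by
      rw [← cancel_mono (kernel.ι _), ← cancel_mono (incl S J)]
      simp only [Category.assoc, kernel.lift_ι, liftInv_incl, Category.id_comp]
    inv_hom_id := by
      rw [← cancel_mono (kernel.ι _)]
      simp only [Category.assoc, kernel.lift_ι, kernel.lift_ι_assoc, liftInv_incl, Category.id_comp] }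

theorem isEmpty_of_subsingleton (S : Scheme.{u}) (h : Subsingleton Γ(S, ⊤)) : IsEmpty S := by
  by_contra hne
  rw [not_isEmpty_iff] at hne
  obtain ⟨s⟩ := hne
  have h1 : (1 : Γ(S, ⊤)) = 0 := Subsingleton.elim _ _
  have h2 := congrArg (S.presheaf.germ ⊤ s trivial) h1
  rw [map_one, map_zero] at h2
  exact one_ne_zero h2

theorem isZero_of_isEmpty {Y : Scheme.{u}} [IsEmpty Y] (F : EtCoh.Ab Y) : IsZero F := by
  rw [IsZero.iff_id_eq_zero]
  ext U s
  have : IsEmpty U.unop.left := ⟨fun x => IsEmpty.false (α := Y) (U.unop.hom x)⟩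
  have h := Groth.Agent.EtpbcB.ClosedImmPush.isZero_of_isEmpty F U.unop
  exact ConcreteCategory.congr_hom (h.eq_of_src (𝟙 _) 0) s

theorem isTorsion_of_isTorsionInvertibleOn (S : Scheme.{u}) [Nontrivial Γ(S, ⊤)] {F : EtCoh.Ab X}
    (hF : EtPBC.IsTorsionInvertibleOn S F) : EtCoh.IsTorsion F := by
  intro U s x
  obtain ⟨V, g, n, hv, hn, h0⟩ := hF U s x
  refine ⟨V, g, hv, isOfFinAddOrder_iff_nsmul_eq_zero.2 ⟨n, ?_, h0⟩⟩
  rw [pos_iff_ne_zero]
  rintro rfl
  rw [Nat.cast_zero] at hn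
  exact not_isUnit_zero hn

theorem mono_nsmul_Rpush {Y : Scheme.{u}} (f : X ⟶ Y) (S : Scheme.{u}) (J : EtCoh.Ab X) [Injective J]
    (q : ℕ) (n : ℕ) (hn : 0 < n) : Mono (n • 𝟙 ((EtCoh.Rpush f (q + 1)).obj (tInv S J))) := by
  have hprime : ∀ p : ℕ, p.Prime → Mono (p • 𝟙 ((EtCoh.Rpush f (q + 1)).obj (tInv S J))) := by
    intro p hp
    by_cases hu : IsUnit (p : Γ(S, ⊤))
    · have hJ := Etrest.InjDiv.isDivisible_of_injective J p hp.pos
      have h1 := epi_nsmul_tInv S J hu hJ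
      have h2 : Injective ((EtCoh.push f).obj J) := Etrest.AcycTors.injective_push f J
      have h3 := Etrest.InjDiv.isDivisible_of_injective ((EtCoh.push f).obj J) p hp.pos
      exact Etrest.AcycTors.mono_nsmul_rightDerived (EtCoh.push f) (tInv S J) p q
        ((Etrest.AcycTors.isZero_rightDerived_kernel (EtCoh.push f) J p h3 q).of_iso
          (((EtCoh.push f).rightDerived (q + 1)).mapIso (kernelIso S J hu)))
    · have h1 := isIso_nsmul_of_not_isUnit S (isTorsionInvertibleOn_tInv S J) hp hu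
      have h3 : (EtCoh.Rpush f (q + 1)).map (p • 𝟙 (tInv S J)) =
          p • 𝟙 ((EtCoh.Rpush f (q + 1)).obj (tInv S J)) := by
        have h4 : ((EtCoh.push f).rightDerived (q + 1)).map (p • 𝟙 (tInv S J)) =
            p • 𝟙 (((EtCoh.push f).rightDerived (q + 1)).obj (tInv S J)) := by
          rw [Functor.map_nsmul, CategoryTheory.Functor.map_id]
        exact h4
      rw [← h3]
      infer_instance
  induction n using induction_on_primes with
  | zero => exact absurd hn (lt_irrefl _)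
  | one => rw [one_smul]; infer_instance
  | prime_mul p a hp ih =>
    have ha : 0 < a := Nat.pos_of_ne_zero (by rintro rfl; simp at hn)
    have h1 := ih ha
    have h2 := hprime p hp
    have : (p * a) • 𝟙 ((EtCoh.Rpush f (q + 1)).obj (tInv S J)) =
        (p • 𝟙 ((EtCoh.Rpush f (q + 1)).obj (tInv S J))) ≫
          (a • 𝟙 ((EtCoh.Rpush f (q + 1)).obj (tInv S J))) := by
      rw [Preadditive.comp_nsmul, Category.comp_id, smul_smul, mul_comm]
    rw [this]
    exact mono_comp _ _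

/-- `R^q f_* (tInv S J) = 0` for `J` injective, `q > 0`, `f` a qcqs morphism of `S`-schemes. -/
theorem isZero_Rpush {Y S : Scheme.{u}} (f : X ⟶ Y) [QuasiCompact f] [QuasiSeparated f] (a : Y ⟶ S)
    (J : EtCoh.Ab X) [Injective J] (q : ℕ) (hq : 0 < q) :
    IsZero ((EtCoh.Rpush f q).obj (tInv S J)) := by
  obtain ⟨q, rfl⟩ := Nat.exists_eq_succ_of_ne_zero hq.ne'
  rcases subsingleton_or_nontrivial Γ(S, ⊤) with h | h
  · have h1 := isEmpty_of_subsingleton S h
    have : IsEmpty Y := ⟨fun y => h1.false (a y)⟩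
    exact isZero_of_isEmpty _
  · exact Etrest.AcycTors.isZero_of_isTorsion_of_mono _ (Groth.Agent.S0125.result f _
      (isTorsion_of_isTorsionInvertibleOn S (isTorsionInvertibleOn_tInv S J)) _)
      (fun n hn => mono_nsmul_Rpush f S J q n hn)

/-- Every sheaf of torsion invertible on `S` embeds into `tInv S J` with `J` injective. -/
theorem exists_mono (S : Scheme.{u}) (F : EtCoh.Ab X) (hF : EtPBC.IsTorsionInvertibleOn S F) :
    ∃ (J : EtCoh.Ab X) (_ : Injective J) (i : F ⟶ tInv S J), Mono i := by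
  have h0 : ∀ (U : X.Etale) (s : EtCoh.sect F U),
      (Injective.ι F).hom.app (op U) s ∈ (subData S (Injective.under F)).P U := by
    intro U s x
    obtain ⟨V, g, n, hv, hn, h⟩ := hF U s x
    refine ⟨V, g, n, hv, hn, ?_⟩
    have h1 : (Injective.ι F).hom.app (op V) (F.obj.map g.op s) =
        (Injective.under F).obj.map g.op ((Injective.ι F).hom.app (op U) s) :=
      NatTrans.naturality_apply (Injective.ι F).hom g.op s
    have h2 : (Injective.ι F).hom.app (op V) (n • F.obj.map g.op s) =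
        n • (Injective.ι F).hom.app (op V) (F.obj.map g.op s) := map_nsmul _ _ _
    rw [← h1]
    refine h2.symm.trans ?_
    rw [h, map_zero]
  refine ⟨Injective.under F, inferInstance, liftInv S (Injective.ι F) h0, ?_⟩
  have : Mono (liftInv S (Injective.ι F) h0 ≫ incl S _) := by rw [liftInv_incl]; infer_instance
  exact mono_of_mono _ (incl S _)

end Groth.Agent.Etcore.TorInv
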