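import Groth.Agent.Etcore.HC
import Groth.Agent.CurvesA.MuConst
import Groth.Agent.Sga4h.EtaleRes

/-!
# Functoriality of the sheaf `G_m` on the small etale site

* `gmUnit f : G_m,Y ⟶ f_* G_m,X`, `gmp f : f⁻¹ G_m,Y ⟶ G_m,X`;
* `gmp_comp`: compatibility with composition; `gmp_eta`: values on pulled back sections;
* `zmap`: the morphism `ℤ/n ⟶ G_m` attached to a global unit `ζ` with `ζ ^ n = 1`; `zmap_nat`.
-/

set_option autoImplicit false
universe u
open CategoryTheory CategoryTheory.Limits AlgebraicGeometry Opposite Abelian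
open scoped Groth.Agent.Etcore.EtInst
open Groth.Agent.Etcore.EtInst Groth.Agent.Etcore.PullCoh Groth.Agent.Etcore.HpullCalc
open Groth.Agent.CurvesA.MuConst (unitOf ofUnit)

namespace Groth.Agent.Etcore.GmFun

variable {W X Y Z : Scheme.{u}}

/-- The restriction `U ×_Y X → U`, underlying `bc f U`. -/
noncomputable abbrev bcFst (f : X ⟶ Y) (U : Y.Etale) : ((EtCoh.bc f).obj U).left ⟶ U.left :=
  pullback.fst U.hom f

theorem bcFst_nat (f : X ⟶ Y) {U V : Y.Etale} (r : V ⟶ U) :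
    ((EtCoh.bc f).map r).left ≫ bcFst f U = bcFst f V ≫ r.left :=
  pullback.lift_fst _ _ _

/-- The morphism `G_m,Y ⟶ f_* G_m,X`. -/
noncomputable def gmUnit (f : X ⟶ Y) : EtCoh.Gm Y ⟶ (EtCoh.push f).obj (EtCoh.Gm X) where
  hom :=
    { app := fun U => EtCoh.ΓUnits.map (bcFst f U.unop).op
      naturality := fun U V r => by
        have h := congrArg (fun t => EtCoh.ΓUnits.map t.op) (bcFst_nat f r.unop)
        have h2 : EtCoh.ΓUnits.map r.unop.left.op ≫ EtCoh.ΓUnits.map (bcFst f V.unop).op =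
          EtCoh.ΓUnits.map (bcFst f U.unop).op ≫
            EtCoh.ΓUnits.map ((EtCoh.bc f).map r.unop).left.op := by
          rw [← Functor.map_comp, ← Functor.map_comp, ← op_comp, ← op_comp]
          exact h.symm
        exact h2 }

/-- The morphism `f⁻¹ G_m,Y ⟶ G_m,X`. -/
noncomputable def gmp (f : X ⟶ Y) : (EtCoh.pull f).obj (EtCoh.Gm Y) ⟶ EtCoh.Gm X :=
  ((EtCoh.pullPushAdj f).homEquiv _ _).symm (gmUnit f)

theorem unit_gmp (f : X ⟶ Y) :
    (EtCoh.pullPushAdj f).unit.app (EtCoh.Gm Y) ≫ (EtCoh.push f).map (gmp f) = gmUnit f := by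
  have h := ((EtCoh.pullPushAdj f).homEquiv _ _).apply_symm_apply (gmUnit f)
  rw [Adjunction.homEquiv_unit] at h
  exact h

/-- The value of `gmp` on pulled back sections. -/
theorem gmp_eta (f : X ⟶ Y) (U : Y.Etale) (g : EtCoh.sect (EtCoh.Gm Y) U) :
    (gmp f).hom.app _ (eta f _ U g) = (gmUnit f).hom.app (op U) g :=
  congrArg (fun t => t.hom.app (op U) g) (unit_gmp f)

theorem unitOf_gmUnit (f : X ⟶ Y) (U : Y.Etale) (g : EtCoh.sect (EtCoh.Gm Y) U) :
    ((unitOf (X := X) (U := (EtCoh.bc f).obj U) ((gmUnit f).hom.app (op U) g) :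
      (Γ(((EtCoh.bc f).obj U).left, ⊤))ˣ) : Γ(((EtCoh.bc f).obj U).left, ⊤)) =
        (bcFst f U).appTop.hom (unitOf g : Γ(U.left, ⊤)) := rfl

theorem unitOf_map' {U V : X.Etale} (g : V ⟶ U) (s : EtCoh.sect (EtCoh.Gm X) U) :
    ((unitOf ((EtCoh.Gm X).obj.map g.op s) : (Γ(V.left, ⊤))ˣ) : Γ(V.left, ⊤)) =
      g.left.appTop.hom (unitOf s : Γ(U.left, ⊤)) := rfl

theorem gmp_comp (f : X ⟶ Y) (t : Y ⟶ Z) (f₀ : X ⟶ Z) (w : f ≫ t = f₀) :
    th f t f₀ w (EtCoh.Gm Z) ≫ gmp f₀ = (EtCoh.pull f).map (gmp t) ≫ gmp f := by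
  refine pull_hom_ext₂ f t _ _ fun U g => ?_
  rw [map_comp_app, map_comp_app, th_unit, map_res, gmp_eta, eta_map, gmp_eta, gmp_eta]
  apply Groth.Agent.CurvesA.MuConst.unitOf_injective
  apply Units.ext
  rw [unitOf_map', unitOf_gmUnit, unitOf_gmUnit]
  have h1 : (bcFst f ((EtCoh.bc t).obj U)).appTop.hom
      (unitOf (X := Y) (U := (EtCoh.bc t).obj U) ((gmUnit t).hom.app (op U) g) :
        Γ(((EtCoh.bc t).obj U).left, ⊤)) =
      (bcFst f ((EtCoh.bc t).obj U)).appTop.hom ((bcFst t U).appTop.hom (unitOf g : Γ(U.left, ⊤))) :=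
    rfl
  refine Eq.trans ?_ h1.symm
  rw [← CommRingCat.comp_apply, ← CommRingCat.comp_apply, ← Scheme.Hom.comp_appTop,
    ← Scheme.Hom.comp_appTop]
  rw [bcComp_left_fst]
  rfl

/-- Criterion for a morphism out of a constant sheaf to be an isomorphism. -/
theorem isIso_of_cst {F : EtCoh.Ab X} {M : Type} [AddCommGroup M] (a : EtCoh.const X M ⟶ F)
    (hinj : ∀ (U : X.Etale), Nonempty U.left → ∀ m : M,
      F.obj.map (toTop U).op (a.hom.app _ (cst X M ⟨m⟩)) = 0 → m = 0)
    (hsurj : ∀ (U : X.Etale) (t : EtCoh.sect F U) (x : U.left), ∃ (V : X.Etale) (g : V ⟶ U)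
      (v : V.left) (m : M), g.left v = x ∧
        F.obj.map g.op t = F.obj.map (toTop V).op (a.hom.app _ (cst X M ⟨m⟩))) : IsIso a := by
  let φ : M →+ EtCoh.sect F (EtCoh.top X) :=
    (a.hom.app (op (EtCoh.top X))).hom.comp
      (((EtCore.constAdj X).unit.app (AddCommGrpCat.of (ULift.{u + 1} M))).hom.comp
        AddEquiv.ulift.symm.toAddMonoidHom)
  have h1 := Groth.Agent.CurvesA.MuConst.isLocallyInjective_constPreMap F M φ hinj
  have h2 := Groth.Agent.CurvesA.MuConst.isLocallySurjective_constPreMap F M φ hsurj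
  have hW : X.smallEtaleTopology.W (Groth.Agent.CurvesA.MuConst.constPreMap F M φ) :=
    (GrothendieckTopology.W_iff_isLocallyBijective _ _).2 ⟨h1, h2⟩
  have hp : toSheafify X.smallEtaleTopology
      ((Functor.const _).obj (AddCommGrpCat.of (ULift.{u + 1} M))) ≫ a.hom =
      Groth.Agent.CurvesA.MuConst.constPreMap F M φ := by
    ext U m
    have h4 : cst X M m = (toSheafify X.smallEtaleTopology
      ((Functor.const _).obj (AddCommGrpCat.of (ULift.{u + 1} M)))).app (op (EtCoh.top X)) m := by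
      have h5 : (EtCore.constAdj X).unit.app (AddCommGrpCat.of (ULift.{u + 1} M)) =
          𝟙 _ ≫ (toSheafify X.smallEtaleTopology
      ((Functor.const _).obj (AddCommGrpCat.of (ULift.{u + 1} M)))).app (op (EtCoh.top X)) := by
        rfl
      exact congrArg (fun k => k.hom m) h5
    have h6 := ConcreteCategory.congr_hom ((toSheafify X.smallEtaleTopology
      ((Functor.const _).obj (AddCommGrpCat.of (ULift.{u + 1} M)))).naturality (toTop U.unop).op) m
    have h7 := map_res a (toTop U.unop) (cst X M m)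
    rw [h4] at h7
    exact (congrArg (a.hom.app U) h6).trans (h7.trans (congrArg _ (congrArg _ h4.symm)))
  rw [← hp] at hW
  have h3 := MorphismProperty.of_precomp _ _ _ (X.smallEtaleTopology.W_toSheafify _) hW
  exact (X.smallEtaleTopology.W_sheafToPresheaf_map_iff_isIso a).1 h3

end Groth.Agent.Etcore.GmFun
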