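import Groth.Agent.Etcore.HpullCalc
import Groth.Agent.Etcore.PullCoh
import Groth.Agent.Etcore.SecPull
import Groth.Agent.Sga4h.PullInj
import Groth.Agent.S0101

/-!
# Cohomology of `X`-schemes with coefficients in a sheaf on `X`

For `F : EtCoh.Ab X` and `q : Z ⟶ X` we write `HQ F q n` for `H^n(Z, q⁻¹ F)` (with the short instances of
`EtInst`) and `res F k h n : HQ F q n →+ HQ F q' n` for the pullback map attached to `k : Z' ⟶ Z` with
`k ≫ q = q'` (the same map as `EtCore.HpullVia`).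

* `res_res`, `res_id`, `res_map` (naturality in the sheaf), `res_δ` (connecting maps)
* exactness of the long exact sequence: `exists_δ_eq`, `δ_map`, `exists_map_eq`
* `sec F W : EtCoh.sect F W ≃ HQ F W.hom 0`, with `res_sec`, `map_sec`.
-/

set_option autoImplicit false
universe u
open CategoryTheory CategoryTheory.Limits AlgebraicGeometry Opposite Abelian
open scoped Groth.Agent.Etcore.EtInst
open Groth.Agent.Etcore.EtInst

namespace Groth.Agent.Etcore.HQ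

open Groth.Agent.Etcore.HpullCalc Groth.Agent.Etcore.PullCoh

theorem pfl {X Y : Scheme.{u}} (f : X ⟶ Y) : PreservesFiniteLimits (EtCoh.pull f) :=
  Groth.Agent.S0101.result f

attribute [local instance] pfl

variable {X : Scheme.{u}} (F : EtCoh.Ab X)

/-- The cohomology of `q : Z ⟶ X` with coefficients in `q⁻¹ F`. -/
noncomputable abbrev HQ {Z : Scheme.{u}} (q : Z ⟶ X) (n : ℕ) : Type (u + 1) :=
  HH Z ((EtCoh.pull q).obj F) n

/-- The pullback map. -/
noncomputable def res {Z Z' : Scheme.{u}} {q : Z ⟶ X} {q' : Z' ⟶ X} (k : Z' ⟶ Z) (h : k ≫ q = q')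
    (n : ℕ) : HQ F q n →+ HQ F q' n :=
  (HHmap (th k q q' h F) n).comp (hp k ((EtCoh.pull q).obj F) n)

theorem res_apply {Z Z' : Scheme.{u}} {q : Z ⟶ X} {q' : Z' ⟶ X} (k : Z' ⟶ Z) (h : k ≫ q = q')
    (n : ℕ) (x : HQ F q n) :
    res F k h n x = HHmap (th k q q' h F) n (hp k ((EtCoh.pull q).obj F) n x) := by
  rw [res, AddMonoidHom.comp_apply]

theorem hp_comp_th {Y Z T : Scheme.{u}} (f : T ⟶ Z) (g : Z ⟶ Y) (fg : T ⟶ Y) (w : f ≫ g = fg)
    (G : EtCoh.Ab Y) (n : ℕ) (x : HH Y G n) :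
    HHmap (th f g fg w G) n (hp f _ n (hp g G n x)) = hp fg G n x := by
  subst w
  have e : th f g (f ≫ g) rfl G = (EtCore.pullComp f g).inv.app G := theta_rfl_hom_app f g G
  rw [e]
  exact map_pullComp_inv_hp f g G n x

theorem res_res {Z Z' Z'' : Scheme.{u}} {q : Z ⟶ X} {q' : Z' ⟶ X} {q'' : Z'' ⟶ X} (k : Z' ⟶ Z)
    (h : k ≫ q = q') (k' : Z'' ⟶ Z') (h' : k' ≫ q' = q'') (k'' : Z'' ⟶ Z) (e : k' ≫ k = k'')
    (h'' : k'' ≫ q = q'') (n : ℕ) (x : HQ F q n) :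
    res F k' h' n (res F k h n x) = res F k'' h'' n x := by
  rw [res_apply, res_apply, res_apply, hp_map, ← HHmap_comp,
    th_assoc k' k q k'' q' q'' e h h' h'' F, HHmap_comp, hp_comp_th]

theorem res_congr {Z Z' : Scheme.{u}} {q : Z ⟶ X} {q' : Z' ⟶ X} {k k' : Z' ⟶ Z} (e : k = k')
    (h : k ≫ q = q') (h' : k' ≫ q = q') (n : ℕ) (x : HQ F q n) : res F k h n x = res F k' h' n x := by
  subst e; rfl

variable {F} {G : EtCoh.Ab X}

/-- Functoriality in the sheaf. -/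
noncomputable def map (φ : F ⟶ G) {Z : Scheme.{u}} (q : Z ⟶ X) (n : ℕ) : HQ F q n →+ HQ G q n :=
  HHmap ((EtCoh.pull q).map φ) n

theorem map_apply (φ : F ⟶ G) {Z : Scheme.{u}} (q : Z ⟶ X) (n : ℕ) (x : HQ F q n) :
    map φ q n x = HHmap ((EtCoh.pull q).map φ) n x := rfl

theorem res_map (φ : F ⟶ G) {Z Z' : Scheme.{u}} {q : Z ⟶ X} {q' : Z' ⟶ X} (k : Z' ⟶ Z)
    (h : k ≫ q = q') (n : ℕ) (x : HQ F q n) :
    res G k h n (map φ q n x) = map φ q' n (res F k h n x) := by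
  rw [res_apply, res_apply, map_apply, map_apply, hp_map, ← HHmap_comp, ← HHmap_comp, th_nat]

section LES

variable {S : ShortComplex (EtCoh.Ab X)} (hS : S.ShortExact)

/-- The connecting map. -/
noncomputable def δ {Z : Scheme.{u}} (q : Z ⟶ X) (n : ℕ) : HQ S.X₃ q n →+ HQ S.X₁ q (n + 1) :=
  ExtMap.lδ (hS.map_of_exact (EtCoh.pull q)) (EtCoh.const Z ℤ) rfl

theorem δ_apply {Z : Scheme.{u}} (q : Z ⟶ X) (n : ℕ) (x : HQ S.X₃ q n) :
    δ hS q n x = Ext.comp (Y := (S.map (EtCoh.pull q)).X₃) (Z := (S.map (EtCoh.pull q)).X₁)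
      x (hS.map_of_exact (EtCoh.pull q)).extClass rfl := rfl

/-- The components of `th` for a short complex. -/
noncomputable def thS {Z Z' : Scheme.{u}} {q : Z ⟶ X} {q' : Z' ⟶ X} (k : Z' ⟶ Z)
    (h : k ≫ q = q') (S : ShortComplex (EtCoh.Ab X)) :
    (S.map (EtCoh.pull q)).map (EtCoh.pull k) ⟶ S.map (EtCoh.pull q') where
  τ₁ := th k q q' h S.X₁
  τ₂ := th k q q' h S.X₂
  τ₃ := th k q q' h S.X₃
  comm₁₂ := (th_nat k q q' h S.f).symm
  comm₂₃ := (th_nat k q q' h S.g).symm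

theorem extClass_th {Z Z' : Scheme.{u}} {q : Z ⟶ X} {q' : Z' ⟶ X} (k : Z' ⟶ Z)
    (h : k ≫ q = q') :
    (((hS.map_of_exact (EtCoh.pull q)).map_of_exact (EtCoh.pull k)).extClass).comp
      (Ext.mk₀ (thS k h S).τ₁) (add_zero 1) =
      (Ext.mk₀ (thS k h S).τ₃).comp (hS.map_of_exact (EtCoh.pull q')).extClass (zero_add 1) :=
  ShortComplex.ShortExact.extClass_naturality _ _ (thS k h S)

omit hS in
theorem comp_aux {C : Type*} [Category* C] [Abelian C] [HasExt.{u + 1} C] {A B₁ B₃ D₁ D₃ : C}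
    {e : Ext.{u + 1} B₃ B₁ 1} {e' : Ext.{u + 1} D₃ D₁ 1} {t₁ : B₁ ⟶ D₁} {t₃ : B₃ ⟶ D₃}
    (h : e.comp (Ext.mk₀ t₁) (add_zero 1) = (Ext.mk₀ t₃).comp e' (zero_add 1)) {n : ℕ}
    (y : Ext.{u + 1} A B₃ n) :
    (y.comp e (rfl : n + 1 = n + 1)).comp (Ext.mk₀ t₁) (add_zero _) =
      (y.comp (Ext.mk₀ t₃) (add_zero n)).comp e' rfl := by
  rw [Ext.comp_assoc_of_third_deg_zero, h, Ext.comp_assoc_of_second_deg_zero]

theorem res_δ {Z Z' : Scheme.{u}} {q : Z ⟶ X} {q' : Z' ⟶ X} (k : Z' ⟶ Z)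
    (h : k ≫ q = q') (n : ℕ) (x : HQ S.X₃ q n) :
    res S.X₁ k h (n + 1) (δ hS q n x) = δ hS q' n (res S.X₃ k h n x) := by
  have h1 := hp_extClass k (hS.map_of_exact (EtCoh.pull q)) (rfl : n + 1 = n + 1) x
  have h2 := comp_aux (extClass_th hS k h) (hp k (S.map (EtCoh.pull q)).X₃ n x)
  rw [res_apply, res_apply]
  exact (congrArg (fun y => HHmap (th k q q' h S.X₁) (n + 1) y) h1).trans h2

/-- Exactness: a class in `HQ S.X₁` which dies in `HQ S.X₂` is a connecting class. -/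
theorem exists_δ_eq {Z : Scheme.{u}} (q : Z ⟶ X) (n : ℕ) (x : HQ S.X₁ q (n + 1))
    (h : map S.f q (n + 1) x = 0) : ∃ y : HQ S.X₃ q n, δ hS q n y = x :=
  (ExtMap.exact_δf (hS.map_of_exact (EtCoh.pull q)) (EtCoh.const Z ℤ) rfl x).1 h

/-- Exactness: a class in `HQ S.X₃` with zero connecting class comes from `HQ S.X₂`. -/
theorem exists_map_eq {Z : Scheme.{u}} (q : Z ⟶ X) (n : ℕ) (x : HQ S.X₃ q n)
    (h : δ hS q n x = 0) : ∃ y : HQ S.X₂ q n, map S.g q n y = x :=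
  (ExtMap.exact_gδ (hS.map_of_exact (EtCoh.pull q)) (EtCoh.const Z ℤ) rfl x).1 h

theorem δ_map {Z : Scheme.{u}} (q : Z ⟶ X) (n : ℕ) (y : HQ S.X₂ q n) :
    δ hS q n (map S.g q n y) = 0 :=
  (ExtMap.exact_gδ (hS.map_of_exact (EtCoh.pull q)) (EtCoh.const Z ℤ) rfl _).2 ⟨y, rfl⟩

end LES

/-! ### Degree zero -/

/-- The top object. -/
theorem sq_cond {Z : Scheme.{u}} (q : Z ⟶ X) {W : X.Etale} (r : Z ⟶ W.left) (hr : r ≫ W.hom = q) :
    (r : (EtCoh.top Z).left ⟶ W.left) ≫ W.hom = (EtCoh.top Z).hom ≫ q :=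
  hr.trans (Category.id_comp _).symm

/-- The class in `H^0(Z, q⁻¹F)` of a section of `F` over `W`, for `r : Z ⟶ W`. -/
noncomputable def sec (F : EtCoh.Ab X) {Z : Scheme.{u}} (q : Z ⟶ X) {W : X.Etale} (r : Z ⟶ W.left)
    (hr : r ≫ W.hom = q) (s : EtCoh.sect F W) : HQ F q 0 :=
  (H0 Z ((EtCoh.pull q).obj F)).symm (SecPull.sq q F (W := EtCoh.top Z) r (sq_cond q r hr) s)

theorem H0_sec (F : EtCoh.Ab X) {Z : Scheme.{u}} (q : Z ⟶ X) {W : X.Etale} (r : Z ⟶ W.left)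
    (hr : r ≫ W.hom = q) (s : EtCoh.sect F W) :
    H0 Z ((EtCoh.pull q).obj F) (sec F q r hr s) =
      SecPull.sq q F (W := EtCoh.top Z) r (sq_cond q r hr) s :=
  AddEquiv.apply_symm_apply _ _

theorem map_sec (φ : F ⟶ G) {Z : Scheme.{u}} (q : Z ⟶ X) {W : X.Etale} (r : Z ⟶ W.left)
    (hr : r ≫ W.hom = q) (s : EtCoh.sect F W) :
    map φ q 0 (sec F q r hr s) = sec G q r hr (φ.hom.app (op W) s) := by
  apply (H0 Z ((EtCoh.pull q).obj G)).injective
  rw [map_apply, H0_map, H0_sec, H0_sec]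
  have := SecPull.sq_naturality q φ (W := EtCoh.top Z) r (sq_cond q r hr)
  exact (ConcreteCategory.congr_hom this s).symm

theorem sec_bijective (F : EtCoh.Ab X) (W : X.Etale) :
    Function.Bijective (sec F W.hom (𝟙 W.left) (Category.id_comp _)) := by
  refine (H0 _ _).symm.bijective.comp ?_
  have h := SecPull.sq_isIso_of_etale W.hom F (V := W) (W := EtCoh.top W.left) (𝟙 W.left)
    (sq_cond W.hom (𝟙 W.left) (Category.id_comp _)) (inferInstanceAs (IsIso (𝟙 W.left : W.left ⟶ W.left)))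
  exact (ConcreteCategory.isIso_iff_bijective _).1 h

theorem unitSec_apply {Y Z : Scheme.{u}} (f : Z ⟶ Y) (G : EtCoh.Ab Y) (x : EtCoh.sect G (EtCoh.top Y)) :
    (unitSec f G).hom x = SecPull.sq f G (V := EtCoh.top Y) (W := EtCoh.top Z) f
      ((Category.comp_id _).trans (Category.id_comp _).symm) x := by
  have e : SecPull.liftBC f (V := EtCoh.top Y) (W := EtCoh.top Z) f
      ((Category.comp_id _).trans (Category.id_comp _).symm) = (EtCore.bcTopIso f).inv :=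
    (EtCore.bcTopIsTerminal f).hom_ext _ _
  rw [unitSec_eq, SecPull.sq, e]
  rfl

theorem th_pullComp {Z Z' : Scheme.{u}} (q : Z ⟶ X) (k : Z' ⟶ Z) (F : EtCoh.Ab X) (V : Z'.Etale)
    (y : EtCoh.sect ((EtCoh.pull (k ≫ q)).obj F) V) :
    (th k q (k ≫ q) rfl F).hom.app (op V) (((EtCore.pullComp k q).hom.app F).hom.app (op V) y) = y := by
  have e : th k q (k ≫ q) rfl F = (EtCore.pullComp k q).inv.app F := theta_rfl_hom_app k q F
  rw [e]
  have h := congrArg (fun t => t.hom.app (op V) y) ((EtCore.pullComp k q).hom_inv_id_app F)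
  exact h

/-- Pulling back the class of a section. -/
theorem res_sec (F : EtCoh.Ab X) {Z Z' : Scheme.{u}} {q : Z ⟶ X} {q' : Z' ⟶ X} (k : Z' ⟶ Z)
    (h : k ≫ q = q') {W : X.Etale} (r : Z ⟶ W.left) (hr : r ≫ W.hom = q) (r' : Z' ⟶ W.left)
    (hr' : r' ≫ W.hom = q') (e : k ≫ r = r') (s : EtCoh.sect F W) :
    res F k h 0 (sec F q r hr s) = sec F q' r' hr' s := by
  subst h e
  apply (H0 Z' ((EtCoh.pull (k ≫ q)).obj F)).injective
  rw [res_apply, H0_map, hp_zero, H0_sec, H0_sec, unitSec_apply]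
  have h1 := SecPull.sq_comp k q F (V := W) (W := EtCoh.top Z) (W' := EtCoh.top Z') r (sq_cond q r hr)
    k ((Category.comp_id _).trans (Category.id_comp _).symm) (sq_cond (k ≫ q) (k ≫ r) hr')
  have h2 := ConcreteCategory.congr_hom h1 s
  have h3 := congrArg (fun y => (th k q (k ≫ q) rfl F).hom.app (op (EtCoh.top Z')) y) h2
  refine Eq.trans h3 ?_
  exact th_pullComp q k F _ _

/-- The class of a restricted section. -/
theorem sec_res (F : EtCoh.Ab X) {Z : Scheme.{u}} (q : Z ⟶ X) {W W' : X.Etale} (r : Z ⟶ W.left)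
    (hr : r ≫ W.hom = q) (c : W ⟶ W') (r' : Z ⟶ W'.left) (hr' : r' ≫ W'.hom = q)
    (e : r ≫ c.left = r') (s : EtCoh.sect F W') :
    sec F q r hr (F.obj.map c.op s) = sec F q r' hr' s := by
  subst e
  apply (H0 Z ((EtCoh.pull q).obj F)).injective
  rw [H0_sec, H0_sec]
  have h := SecPull.sq_postcomp q F (W := EtCoh.top Z) r (sq_cond q r hr) c
    (sq_cond q (r ≫ c.left) hr')
  exact ConcreteCategory.congr_hom h s

theorem sec_add (F : EtCoh.Ab X) {Z : Scheme.{u}} (q : Z ⟶ X) {W : X.Etale} (r : Z ⟶ W.left)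
    (hr : r ≫ W.hom = q) (s t : EtCoh.sect F W) :
    sec F q r hr (s + t) = sec F q r hr s + sec F q r hr t := by
  apply (H0 Z ((EtCoh.pull q).obj F)).injective
  rw [map_add, H0_sec, H0_sec, H0_sec, map_add]

theorem sec_zero (F : EtCoh.Ab X) {Z : Scheme.{u}} (q : Z ⟶ X) {W : X.Etale} (r : Z ⟶ W.left)
    (hr : r ≫ W.hom = q) : sec F q r hr (0 : EtCoh.sect F W) = 0 := by
  apply (H0 Z ((EtCoh.pull q).obj F)).injective
  rw [H0_sec, map_zero, map_zero]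

/-- Injective sheaves are acyclic on étale schemes. -/
theorem eq_zero_of_injective (I : EtCoh.Ab X) [Injective I] {Z : Scheme.{u}} (q : Z ⟶ X) [Etale q] (n : ℕ)
    (x : HQ I q (n + 1)) : x = 0 := by
  have := Groth.Agent.Sga4h.PullInj.injective_pull q I
  exact Ext.eq_zero_of_injective x

end Groth.Agent.Etcore.HQ
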