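import Groth.Agent.Etcore.Herbrand

/-!
# The five term count for `F ⟶ DX ⟶ DU`
-/

set_option autoImplicit false

open Function LinearMap

namespace Groth.Agent.Etcore.Herbrand

variable {F DX DU : Type*} [AddCommGroup F] [AddCommGroup DX] [AddCommGroup DU]
  (δ : F →+ DX) (r : DX →+ DU)

theorem ker_le : δ.ker ≤ (r.comp δ).ker := fun x hx => by
  rw [AddMonoidHom.mem_ker] at hx ⊢
  rw [AddMonoidHom.comp_apply, hx, map_zero]

/-- `ker δ ⟶ ker (r ∘ δ)` -/
def mapA : δ.ker →+ (r.comp δ).ker :=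
  AddSubgroup.inclusion (ker_le δ r)

/-- `ker (r ∘ δ) ⟶ ker r` -/
def mapB : (r.comp δ).ker →+ r.ker where
  toFun x := ⟨δ x.1, x.2⟩
  map_zero' := Subtype.ext (map_zero δ)
  map_add' _ _ := Subtype.ext (map_add δ _ _)

/-- `ker r ⟶ coker δ` -/
def mapD : r.ker →+ DX ⧸ δ.range := (QuotientAddGroup.mk' δ.range).comp r.ker.subtype

/-- `coker δ ⟶ coker (r ∘ δ)` -/
def mapQ : DX ⧸ δ.range →+ DU ⧸ (r.comp δ).range :=
  QuotientAddGroup.map _ _ r (by
    rintro _ ⟨x, rfl⟩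
    exact ⟨x, rfl⟩)

theorem count2 (hr : Surjective r) (n : ℕ)
    (tA : tor n δ.ker = tor n (r.comp δ).ker) (tB : tor n (r.comp δ).ker ≠ 0)
    (cA : cok n δ.ker = 1)
    (tD : ∀ m : DX, n • m = 0 → m = 0) (cD : cok n r.ker ≠ 0)
    (cQ : cok n (DU ⧸ (r.comp δ).range) = 1) (tP : tor n (DX ⧸ δ.range) ≠ 0) :
    cok n (r.comp δ).ker * tor n (DU ⧸ (r.comp δ).range) * cok n (DX ⧸ δ.range) =
      cok n r.ker * tor n (DX ⧸ δ.range) := by
  refine count n (mapA δ r).toIntLinearMap (mapB δ r).toIntLinearMap (mapD δ r).toIntLinearMap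
    (mapQ δ r).toIntLinearMap ?_ ?_ ?_ ?_ ?_ tA tB cA ?_ cD cQ tP
  · exact AddSubgroup.inclusion_injective (ker_le δ r)
  · intro x
    constructor
    · intro hx
      exact ⟨⟨x.1, congrArg Subtype.val hx⟩, rfl⟩
    · rintro ⟨y, rfl⟩
      exact Subtype.ext y.2
  · intro x
    constructor
    · intro hx
      have hx' : (QuotientAddGroup.mk x.1 : DX ⧸ δ.range) = 0 := hx
      rw [QuotientAddGroup.eq_zero_iff] at hx'
      obtain ⟨y, hy⟩ := hx'
      refine ⟨⟨y, ?_⟩, Subtype.ext hy⟩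
      rw [AddMonoidHom.mem_ker, AddMonoidHom.comp_apply, hy]
      exact x.2
    · rintro ⟨y, rfl⟩
      change (QuotientAddGroup.mk (δ y.1) : DX ⧸ δ.range) = 0
      rw [QuotientAddGroup.eq_zero_iff]
      exact ⟨y.1, rfl⟩
  · intro x
    obtain ⟨x, rfl⟩ := QuotientAddGroup.mk_surjective x
    constructor
    · intro hx
      have hx' : (QuotientAddGroup.mk (r x) : DU ⧸ (r.comp δ).range) = 0 := hx
      rw [QuotientAddGroup.eq_zero_iff] at hx'
      obtain ⟨y, hy⟩ := hx'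
      refine ⟨⟨x - δ y, ?_⟩, ?_⟩
      · rw [AddMonoidHom.mem_ker, map_sub, ← hy, AddMonoidHom.comp_apply, sub_self]
      · change (QuotientAddGroup.mk (x - δ y) : DX ⧸ δ.range) = _
        rw [QuotientAddGroup.mk_sub, sub_eq_self, QuotientAddGroup.eq_zero_iff]
        exact ⟨y, rfl⟩
    · rintro ⟨y, hy⟩
      rw [← hy]
      change (QuotientAddGroup.mk (r y.1) : DU ⧸ (r.comp δ).range) = 0
      rw [(y.2 : r y.1 = 0)]
      rfl
  · intro x
    obtain ⟨x, rfl⟩ := QuotientAddGroup.mk_surjective x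
    obtain ⟨y, rfl⟩ := hr x
    exact ⟨QuotientAddGroup.mk y, rfl⟩
  · intro m hm
    exact Subtype.ext (tD _ (congrArg Subtype.val hm))

end Groth.Agent.Etcore.Herbrand
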