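import Groth.Agent.Etcore.SecPull

/-!
The degree zero base change map on sections that are pulled back along a square.
-/

set_option autoImplicit false
open CategoryTheory CategoryTheory.Limits AlgebraicGeometry Opposite
universe u

namespace Groth.Agent.Etcore.IntBC

open Groth.Agent.Etcore.SecPull

variable {X Y X' Y' : Scheme.{u}} (f : X ⟶ Y) (g : Y' ⟶ Y) (f' : X' ⟶ Y') (g' : X' ⟶ X)
  (w : g' ≫ f = f' ≫ g)

include w in
theorem bcSq_aux {V W : Scheme.{u}} (v : V ⟶ Y) (b : W ⟶ Y') (q : W ⟶ V)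
    (hq : q ≫ v = b ≫ g) :
    (pullback.fst b f' ≫ q) ≫ v = (pullback.snd b f' ≫ g') ≫ f := by
  rw [Category.assoc, hq, Category.assoc, w, ← Category.assoc, pullback.condition,
      Category.assoc]

set_option backward.isDefEq.respectTransparency.types false in
/-- The morphism `W ×_{Y'} X' ⟶ V ×_Y X` induced by `q : W ⟶ V`. -/
noncomputable def bcSq {V : Y.Etale} {W : Y'.Etale} (q : W.left ⟶ V.left)
    (hq : q ≫ V.hom = W.hom ≫ g) : ((EtCoh.bc f').obj W).left ⟶ ((EtCoh.bc f).obj V).left :=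
  pullback.lift (pullback.fst W.hom f' ≫ q) (pullback.snd W.hom f' ≫ g')
    (bcSq_aux f g f' g' w V.hom W.hom q hq)

set_option backward.isDefEq.respectTransparency.types false in
theorem bcSq_fst {V : Y.Etale} {W : Y'.Etale} (q : W.left ⟶ V.left)
    (hq : q ≫ V.hom = W.hom ≫ g) :
    bcSq f g f' g' w q hq ≫ (pullback.fst V.hom f : ((EtCoh.bc f).obj V).left ⟶ V.left) =
      (pullback.fst W.hom f' : ((EtCoh.bc f').obj W).left ⟶ W.left) ≫ q :=
  pullback.lift_fst _ _ _

set_option backward.isDefEq.respectTransparency.types false in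
theorem bcSq_snd {V : Y.Etale} {W : Y'.Etale} (q : W.left ⟶ V.left)
    (hq : q ≫ V.hom = W.hom ≫ g) :
    bcSq f g f' g' w q hq ≫ (pullback.snd V.hom f : ((EtCoh.bc f).obj V).left ⟶ X) =
      (pullback.snd W.hom f' : ((EtCoh.bc f').obj W).left ⟶ X') ≫ g' :=
  pullback.lift_snd _ _ _

set_option backward.isDefEq.respectTransparency.types false in
theorem bcSq_hom {V : Y.Etale} {W : Y'.Etale} (q : W.left ⟶ V.left)
    (hq : q ≫ V.hom = W.hom ≫ g) :
    bcSq f g f' g' w q hq ≫ ((EtCoh.bc f).obj V).hom = ((EtCoh.bc f').obj W).hom ≫ g' :=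
  bcSq_snd f g f' g' w q hq

theorem pushComp_inv_app {T' T S : Scheme.{u}} (h : T' ⟶ T) (g : T ⟶ S) (F : EtCoh.Ab T')
    (V : S.Etale) :
    ((EtCoh.pushComp g h).inv.app F).hom.app (op V) = F.obj.map ((bcComp h g).hom.app V).op := by
  simp [EtCoh.pushComp, Functor.sheafPushforwardContinuousComp', bcComp]
  rfl

set_option backward.isDefEq.respectTransparency.types false in
/-- The congruence isomorphism of base change functors. -/
noncomputable def bcCongr {h h' : X ⟶ Y} (e : h = h') : EtCoh.bc h ≅ EtCoh.bc h' :=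
  MorphismProperty.Over.pullbackCongr (P := EtCoh.etaleMP) (Q := ⊤) e

theorem pushCongr_hom_app {h h' : X ⟶ Y} (e : h = h') (F : EtCoh.Ab X)
    (V : Y.Etale) :
    ((EtCoh.pushCongr e).hom.app F).hom.app (op V) = F.obj.map ((bcCongr e).inv.app V).op := by
  simp [EtCoh.pushCongr, bcCongr]

/-- The comparison morphism `(V ×_Y Y') ×_{Y'} X' ⟶ (V ×_Y X) ×_X X'`. -/
noncomputable def bcMix (V : Y.Etale) :
    (EtCoh.bc f').obj ((EtCoh.bc g).obj V) ⟶ (EtCoh.bc g').obj ((EtCoh.bc f).obj V) :=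
  (bcComp f' g).hom.app V ≫ (bcCongr w).inv.app V ≫ (bcComp g' f).inv.app V

theorem unit_baseChange0 (F : EtCoh.Ab X) (V : Y.Etale) :
    unitApp g ((EtCoh.push f).obj F) V ≫
        (EtCoh.baseChange0 f g f' g' w F).hom.app (op ((EtCoh.bc g).obj V)) =
      unitApp g' F ((EtCoh.bc f).obj V) ≫
        ((EtCoh.pull g').obj F).obj.map (bcMix f g f' g' w V).op := by
  have h1 : (EtCoh.pullPushAdj g).unit.app ((EtCoh.push f).obj F) ≫
      (EtCoh.push g).map (EtCoh.baseChange0 f g f' g' w F) =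
      (EtCoh.push f).map ((EtCoh.pullPushAdj g').unit.app F) ≫ (EtCoh.pushComp f g').hom.app _ ≫
      (EtCoh.pushCongr w).hom.app _ ≫ (EtCoh.pushComp g f').inv.app _ := by
    have := ((EtCoh.pullPushAdj g).homEquiv _ _).apply_symm_apply
      ((EtCoh.push f).map ((EtCoh.pullPushAdj g').unit.app F) ≫ (EtCoh.pushComp f g').hom.app _ ≫
      (EtCoh.pushCongr w).hom.app _ ≫ (EtCoh.pushComp g f').inv.app _)
    rw [Adjunction.homEquiv_unit] at this
    exact this
  have h2 := congrArg (fun k ↦ k.hom.app (op V)) h1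
  have h3 := pushComp_hom_app g' f ((EtCoh.pull g').obj F) V
  have h4 := pushCongr_hom_app w ((EtCoh.pull g').obj F) V
  have h5 := pushComp_inv_app f' g ((EtCoh.pull g').obj F) V
  refine h2.trans ?_
  have h6 : ((EtCoh.pushComp f g').hom.app ((EtCoh.pull g').obj F)).hom.app (op V) ≫
      ((EtCoh.pushCongr w).hom.app ((EtCoh.pull g').obj F)).hom.app (op V) ≫
      ((EtCoh.pushComp g f').inv.app ((EtCoh.pull g').obj F)).hom.app (op V) =
      ((EtCoh.pull g').obj F).obj.map (bcMix f g f' g' w V).op := by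
    rw [h3, h4, h5, bcMix, op_comp, op_comp, Functor.map_comp, Functor.map_comp, Category.assoc]
    rfl
  exact congrArg (fun k ↦ unitApp g' F ((EtCoh.bc f).obj V) ≫ k) h6

set_option backward.isDefEq.respectTransparency.types false in
theorem bcCongr_inv_left {h h' : X ⟶ Y} (e : h = h') (V : Y.Etale) :
    ((bcCongr e).inv.app V).left ≫
      (pullback.fst V.hom h : ((EtCoh.bc h).obj V).left ⟶ V.left) =
      (pullback.fst V.hom h' : ((EtCoh.bc h').obj V).left ⟶ V.left) := by
  have h1 : ((bcCongr e).hom.app V).left ≫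
      (pullback.fst V.hom h' : ((EtCoh.bc h').obj V).left ⟶ V.left) =
      (pullback.fst V.hom h : ((EtCoh.bc h).obj V).left ⟶ V.left) :=
    MorphismProperty.Over.pullbackCongr_hom_app_left_fst (P := EtCoh.etaleMP) (Q := ⊤) e V
  have h2 : (bcCongr e).inv.app V ≫ (bcCongr e).hom.app V = 𝟙 _ := by simp
  have h3 : ((bcCongr e).inv.app V).left ≫ ((bcCongr e).hom.app V).left = 𝟙 _ :=
    congrArg (fun k ↦ k.left) h2
  have h4 := congrArg (((bcCongr e).inv.app V).left ≫ ·) h1
  refine h4.symm.trans ?_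
  have h5 := congrArg (· ≫ (pullback.fst V.hom h' : ((EtCoh.bc h').obj V).left ⟶ V.left)) h3
  exact (Category.assoc _ _ _).symm.trans (h5.trans (Category.id_comp _))

set_option backward.isDefEq.respectTransparency.types false in
theorem bcComp_hom_left {T' T S : Scheme.{u}} (h : T' ⟶ T) (g : T ⟶ S) (V : S.Etale) :
    ((bcComp h g).hom.app V).left ≫
      (pullback.fst V.hom (h ≫ g) : ((EtCoh.bc (h ≫ g)).obj V).left ⟶ V.left) =
    (pullback.fst ((EtCoh.bc g).obj V).hom h : ((EtCoh.bc h).obj ((EtCoh.bc g).obj V)).left ⟶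
        ((EtCoh.bc g).obj V).left) ≫ (pullback.fst V.hom g : ((EtCoh.bc g).obj V).left ⟶ V.left) := by
  have h1 := bcComp_inv_left h g V
  have h2 : (bcComp h g).hom.app V ≫ (bcComp h g).inv.app V = 𝟙 _ := by simp
  have h3 : ((bcComp h g).hom.app V).left ≫ ((bcComp h g).inv.app V).left = 𝟙 _ :=
    congrArg (fun k ↦ k.left) h2
  have h4 := congrArg (((bcComp h g).hom.app V).left ≫ ·) h1
  refine h4.symm.trans ?_
  have h5 := congrArg (· ≫ ((pullback.fst ((EtCoh.bc g).obj V).hom h : ((EtCoh.bc h).obj ((EtCoh.bc g).obj V)).left ⟶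
        ((EtCoh.bc g).obj V).left) ≫ (pullback.fst V.hom g : ((EtCoh.bc g).obj V).left ⟶ V.left))) h3
  exact (Category.assoc _ _ _).symm.trans (h5.trans (Category.id_comp _))

set_option backward.isDefEq.respectTransparency.types false in
theorem bcMix_left (V : Y.Etale) :
    (bcMix f g f' g' w V).left ≫
      (pullback.fst ((EtCoh.bc f).obj V).hom g' :
        ((EtCoh.bc g').obj ((EtCoh.bc f).obj V)).left ⟶ ((EtCoh.bc f).obj V).left) ≫
      (pullback.fst V.hom f : ((EtCoh.bc f).obj V).left ⟶ V.left) =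
    (pullback.fst ((EtCoh.bc g).obj V).hom f' :
        ((EtCoh.bc f').obj ((EtCoh.bc g).obj V)).left ⟶ ((EtCoh.bc g).obj V).left) ≫
      (pullback.fst V.hom g : ((EtCoh.bc g).obj V).left ⟶ V.left) := by
  have h1 := bcComp_inv_left g' f V
  have h2 := bcCongr_inv_left w V
  have h3 := bcComp_hom_left f' g V
  refine (Category.assoc _ _ _).trans ?_
  refine (congrArg (((bcComp f' g).hom.app V).left ≫ ·) (Category.assoc _ _ _)).trans ?_
  refine (congrArg (fun k ↦ ((bcComp f' g).hom.app V).left ≫ ((bcCongr w).inv.app V).left ≫ k)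
    h1).trans ?_
  refine (congrArg (((bcComp f' g).hom.app V).left ≫ ·) h2).trans ?_
  exact h3

set_option backward.isDefEq.respectTransparency.types false in
theorem bcMix_toFst {V : Y.Etale} {W : Y'.Etale} (m : W ⟶ (EtCoh.bc g).obj V) :
    toFst g' ((EtCoh.bc f').map m ≫ bcMix f g f' g' w V) =
      bcSq f g f' g' w (toFst g m) (toFst_hom g m) := by
  apply pullback.hom_ext
  · refine Eq.trans ?_ (bcSq_fst f g f' g' w (toFst g m) (toFst_hom g m)).symm
    have h1 := bcMix_left f g f' g' w V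
    have h2 := congrArg (((EtCoh.bc f').map m).left ≫ ·) h1
    have h3 : ((EtCoh.bc f').map m).left ≫
        (pullback.fst ((EtCoh.bc g).obj V).hom f' :
        ((EtCoh.bc f').obj ((EtCoh.bc g).obj V)).left ⟶ ((EtCoh.bc g).obj V).left) =
        (pullback.fst W.hom f' : ((EtCoh.bc f').obj W).left ⟶ W.left) ≫ m.left :=
      pullback.lift_fst _ _ _
    have h4 := congrArg (· ≫ (pullback.fst V.hom g : ((EtCoh.bc g).obj V).left ⟶ V.left)) h3
    refine Eq.trans ?_ (h2.trans ?_)
    · exact (Category.assoc _ _ _).trans (Category.assoc _ _ _)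
    · exact (Category.assoc _ _ _).symm.trans (h4.trans (Category.assoc _ _ _))
  · exact (toFst_hom g' ((EtCoh.bc f').map m ≫ bcMix f g f' g' w V)).trans
      (bcSq_hom f g f' g' w (toFst g m) (toFst_hom g m)).symm

theorem bcMix_liftBC {V : Y.Etale} {W : Y'.Etale} (q : W.left ⟶ V.left)
    (hq : q ≫ V.hom = W.hom ≫ g) :
    (EtCoh.bc f').map (liftBC g q hq) ≫ bcMix f g f' g' w V =
      liftBC g' (V := (EtCoh.bc f).obj V) (W := (EtCoh.bc f').obj W)
        (bcSq f g f' g' w q hq) (bcSq_hom f g f' g' w q hq) := by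
  apply ext_toFst
  rw [toFst_liftBC, bcMix_toFst]
  congr 1
  exact toFst_liftBC g q hq

/-- The base change map in degree zero on pulled back sections. -/
theorem baseChange0_sq (F : EtCoh.Ab X) {V : Y.Etale} {W : Y'.Etale} (q : W.left ⟶ V.left)
    (hq : q ≫ V.hom = W.hom ≫ g) :
    sq g ((EtCoh.push f).obj F) q hq ≫ (EtCoh.baseChange0 f g f' g' w F).hom.app (op W) =
      sq g' F (V := (EtCoh.bc f).obj V) (W := (EtCoh.bc f').obj W)
        (bcSq f g f' g' w q hq) (bcSq_hom f g f' g' w q hq) := by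
  have h1 := unit_baseChange0 f g f' g' w F V
  have h2 : ((EtCoh.pull g).obj ((EtCoh.push f).obj F)).obj.map (liftBC g q hq).op ≫
      (EtCoh.baseChange0 f g f' g' w F).hom.app (op W) =
      (EtCoh.baseChange0 f g f' g' w F).hom.app (op ((EtCoh.bc g).obj V)) ≫
      ((EtCoh.pull g').obj F).obj.map ((EtCoh.bc f').map (liftBC g q hq)).op :=
    (EtCoh.baseChange0 f g f' g' w F).hom.naturality (liftBC g q hq).op
  have h3 : ((EtCoh.pull g').obj F).obj.map (bcMix f g f' g' w V).op ≫
      ((EtCoh.pull g').obj F).obj.map ((EtCoh.bc f').map (liftBC g q hq)).op =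
      ((EtCoh.pull g').obj F).obj.map (liftBC g' (V := (EtCoh.bc f).obj V)
        (W := (EtCoh.bc f').obj W) (bcSq f g f' g' w q hq) (bcSq_hom f g f' g' w q hq)).op := by
    rw [← Functor.map_comp, ← op_comp, bcMix_liftBC]
  refine (Category.assoc _ _ _).trans ?_
  refine (congrArg (unitApp g ((EtCoh.push f).obj F) V ≫ ·) h2).trans ?_
  refine (Category.assoc _ _ _).symm.trans ?_
  refine (congrArg (· ≫ ((EtCoh.pull g').obj F).obj.map
    ((EtCoh.bc f').map (liftBC g q hq)).op) h1).trans ?_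
  refine (Category.assoc _ _ _).trans ?_
  exact congrArg (unitApp g' F ((EtCoh.bc f).obj V) ≫ ·) h3

end Groth.Agent.Etcore.IntBC
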