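import Groth.Agent.Etcore.IntPointed
import Groth.Agent.Etcore.SecPull
import Groth.Agent.Etbase.PullUnit2
import Groth.Agent.Etbase.EtGlue

/-!
# Sections of étale sheaves on the geometric fibres of an integral morphism
-/

set_option autoImplicit false
universe u

open CategoryTheory CategoryTheory.Limits AlgebraicGeometry Opposite

namespace Groth.Agent.Etcore.IntFibre

open Groth.Agent.Etbase.FinLiftSch Groth.Agent.Etbase.EtGlue Groth.Agent.Etbase.EtSections
  Groth.Agent.Etcore.SecPull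

section sq

variable {T S : Scheme.{u}} (g : T ⟶ S) (G : EtCoh.Ab S)

set_option backward.isDefEq.respectTransparency.types false in
/-- The vanishing locus of a pulled back section. -/
theorem vanishesAt_sq_iff {V : S.Etale} {W : T.Etale} (q : W.left ⟶ V.left)
    (hq : q ≫ V.hom = W.hom ≫ g) (s : EtCoh.sect G V) (w : W.left) :
    VanishesAt ((EtCoh.pull g).obj G) W (sq g G q hq s) w ↔ VanishesAt G V s (q w) := by
  have h1 : sq g G q hq s = ((EtCoh.pull g).obj G).obj.map (liftBC g q hq).op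
      (Groth.Agent.Etbase.PullUnit.unitSect g G V s) := rfl
  rw [h1, vanishesAt_map_iff, Groth.Agent.Etbase.PullUnit.vanishesAt_unitSect_iff]
  have h2 : (pullback.fst V.hom g : ((EtCoh.bc g).obj V).left ⟶ V.left)
      ((liftBC g q hq).left w) = q w :=
    congrArg (fun (r : W.left ⟶ V.left) => r w) (toFst_liftBC g q hq)
  rw [h2]

end sq

section site

variable {X Y : Scheme.{u}} (f : X ⟶ Y) {Ω : Type u} [Field Ω] [IsSepClosed Ω]

omit [Field Ω] [IsSepClosed Ω] in
/-- conversion of clopen subschemes of a fibre product into opens of `(EtCoh.bc f).obj V` -/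
theorem exists_opens {V : Y.Etale} {P D₀ : Scheme.{u}} (p₁ : P ⟶ V.left) (p₂ : P ⟶ X)
    (pb : IsPullback p₂ p₁ f V.hom) (d : D₀ ⟶ P) [IsOpenImmersion d]
    (hd' : IsClosed (Set.range d)) :
    ∃ (D : ((EtCoh.bc f).obj V).left.Opens) (_ : IsClosed (D : Set ((EtCoh.bc f).obj V).left))
      (i : D₀ ≅ D.toScheme), i.hom ≫ D.ι ≫ pr1 f V = d ≫ p₁ ∧ i.hom ≫ D.ι ≫ pr2 f V = d ≫ p₂ := by
  let e : P ≅ ((EtCoh.bc f).obj V).left := pb.flip.isoPullback
  have e1 : e.hom ≫ pr1 f V = p₁ := pb.flip.isoPullback_hom_fst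
  have e2 : e.hom ≫ pr2 f V = p₂ := pb.flip.isoPullback_hom_snd
  let d' : D₀ ⟶ ((EtCoh.bc f).obj V).left := d ≫ e.hom
  have hd1 : IsOpenImmersion d' := inferInstance
  let D : ((EtCoh.bc f).obj V).left.Opens := d'.opensRange
  let i : D₀ ≅ D.toScheme := d'.isoOpensRange
  have hi : i.hom ≫ D.ι = d' := by
    have : i.inv ≫ d' = D.ι := d'.isoOpensRange_inv_comp
    rw [← this, Iso.hom_inv_id_assoc]
  have hcl : IsClosed (D : Set ((EtCoh.bc f).obj V).left) := by
    have : (D : Set ((EtCoh.bc f).obj V).left) = e.inv ⁻¹' (Set.range d) := by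
      change Set.range d' = _
      ext x
      constructor
      · rintro ⟨y, rfl⟩
        refine ⟨y, ?_⟩
        change d y = (d' ≫ e.inv) y
        have : d' ≫ e.inv = d := by
          simp only [d', Category.assoc, Iso.hom_inv_id, Category.comp_id]
        rw [this]
      · rintro ⟨y, hy⟩
        refine ⟨y, ?_⟩
        change (d ≫ e.hom) y = x
        rw [Scheme.Hom.comp_apply, hy]
        change (e.inv ≫ e.hom) x = x
        rw [Iso.inv_hom_id]
        rfl
    rw [this]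
    exact hd'.preimage e.inv.continuous
  refine ⟨D, hcl, i, ?_, ?_⟩
  · rw [← Category.assoc, hi, Category.assoc, e1]
  · rw [← Category.assoc, hi, Category.assoc, e2]

/-- Pointed étale-local sections on the small étale site. -/
theorem exists_pointed [IsIntegralHom f] {η : Spec (CommRingCat.of Ω) ⟶ Y} (U : X.Etale)
    (ω : Spec (CommRingCat.of Ω) ⟶ U.left) (hω : (ω ≫ U.hom) ≫ f = η) :
    ∃ (V : Y.Etale) (t : (Scheme.pointSmallEtale η).fiber.obj V)
      (D : ((EtCoh.bc f).obj V).left.Opens) (_ : IsClosed (D : Set ((EtCoh.bc f).obj V).left))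
      (σ : opn ((EtCoh.bc f).obj V) D ⟶ U) (z : Spec (CommRingCat.of Ω) ⟶ D.toScheme),
      z ≫ D.ι = prLift f (ptHom t) (ω ≫ U.hom) ((ptHom_w t).trans hω.symm) ∧
        z ≫ (σ.left : D.toScheme ⟶ U.left) = ω := by
  obtain ⟨V', g, hg, P, p₁, p₂, pb, D₀, d, hd, hd', σ, z, h1, h2⟩ := IntPointed.pointed f U.hom ω
  let V : Y.Etale := Scheme.Etale.mk g
  obtain ⟨D, hcl, i, e1, e2⟩ := exists_opens f (V := V) p₁ p₂ pb d hd'
  have hz1 : z ≫ d ≫ p₂ = ω ≫ U.hom := by
    rw [← h1, ← Category.assoc, h2]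
  let t : (Scheme.pointSmallEtale η).fiber.obj V := mkPt (z ≫ d ≫ p₁) (by
    change (z ≫ d ≫ p₁) ≫ g = η
    rw [Category.assoc, Category.assoc, ← pb.w, ← hω, ← hz1, Category.assoc, Category.assoc])
  refine ⟨V, t, D, hcl, mkHom (i.inv ≫ σ) ?_, z ≫ i.hom, ?_, ?_⟩
  · change (i.inv ≫ σ) ≫ U.hom = D.ι ≫ pr2 f V
    rw [Category.assoc, h1, ← e2, Iso.inv_hom_id_assoc]
  · apply pr_ext
    · rw [prLift_pr1, Category.assoc, Category.assoc, e1]
      rfl
    · rw [prLift_pr2, Category.assoc, Category.assoc, e2]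
      exact hz1
  · change (z ≫ i.hom) ≫ i.inv ≫ σ = ω
    rw [Category.assoc, Iso.hom_inv_id_assoc, h2]

omit [IsSepClosed Ω] in
theorem exists_lift_opens {Z : Scheme.{u}} (D : Z.Opens) (z : Spec (CommRingCat.of Ω) ⟶ Z)
    (hz : z default ∈ D) : ∃ z' : Spec (CommRingCat.of Ω) ⟶ D.toScheme, z' ≫ D.ι = z := by
  have hr : Set.range z ⊆ Set.range D.ι := by
    rintro _ ⟨x, rfl⟩
    rw [Scheme.Opens.range_ι, Subsingleton.elim x default]
    exact hz
  exact ⟨IsOpenImmersion.lift D.ι z hr, IsOpenImmersion.lift_fac _ _ _⟩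

/-- Separation of geometric points on the small étale site. -/
theorem exists_sep [IsIntegralHom f] {η : Spec (CommRingCat.of Ω) ⟶ Y}
    (ζ₁ ζ₂ : Spec (CommRingCat.of Ω) ⟶ X) (h1 : ζ₁ ≫ f = η) (h2 : ζ₂ ≫ f = η) (hne : ζ₁ ≠ ζ₂) :
    ∃ (V : Y.Etale) (t : (Scheme.pointSmallEtale η).fiber.obj V)
      (D : ((EtCoh.bc f).obj V).left.Opens) (_ : IsClosed (D : Set ((EtCoh.bc f).obj V).left)),
      prLift f (ptHom t) ζ₁ ((ptHom_w t).trans h1.symm) default ∈ D ∧
      prLift f (ptHom t) ζ₂ ((ptHom_w t).trans h2.symm) default ∉ D := by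
  obtain ⟨V', g, hg, P, p₁, p₂, pb, D₀, d, hd, hd', z, hz, hz'⟩ :=
    IntPointed.sep f ζ₁ ζ₂ (h1.trans h2.symm) hne
  let V : Y.Etale := Scheme.Etale.mk g
  obtain ⟨D, hcl, i, e1, e2⟩ := exists_opens f (V := V) p₁ p₂ pb d hd'
  let t : (Scheme.pointSmallEtale η).fiber.obj V := mkPt (z ≫ d ≫ p₁) (by
    change (z ≫ d ≫ p₁) ≫ g = η
    rw [Category.assoc, Category.assoc, ← pb.w, ← h1, ← hz, Category.assoc, Category.assoc])
  refine ⟨V, t, D, hcl, ?_, ?_⟩
  · have : prLift f (ptHom t) ζ₁ ((ptHom_w t).trans h1.symm) = z ≫ i.hom ≫ D.ι := by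
      apply pr_ext
      · rw [prLift_pr1, Category.assoc, Category.assoc, e1]
        rfl
      · rw [prLift_pr2, Category.assoc, Category.assoc, e2, hz]
    rw [this, Scheme.Hom.comp_apply, Scheme.Hom.comp_apply]
    exact (i.hom (z default)).2
  · intro hmem
    obtain ⟨z', e3⟩ := exists_lift_opens D _ hmem
    refine hz' (z' ≫ i.inv) ?_ ?_
    · have e4 : (z' ≫ i.inv) ≫ i.hom ≫ D.ι ≫ pr1 f V = ptHom t := by
        rw [Category.assoc, Iso.inv_hom_id_assoc, ← Category.assoc, e3, prLift_pr1]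
      rw [e1] at e4
      exact e4
    · rw [← e2, Category.assoc, Iso.inv_hom_id_assoc, ← Category.assoc, e3, prLift_pr2]

end site

end Groth.Agent.Etcore.IntFibre
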