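import Groth.Agent.Etcore.IntBC
import Groth.Agent.Etbase.PullUnit2

/-!
Injectivity of the degree zero base change map for universally closed morphisms (in particular
for integral morphisms).
-/

set_option autoImplicit false
open CategoryTheory CategoryTheory.Limits AlgebraicGeometry Opposite
universe u

namespace Groth.Agent.Etcore.IntInj

open Groth.Agent.Etcore.SecPull Groth.Agent.Etcore.IntBC
open Groth.Agent.Etbase Groth.Agent.Etbase.EtSections Groth.Agent.Etbase.PullUnit

variable {X Y : Scheme.{u}} (f : X ⟶ Y)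

/-- Restriction of an object of the small étale site to an open. -/
noncomputable def subEt (V : Y.Etale) (O : V.left.Opens) : Y.Etale := Scheme.Etale.mk (O.ι ≫ V.hom)

noncomputable def subEtHom (V : Y.Etale) (O : V.left.Opens) : subEt V O ⟶ V :=
  MorphismProperty.Over.homMk O.ι rfl trivial

theorem subEtHom_left (V : Y.Etale) (O : V.left.Opens) : (subEtHom V O).left = O.ι := rfl

set_option backward.isDefEq.respectTransparency.types false in
theorem bc_map_left_fst {V V' : Y.Etale} (c : V' ⟶ V) :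
    ((EtCoh.bc f).map c).left ≫ (pullback.fst V.hom f : ((EtCoh.bc f).obj V).left ⟶ V.left) =
      (pullback.fst V'.hom f : ((EtCoh.bc f).obj V').left ⟶ V'.left) ≫ c.left :=
  (EtCoh.isPullback_bc_map f c).w

/-- For a universally closed `f`, a section of `f_* F` which vanishes at all points over `v`
vanishes on an (étale, even open) neighbourhood of `v`. -/
theorem vanishesAt_push_of_forall [UniversallyClosed f] (F : EtCoh.Ab X) (V : Y.Etale)
    (σ : EtCoh.sect F ((EtCoh.bc f).obj V)) (v : V.left)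
    (h : ∀ z : ((EtCoh.bc f).obj V).left,
      (pullback.fst V.hom f : ((EtCoh.bc f).obj V).left ⟶ V.left) z = v →
        VanishesAt F ((EtCoh.bc f).obj V) σ z) :
    VanishesAt ((EtCoh.push f).obj F) V σ v := by
  let p : ((EtCoh.bc f).obj V).left ⟶ V.left := pullback.fst V.hom f
  have hp : UniversallyClosed p := MorphismProperty.pullback_fst V.hom f inferInstance
  have hcl : IsClosedMap p := p.isClosedMap
  let Z : Set ((EtCoh.bc f).obj V).left := {z | VanishesAt F ((EtCoh.bc f).obj V) σ z}
  have hZ : IsOpen Z := isOpen_vanishesAt _ _ _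
  have hC : IsClosed (p '' Zᶜ) := hcl _ hZ.isClosed_compl
  let O : V.left.Opens := ⟨(p '' Zᶜ)ᶜ, hC.isOpen_compl⟩
  have hv : v ∈ O := by
    rintro ⟨z, hz, hzv⟩
    exact hz (h z hzv)
  refine ⟨subEt V O, subEtHom V O, ⟨v, hv⟩, rfl, ?_⟩
  change F.obj.map ((EtCoh.bc f).map (subEtHom V O)).op σ = 0
  apply eq_zero_of_vanishesAt
  intro z0
  rw [vanishesAt_map_iff]
  by_contra hz
  have h1 := congrArg (fun k ↦ k z0) (bc_map_left_fst f (subEtHom V O))
  have h2 : p (((EtCoh.bc f).map (subEtHom V O)).left z0) ∈ O := by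
    have : p (((EtCoh.bc f).map (subEtHom V O)).left z0) =
        (subEtHom V O).left ((pullback.fst (subEt V O).hom f :
          ((EtCoh.bc f).obj (subEt V O)).left ⟶ (subEt V O).left) z0) := h1
    rw [this]
    exact ((pullback.fst (subEt V O).hom f :
          ((EtCoh.bc f).obj (subEt V O)).left ⟶ (subEt V O).left) z0).2
  exact h2 ⟨_, hz, rfl⟩

variable {X' Y' : Scheme.{u}} (g : Y' ⟶ Y) (f' : X' ⟶ Y') (g' : X' ⟶ X)

/-- The square formed by `W ×_{Y'} X' ⟶ V ×_Y X` over `W ⟶ V` is cartesian. -/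
theorem isPullback_bcSq (h : IsPullback g' f' f g) {V : Y.Etale} {W : Y'.Etale}
    (q : W.left ⟶ V.left) (hq : q ≫ V.hom = W.hom ≫ g) :
    IsPullback (bcSq f g f' g' h.w q hq)
      (pullback.fst W.hom f' : ((EtCoh.bc f').obj W).left ⟶ W.left)
      (pullback.fst V.hom f : ((EtCoh.bc f).obj V).left ⟶ V.left) q := by
  refine IsPullback.of_right (h₁₂ := (pullback.snd V.hom f : ((EtCoh.bc f).obj V).left ⟶ X))
    (v₁₃ := f) (h₂₂ := V.hom) ?_ (bcSq_fst f g f' g' h.w q hq)
    (IsPullback.of_hasPullback V.hom f).flip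
  exact (congrArg₂ (fun a d ↦ IsPullback a
    (pullback.fst W.hom f' : ((EtCoh.bc f').obj W).left ⟶ W.left) f d)
    (bcSq_snd f g f' g' h.w q hq) hq).mpr
    ((IsPullback.of_hasPullback W.hom f').flip.paste_horiz h)

theorem exists_preimage_of_isPullback {P A B C : Scheme.{u}} {a : P ⟶ A} {b : P ⟶ B} {c : A ⟶ C}
    {d : B ⟶ C} (h : IsPullback a b c d) (x : A) (y : B) (hxy : c x = d y) :
    ∃ p : P, a p = x ∧ b p = y := by
  obtain ⟨z, hz1, hz2⟩ := Scheme.Pullback.exists_preimage_pullback x y hxy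
  refine ⟨h.isoPullback.inv z, ?_, ?_⟩
  · rw [← Scheme.Hom.comp_apply, IsPullback.isoPullback_inv_fst]
    exact hz1
  · rw [← Scheme.Hom.comp_apply, IsPullback.isoPullback_inv_snd]
    exact hz2

/-- If the image of a pulled back section under the base change map vanishes on `W`, then the
section vanishes at all points over the image of `W`. -/
theorem vanishesAt_of_baseChange0 (h : IsPullback g' f' f g) (F : EtCoh.Ab X) {V : Y.Etale}
    {W : Y'.Etale} (b : W ⟶ (EtCoh.bc g).obj V) (σ : EtCoh.sect ((EtCoh.push f).obj F) V)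
    (h0 : (EtCoh.baseChange0 f g f' g' h.w F).hom.app (op W)
      (((EtCoh.pull g).obj ((EtCoh.push f).obj F)).obj.map b.op
        (unitSect g ((EtCoh.push f).obj F) V σ)) = 0) (w : W.left)
    (z : ((EtCoh.bc f).obj V).left)
    (hz : (pullback.fst V.hom f : ((EtCoh.bc f).obj V).left ⟶ V.left) z = toFst g b w) :
    VanishesAt F ((EtCoh.bc f).obj V) σ z := by
  obtain ⟨w', hw', -⟩ := exists_preimage_of_isPullback
    (isPullback_bcSq f g f' g' h (toFst g b) (toFst_hom g b)) z w hz
  have h1 : (EtCoh.baseChange0 f g f' g' h.w F).hom.app (op W)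
      (((EtCoh.pull g).obj ((EtCoh.push f).obj F)).obj.map b.op
        (unitSect g ((EtCoh.push f).obj F) V σ)) =
      ((EtCoh.pull g').obj F).obj.map ((EtCoh.bc f').map b ≫ bcMix f g f' g' h.w V).op
        (unitSect g' F ((EtCoh.bc f).obj V) σ) := by
    have h2 : ((EtCoh.pull g).obj ((EtCoh.push f).obj F)).obj.map b.op ≫
      (EtCoh.baseChange0 f g f' g' h.w F).hom.app (op W) =
      (EtCoh.baseChange0 f g f' g' h.w F).hom.app (op ((EtCoh.bc g).obj V)) ≫
      ((EtCoh.pull g').obj F).obj.map ((EtCoh.bc f').map b).op :=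
      (EtCoh.baseChange0 f g f' g' h.w F).hom.naturality b.op
    have h3 := ConcreteCategory.congr_hom h2 (unitSect g ((EtCoh.push f).obj F) V σ)
    have h4 := ConcreteCategory.congr_hom (unit_baseChange0 f g f' g' h.w F V) σ
    refine h3.trans ?_
    have h5 := congrArg (((EtCoh.pull g').obj F).obj.map ((EtCoh.bc f').map b).op) h4
    refine h5.trans ?_
    exact map_map _ _ _ _
  rw [h1] at h0
  have h6 := PullUnit2.vanishesAt_of_map_unitSect_eq_zero g' F ((EtCoh.bc f).obj V) σ
    ((EtCoh.bc f').obj W) _ h0 w'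
  have h7 : (((EtCoh.bc f').map b ≫ bcMix f g f' g' h.w V).left ≫
      pullback.fst ((EtCoh.bc f).obj V).hom g') w' = z := by
    rw [← hw', ← bcMix_toFst]
    rfl
  rw [h7] at h6
  exact h6

/-- The degree zero base change map for a universally closed morphism is injective. -/
theorem baseChange0_app_injective [UniversallyClosed f] (h : IsPullback g' f' f g)
    (F : EtCoh.Ab X) (U : Y'.Etale) (a : EtCoh.sect ((EtCoh.pull g).obj ((EtCoh.push f).obj F)) U)
    (ha : (EtCoh.baseChange0 f g f' g' h.w F).hom.app (op U) a = 0) : a = 0 := by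
  apply eq_zero_of_vanishesAt
  intro x
  obtain ⟨V, σ, W, α, b, w, hw, hab⟩ :=
    PullUnit2.exists_locally_unitSect g ((EtCoh.push f).obj F) U a x
  rw [← hw, ← vanishesAt_map_iff, hab, vanishesAt_map_iff, vanishesAt_unitSect_iff]
  apply vanishesAt_push_of_forall
  intro z hz
  refine vanishesAt_of_baseChange0 f g f' g' h F b σ ?_ w z ?_
  · rw [← hab]
    have h2 : ((EtCoh.pull g).obj ((EtCoh.push f).obj F)).obj.map α.op ≫
      (EtCoh.baseChange0 f g f' g' h.w F).hom.app (op W) =
      (EtCoh.baseChange0 f g f' g' h.w F).hom.app (op U) ≫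
      ((EtCoh.pull g').obj F).obj.map ((EtCoh.bc f').map α).op :=
      (EtCoh.baseChange0 f g f' g' h.w F).hom.naturality α.op
    have h3 := ConcreteCategory.congr_hom h2 a
    refine h3.trans ?_
    refine (congrArg (((EtCoh.pull g').obj F).obj.map ((EtCoh.bc f').map α).op) ha).trans ?_
    exact map_zero _
  · exact hz

theorem mono_of_app_injective {S : Scheme.{u}} {A B : EtCoh.Ab S} (φ : A ⟶ B)
    (h : ∀ (U : S.Etale) (a : EtCoh.sect A U), φ.hom.app (op U) a = 0 → a = 0) : Mono φ := by
  have : ∀ U : S.Etaleᵒᵖ, Mono (φ.hom.app U) := fun U ↦ by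
    rw [AddCommGrpCat.mono_iff_injective]
    exact (injective_iff_map_eq_zero' (φ.hom.app U).hom).2 fun a ↦
      ⟨h U.unop a, fun ha ↦ by rw [ha]; exact map_zero _⟩
  have : Mono φ.hom := NatTrans.mono_of_mono_app _
  exact Functor.mono_of_mono_map (sheafToPresheaf _ _) this

theorem mono_baseChange0 [UniversallyClosed f] (h : IsPullback g' f' f g) (F : EtCoh.Ab X) :
    Mono (EtCoh.baseChange0 f g f' g' h.w F) :=
  mono_of_app_injective _ fun U a ha ↦ baseChange0_app_injective f g f' g' h F U a ha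

end Groth.Agent.Etcore.IntInj
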