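import Groth.Agent.Etcore.IntegralAlg2

/-!
# Separation of geometric points of integral algebras by idempotents, etale locally
-/

set_option linter.style.haveILetI false

open Polynomial TensorProduct

universe u v w

namespace Groth.Agent.Etcore.IntegralAlg

/-- the point of a tensor product given by a point of the second factor. -/
@[reducible] noncomputable def ptR {A B Ω : Type*} (A' : Type*) [CommRing A] [CommRing A']
    [CommRing B] [Field Ω] [Algebra A A'] [Algebra A B] [Algebra A Ω] [Algebra A' Ω]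
    [IsScalarTower A A' Ω] (x : B →ₐ[A] Ω) : A' ⊗[A] B →ₐ[A'] Ω :=
  Algebra.TensorProduct.lift (Algebra.ofId A' Ω) x (fun _ _ => Commute.all _ _)

theorem ptR_tmul {A A' B Ω : Type*} [CommRing A] [CommRing A']
    [CommRing B] [Field Ω] [Algebra A A'] [Algebra A B] [Algebra A Ω] [Algebra A' Ω]
    [IsScalarTower A A' Ω] (x : B →ₐ[A] Ω) (a : A') (b : B) :
    ptR A' x (a ⊗ₜ b) = algebraMap A' Ω a * x b := by
  rw [Algebra.TensorProduct.lift_tmul]
  rfl

/-- The point of `A₁ ⊗ B` given by `x₁`, `x₂` have different kernels after an etale extension. -/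
theorem exists_etale_ker_ne {A : Type u} {B Ω : Type*} [CommRing A] [CommRing B] [Field Ω]
    [Algebra A B] [Algebra.IsIntegral A B] [Algebra A Ω]
    (x₁ x₂ : B →ₐ[A] Ω) (hne : x₁ ≠ x₂) :
    ∃ (A' : Type u) (_ : CommRing A') (_ : Algebra A A') (_ : Algebra.Etale A A')
      (_ : Algebra A' Ω) (_ : IsScalarTower A A' Ω) (f : A' ⊗[A] B),
      ptR A' x₂ f = 0 ∧ ptR A' x₁ f ≠ 0 := by
  obtain ⟨b, hb⟩ : ∃ b, x₁ b ≠ x₂ b := by
    by_contra h
    push Not at h
    exact hne (AlgHom.ext h)
  letI : Algebra (kerP A Ω).ResidueField Ω := (resToOmega A Ω).toAlgebra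
  haveI : IsScalarTower A (kerP A Ω).ResidueField Ω := IsScalarTower.of_algebraMap_eq fun a =>
    (resToOmega_algebraMap A Ω a).symm
  let p := ringExpChar Ω
  have hint : IsIntegral (kerP A Ω).ResidueField (x₁ b) :=
    ((Algebra.IsIntegral.isIntegral (R := A) b).map x₁).tower_top
  obtain ⟨n, hn⟩ := exists_pow_simpleRoot (residueField_frac A (kerP A Ω)) p (x₁ b)
    hint.isAlgebraic
  obtain ⟨A₁, _, _, _, _, _, hA₁⟩ := hn.exists_etale
  obtain ⟨a, s, hs, hx⟩ := hA₁
  have hker : RingHom.ker (ptR A₁ x₁) ≠ RingHom.ker (ptR A₁ x₂) := by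
    intro h
    have h1 : ptR A₁ x₁ (s ⊗ₜ (b ^ p ^ n) - a ⊗ₜ 1) = 0 := by
      rw [map_sub, ptR_tmul, ptR_tmul, map_pow, map_one, mul_one, mul_comm, hx, sub_self]
    have h2 : ptR A₁ x₂ (s ⊗ₜ (b ^ p ^ n) - a ⊗ₜ 1) = 0 := by
      rw [← RingHom.mem_ker, ← h]
      exact h1
    rw [map_sub, ptR_tmul, ptR_tmul, map_pow, map_one, mul_one, sub_eq_zero] at h2
    have h3 : x₂ b ^ p ^ n = x₁ b ^ p ^ n :=
      mul_left_cancel₀ hs (h2.trans (hx.symm.trans (mul_comm _ _)))
    exact hb (iterateFrobenius_inj Ω p n h3).symm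
  haveI : (RingHom.ker (ptR A₁ x₁)).IsPrime := RingHom.ker_isPrime _
  haveI : (RingHom.ker (ptR A₁ x₂)).IsPrime := RingHom.ker_isPrime _
  have hle : ¬ (RingHom.ker (ptR A₁ x₂) ≤ RingHom.ker (ptR A₁ x₁)) := by
    intro hle
    obtain ⟨y, hy, hy'⟩ := SetLike.exists_of_lt (lt_of_le_of_ne hle hker.symm)
    have h1 := Ideal.comap_lt_comap_of_integral_mem_sdiff (R := A₁) hle ⟨hy, hy'⟩
      (Algebra.IsIntegral.isIntegral y)
    refine h1.ne ?_
    ext a
    simp only [Ideal.mem_comap, RingHom.mem_ker, AlgHom.commutes]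
  obtain ⟨f, hf, hf'⟩ := SetLike.not_le_iff_exists.mp hle
  exact ⟨A₁, inferInstance, inferInstance, inferInstance, inferInstance, inferInstance, f, hf, hf'⟩

theorem eq_one_of_away {P Ω : Type*} [CommRing P] [Field Ω] (ε : P)
    (hε : IsIdempotentElem ε) (φ : P →+* Ω) (π : Localization.Away ε →+* Ω)
    (hπ : π.comp (algebraMap P (Localization.Away ε)) = φ) : φ ε = 1 := by
  have h1 : IsUnit (φ ε) := by
    rw [← hπ]
    exact (IsLocalization.Away.algebraMap_isUnit (S := Localization.Away ε) ε).map π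
  rcases IsIdempotentElem.iff_eq_zero_or_one.mp (hε.map φ) with h0 | h0
  · exact absurd h0 h1.ne_zero
  · exact h0

theorem eq_zero_of_away {P B C Ω : Type*} [CommRing P] [CommRing B] [CommRing C] [Field Ω] (ε : P)
    (hε : IsIdempotentElem ε) (i : B →+* P) (j : B →+* C) (h : C →+* Localization.Away ε)
    (hh : h.comp j = (algebraMap P (Localization.Away ε)).comp i) (φ : P →+* Ω) (f : B)
    (hf : IsUnit (j f)) (hφ : φ (i f) = 0) : φ ε = 0 := by
  rcases IsIdempotentElem.iff_eq_zero_or_one.mp (hε.map φ) with h0 | h0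
  · exact h0
  · exfalso
    have hu : IsUnit (φ ε) := by rw [h0]; exact isUnit_one
    let π : Localization.Away ε →+* Ω := IsLocalization.Away.lift (S := Localization.Away ε) ε hu
    have h1 : π (h (j f)) = φ (i f) := by
      have := DFunLike.congr_fun hh f
      rw [RingHom.comp_apply, RingHom.comp_apply] at this
      rw [this]
      exact IsLocalization.Away.lift_eq ε hu _
    have h2 : IsUnit (π (h (j f))) := (hf.map h).map π
    rw [h1, hφ] at h2
    exact h2.ne_zero rfl

/-- **Separation of geometric points.**  Two different geometric points of an integral algebra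
over the same geometric point of the base are separated by an idempotent, etale locally on the
base. -/
theorem exists_etale_idempotent_sep {A B Ω : Type u} [CommRing A] [CommRing B] [Field Ω]
    [IsSepClosed Ω] [Algebra A B] [Algebra.IsIntegral A B] [Algebra A Ω]
    (x₁ x₂ : B →ₐ[A] Ω) (hne : x₁ ≠ x₂) :
    ∃ (A' : Type u) (_ : CommRing A') (_ : Algebra A A') (_ : Algebra.Etale A A')
      (_ : Algebra A' Ω) (_ : IsScalarTower A A' Ω) (ε : A' ⊗[A] B), IsIdempotentElem ε ∧
      ptR A' x₁ ε = 1 ∧ ptR A' x₂ ε = 0 := by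
  obtain ⟨A₁, _, _, _, _, _, f, hf₂, hf₁⟩ := exists_etale_ker_ne x₁ x₂ hne
  letI : Algebra (A₁ ⊗[A] B) Ω := (ptR A₁ x₁).toRingHom.toAlgebra
  haveI : IsScalarTower A₁ (A₁ ⊗[A] B) Ω := .of_algebraMap_eq fun a =>
    ((ptR A₁ x₁).commutes a).symm
  have hfu : IsUnit ((algebraMap (A₁ ⊗[A] B) Ω) f) := isUnit_iff_ne_zero.mpr hf₁
  let c : Localization.Away f →+* Ω := IsLocalization.Away.lift (S := Localization.Away f) f hfu
  letI : Algebra (Localization.Away f) Ω := c.toAlgebra
  haveI : IsScalarTower (A₁ ⊗[A] B) (Localization.Away f) Ω := .of_algebraMap_eq fun a =>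
    (IsLocalization.Away.lift_eq f hfu a).symm
  haveI : Algebra.Etale (A₁ ⊗[A] B) (Localization.Away f) := Algebra.Etale.of_isLocalizationAway f
  obtain ⟨A₂, _, _, _, _, _, ε, hε, h, π, hh, -, hπ'⟩ :=
    exists_etale_section (A := A₁) (B := A₁ ⊗[A] B) (C := Localization.Away f) (Ω := Ω)
  letI : Algebra A A₂ := ((algebraMap A₁ A₂).comp (algebraMap A A₁)).toAlgebra
  haveI : IsScalarTower A A₁ A₂ := .of_algebraMap_eq fun a => rfl
  haveI : Algebra.Etale A A₂ := Algebra.Etale.comp A A₁ A₂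
  haveI : IsScalarTower A A₂ Ω := .of_algebraMap_eq fun a => by
    rw [IsScalarTower.algebraMap_apply A A₁ A₂, ← IsScalarTower.algebraMap_apply A₁ A₂ Ω,
      ← IsScalarTower.algebraMap_apply A A₁ Ω]
  let e := Algebra.TensorProduct.cancelBaseChange A A₁ A₂ A₂ B
  have key : ∀ (x : B →ₐ[A] Ω) (y : A₂ ⊗[A₁] (A₁ ⊗[A] B)),
      ptR A₂ x (e y) = ptR (A := A₁) A₂ (ptR A₁ x) y := by
    intro x y
    induction y using TensorProduct.induction_on with
    | zero => simp only [map_zero]
    | add y z hy hz => simp only [map_add, hy, hz]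
    | tmul a y =>
      rw [ptR_tmul]
      induction y using TensorProduct.induction_on with
      | zero => simp only [TensorProduct.tmul_zero, map_zero, mul_zero]
      | add y z hy hz => simp only [TensorProduct.tmul_add, map_add, hy, hz, mul_add]
      | tmul a' b =>
        rw [Algebra.TensorProduct.cancelBaseChange_tmul, ptR_tmul, ptR_tmul, Algebra.smul_def,
          map_mul, ← IsScalarTower.algebraMap_apply A₁ A₂ Ω]
        ring
  refine ⟨A₂, inferInstance, inferInstance, inferInstance, inferInstance, inferInstance, e ε,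
    hε.map e, ?_, ?_⟩
  · rw [key]
    refine eq_one_of_away ε hε (ptR (A := A₁) A₂ (ptR A₁ x₁)).toRingHom π ?_
    rw [hπ']
    refine RingHom.ext fun y => ?_
    induction y using TensorProduct.induction_on with
    | zero => simp only [map_zero]
    | add y z hy hz => simp only [map_add, hy, hz]
    | tmul a y =>
      change ptTensor (A := A₁) (B := A₂) (C := A₁ ⊗[A] B) (Ω := Ω) (a ⊗ₜ y) =
        ptR (A := A₁) A₂ (ptR A₁ x₁) (a ⊗ₜ y)
      rw [ptR_tmul, Algebra.TensorProduct.productMap_apply_tmul]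
      rfl
  · rw [key]
    refine eq_zero_of_away ε hε _ _ h hh (ptR (A := A₁) A₂ (ptR A₁ x₂)).toRingHom f
      (IsLocalization.Away.algebraMap_isUnit f) ?_
    change ptR (A := A₁) A₂ (ptR A₁ x₂) (1 ⊗ₜ f) = 0
    rw [ptR_tmul, hf₂, mul_zero]

end Groth.Agent.Etcore.IntegralAlg
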