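import Groth.Agent.Etcore.IntegralAlg2
import Groth.Agent.Etcore.IntegralSep
import Groth.Agent.Etbase.FinLiftSch

/-!
# Pointed étale-local sections and separation of points for integral morphisms of schemes

Scheme versions of `Groth.Agent.Etcore.IntegralAlg2.exists_etale_section` and
`Groth.Agent.Etcore.IntegralSep.exists_etale_idempotent_sep`.
-/

set_option autoImplicit false
universe u

open CategoryTheory CategoryTheory.Limits AlgebraicGeometry Opposite
open scoped TensorProduct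

namespace Groth.Agent.Etcore.IntPointed

/-- The étale `q : W ⟶ Z` has, étale-locally on `V`, a section through the geometric point `w`
over a clopen part `D` of `P = V' ×_V Z`. -/
def Pointed {V Z W : Scheme.{u}} (h : Z ⟶ V) (q : W ⟶ Z) {Ω : Type u} [Field Ω]
    (w : Spec (CommRingCat.of Ω) ⟶ W) : Prop :=
  ∃ (V' : Scheme.{u}) (g : V' ⟶ V) (_ : AlgebraicGeometry.Etale g) (P : Scheme.{u})
    (p₁ : P ⟶ V') (p₂ : P ⟶ Z) (_ : IsPullback p₂ p₁ h g) (D : Scheme.{u}) (d : D ⟶ P)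
    (_ : IsOpenImmersion d) (_ : IsClosed (Set.range d)) (σ : D ⟶ W)
    (z : Spec (CommRingCat.of Ω) ⟶ D), σ ≫ q = d ≫ p₂ ∧ z ≫ σ = w

theorem Pointed.of_isPullback {V₀ Z₀ W₀ V Z W : Scheme.{u}} {h₀ : Z₀ ⟶ V₀} {q₀ : W₀ ⟶ Z₀}
    {h : Z ⟶ V} {q : W ⟶ Z} {ι : V₀ ⟶ V} [AlgebraicGeometry.Etale ι] {j : Z₀ ⟶ Z} {r : W₀ ⟶ W}
    (sq : IsPullback j h₀ h ι) (hr : r ≫ q = q₀ ≫ j) {Ω : Type u} [Field Ω]
    {w₀ : Spec (CommRingCat.of Ω) ⟶ W₀} (H : Pointed h₀ q₀ w₀) : Pointed h q (w₀ ≫ r) := by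
  obtain ⟨V', g, hg, P, p₁, p₂, pb, D, d, hd, hd', σ, z, h1, h2⟩ := H
  refine ⟨V', g ≫ ι, inferInstance, P, p₁, p₂ ≫ j, pb.paste_horiz sq, D, d, hd, hd', σ ≫ r, z,
    ?_, ?_⟩
  · rw [Category.assoc, hr, ← Category.assoc, h1, Category.assoc]
  · rw [← Category.assoc, h2]

/-- Two geometric points of `Z` over the same geometric point of `V` are separated by a clopen
part of `V' ×_V Z`, `V' ⟶ V` an étale neighbourhood. -/
def Sep {V Z : Scheme.{u}} (h : Z ⟶ V) {Ω : Type u} [Field Ω]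
    (ζ₁ ζ₂ : Spec (CommRingCat.of Ω) ⟶ Z) : Prop :=
  ∃ (V' : Scheme.{u}) (g : V' ⟶ V) (_ : AlgebraicGeometry.Etale g) (P : Scheme.{u})
    (p₁ : P ⟶ V') (p₂ : P ⟶ Z) (_ : IsPullback p₂ p₁ h g) (D : Scheme.{u}) (d : D ⟶ P)
    (_ : IsOpenImmersion d) (_ : IsClosed (Set.range d))
    (z : Spec (CommRingCat.of Ω) ⟶ D), z ≫ d ≫ p₂ = ζ₁ ∧
      ∀ z' : Spec (CommRingCat.of Ω) ⟶ D, z' ≫ d ≫ p₁ = z ≫ d ≫ p₁ → z' ≫ d ≫ p₂ ≠ ζ₂

theorem Sep.of_isPullback {V₀ Z₀ V Z : Scheme.{u}} {h₀ : Z₀ ⟶ V₀}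
    {h : Z ⟶ V} {ι : V₀ ⟶ V} [IsOpenImmersion ι] {j : Z₀ ⟶ Z}
    (sq : IsPullback j h₀ h ι) {Ω : Type u} [Field Ω]
    {ζ₁ ζ₂ : Spec (CommRingCat.of Ω) ⟶ Z₀} (H : Sep h₀ ζ₁ ζ₂) : Sep h (ζ₁ ≫ j) (ζ₂ ≫ j) := by
  obtain ⟨V', g, hg, P, p₁, p₂, pb, D, d, hd, hd', z, h1, h2⟩ := H
  have hj : IsOpenImmersion j := MorphismProperty.of_isPullback sq.flip ‹IsOpenImmersion ι›
  refine ⟨V', g ≫ ι, inferInstance, P, p₁, p₂ ≫ j, pb.paste_horiz sq, D, d, hd, hd', z, ?_, ?_⟩
  · rw [← h1, Category.assoc, Category.assoc]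
  · intro z' hz' he
    refine h2 z' hz' ?_
    rw [← cancel_mono j, ← he, Category.assoc, Category.assoc]

variable {Ω : Type u} [Field Ω] [IsSepClosed Ω]

omit [IsSepClosed Ω] in
theorem isPullback_tensor (A A' B : Type u) [CommRing A] [CommRing A'] [CommRing B]
    [Algebra A A'] [Algebra A B] :
    IsPullback (Spec.map (CommRingCat.ofHom
      (Algebra.TensorProduct.includeRight (R := A) (A := A') (B := B)).toRingHom))
      (Spec.map (CommRingCat.ofHom (Algebra.TensorProduct.includeLeftRingHom (R := A) (A := A')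
        (B := B))))
      (Spec.map (CommRingCat.ofHom (algebraMap A B)))
      (Spec.map (CommRingCat.ofHom (algebraMap A A'))) := by
  have h := isPullback_SpecMap_of_isPushout _ _ _ _ (CommRingCat.isPushout_tensorProduct A A' B)
  exact h.flip

omit [IsSepClosed Ω] in
theorem isClosed_range_away {P : Type u} [CommRing P] (ε : P) (hε : IsIdempotentElem ε) :
    IsClosed (Set.range (Spec.map (CommRingCat.ofHom (algebraMap P (Localization.Away ε))))) :=
  PrimeSpectrum.isClosed_range_comap_of_surjective _ _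
    (IsLocalization.Away.algebraMap_surjective_of_isIdempotentElem ε hε)

omit [IsSepClosed Ω] in
theorem isOpenImmersion_away {P : Type u} [CommRing P] (ε : P) :
    IsOpenImmersion (Spec.map (CommRingCat.ofHom (algebraMap P (Localization.Away ε)))) :=
  inferInstance

theorem pointed_Spec {A B C : CommRingCat.{u}} (h : Spec B ⟶ Spec A) (q : Spec C ⟶ Spec B)
    [IsIntegralHom h] [AlgebraicGeometry.Etale q] (w : Spec (CommRingCat.of Ω) ⟶ Spec C) :
    Pointed h q w := by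
  obtain ⟨φ, rfl⟩ := Spec.map_surjective h
  obtain ⟨ψ, rfl⟩ := Spec.map_surjective q
  obtain ⟨τ, rfl⟩ := Spec.map_surjective w
  have hφ : φ.hom.IsIntegral := (IsIntegralHom.SpecMap_iff).1 inferInstance
  have hψ : ψ.hom.Etale := (HasRingHomProperty.Spec_iff (P := @AlgebraicGeometry.Etale)).1 inferInstance
  let _ : Algebra A B := φ.hom.toAlgebra
  let _ : Algebra B C := ψ.hom.toAlgebra
  let _ : Algebra C Ω := τ.hom.toAlgebra
  let _ : Algebra B Ω := (τ.hom.comp ψ.hom).toAlgebra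
  let _ : Algebra A Ω := ((τ.hom.comp ψ.hom).comp φ.hom).toAlgebra
  have : IsScalarTower B C Ω := IsScalarTower.of_algebraMap_eq' rfl
  have : IsScalarTower A B Ω := IsScalarTower.of_algebraMap_eq' rfl
  have : Algebra.IsIntegral A B := ⟨hφ⟩
  have : Algebra.Etale B C := hψ
  obtain ⟨A', _, _, _, _, _, ε, hε, h', π, e1, e2, e3⟩ :=
    IntegralAlg.exists_etale_section (A := A) (B := B) (C := C) (Ω := Ω)
  refine ⟨Spec (CommRingCat.of A'), Spec.map (CommRingCat.ofHom (algebraMap A A')), ?_,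
    Spec (CommRingCat.of (A' ⊗[A] B)), _, _, isPullback_tensor A A' B,
    Spec (CommRingCat.of (Localization.Away ε)),
    Spec.map (CommRingCat.ofHom (algebraMap (A' ⊗[A] B) (Localization.Away ε))), ?_, ?_,
    Spec.map (CommRingCat.ofHom h'), Spec.map (CommRingCat.ofHom π), ?_, ?_⟩
  · rw [HasRingHomProperty.Spec_iff (P := @AlgebraicGeometry.Etale)]
    change (algebraMap A A').Etale
    rw [RingHom.etale_algebraMap]
    infer_instance
  · exact isOpenImmersion_away ε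
  · exact isClosed_range_away ε hε
  · rw [← Spec.map_comp, ← Spec.map_comp]
    exact congrArg Spec.map (CommRingCat.hom_ext e1)
  · rw [← Spec.map_comp]
    exact congrArg Spec.map (CommRingCat.hom_ext e2)

theorem sep_Spec {A B : CommRingCat.{u}} (h : Spec B ⟶ Spec A) [IsIntegralHom h]
    (ζ₁ ζ₂ : Spec (CommRingCat.of Ω) ⟶ Spec B) (h12 : ζ₁ ≫ h = ζ₂ ≫ h) (hne : ζ₁ ≠ ζ₂) :
    Sep h ζ₁ ζ₂ := by
  obtain ⟨φ, rfl⟩ := Spec.map_surjective h
  obtain ⟨τ₁, rfl⟩ := Spec.map_surjective ζ₁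
  obtain ⟨τ₂, rfl⟩ := Spec.map_surjective ζ₂
  have hφ : φ.hom.IsIntegral := (IsIntegralHom.SpecMap_iff).1 inferInstance
  let _ : Algebra A B := φ.hom.toAlgebra
  let _ : Algebra A Ω := (τ₁.hom.comp φ.hom).toAlgebra
  have : Algebra.IsIntegral A B := ⟨hφ⟩
  have h12' : φ ≫ τ₁ = φ ≫ τ₂ := by
    apply Spec.map_injective
    rw [Spec.map_comp, Spec.map_comp, h12]
  let x₁ : B →ₐ[A] Ω := { τ₁.hom with commutes' := fun a => rfl }
  let x₂ : B →ₐ[A] Ω := { τ₂.hom with commutes' := fun a => (ConcreteCategory.congr_hom h12' a).symm }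
  have hx : x₁ ≠ x₂ := by
    intro he
    apply hne
    refine congrArg Spec.map (CommRingCat.hom_ext (RingHom.ext fun b => ?_))
    exact DFunLike.congr_fun he b
  obtain ⟨A', _, _, _, _, _, ε, hε, e1, e2⟩ :=
    IntegralAlg.exists_etale_idempotent_sep x₁ x₂ hx
  have hu : IsUnit ((IntegralAlg.ptR A' x₁).toRingHom ε) := by
    change IsUnit (IntegralAlg.ptR A' x₁ ε)
    rw [e1]
    exact isUnit_one
  let π : Localization.Away ε →+* Ω := IsLocalization.Away.lift (S := Localization.Away ε) ε hu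
  have hπ : π.comp (algebraMap (A' ⊗[A] B) (Localization.Away ε)) =
    (IntegralAlg.ptR A' x₁).toRingHom := IsLocalization.Away.lift_comp ε hu
  refine ⟨Spec (CommRingCat.of A'), Spec.map (CommRingCat.ofHom (algebraMap A A')), ?_,
    Spec (CommRingCat.of (A' ⊗[A] B)), _, _, isPullback_tensor A A' B,
    Spec (CommRingCat.of (Localization.Away ε)),
    Spec.map (CommRingCat.ofHom (algebraMap (A' ⊗[A] B) (Localization.Away ε))),
    isOpenImmersion_away ε, isClosed_range_away ε hε,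
    Spec.map (CommRingCat.ofHom π), ?_, ?_⟩
  · rw [HasRingHomProperty.Spec_iff (P := @AlgebraicGeometry.Etale)]
    change (algebraMap A A').Etale
    rw [RingHom.etale_algebraMap]
    infer_instance
  · rw [← Spec.map_comp, ← Spec.map_comp]
    refine congrArg Spec.map (CommRingCat.hom_ext (RingHom.ext fun b => ?_))
    refine (DFunLike.congr_fun hπ ((1 : A') ⊗ₜ[A] b)).trans ?_
    refine (IntegralAlg.ptR_tmul x₁ (1 : A') b).trans ?_
    rw [map_one, one_mul]
    rfl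
  · intro z' hz' he
    obtain ⟨π', rfl⟩ := Spec.map_surjective z'
    rw [← Spec.map_comp, ← Spec.map_comp, ← Spec.map_comp] at hz'
    rw [← Spec.map_comp, ← Spec.map_comp] at he
    have hz'' := Spec.map_injective hz'
    have he' := Spec.map_injective he
    have key : ∀ y : A' ⊗[A] B, π'.hom (algebraMap _ (Localization.Away ε) y) =
        IntegralAlg.ptR A' x₂ y := by
      intro y
      induction y using TensorProduct.induction_on with
      | zero => simp only [map_zero]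
      | add y z hy hz => simp only [map_add, hy, hz]
      | tmul a b =>
        have h1 : a ⊗ₜ[A] b = (a ⊗ₜ[A] (1 : B)) * ((1 : A') ⊗ₜ[A] b) := by
          rw [Algebra.TensorProduct.tmul_mul_tmul, mul_one, one_mul]
        rw [IntegralAlg.ptR_tmul, h1, map_mul, map_mul]
        congr 1
        · refine (ConcreteCategory.congr_hom hz'' a).trans ?_
          refine (DFunLike.congr_fun hπ (a ⊗ₜ[A] (1 : B))).trans ?_
          refine (IntegralAlg.ptR_tmul x₁ a (1 : B)).trans ?_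
          rw [map_one, mul_one]
        · exact ConcreteCategory.congr_hom he' b
    have h0 := key ε
    rw [e2] at h0
    have h3 : IsUnit (π'.hom (algebraMap _ (Localization.Away ε) ε)) :=
      (IsLocalization.Away.algebraMap_isUnit (S := Localization.Away ε) ε).map π'.hom
    rw [h0] at h3
    exact h3.ne_zero rfl

/-- a morphism of affine schemes as a morphism of spectra -/
theorem isPullback_isoSpec {V Z : Scheme.{u}} [IsAffine V] [IsAffine Z] (h : Z ⟶ V) :
    IsPullback Z.isoSpec.inv (Z.isoSpec.inv ≫ h ≫ V.isoSpec.hom) h V.isoSpec.inv :=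
  IsPullback.of_horiz_isIso ⟨by simp⟩

theorem pointed_affine {V Z W : Scheme.{u}} [IsAffine V] [IsAffine W] (h : Z ⟶ V) (q : W ⟶ Z)
    [IsIntegralHom h] [AlgebraicGeometry.Etale q] (w : Spec (CommRingCat.of Ω) ⟶ W) :
    Pointed h q w := by
  have : IsAffine Z := isAffine_of_isAffineHom h
  have key := Pointed.of_isPullback (isPullback_isoSpec h)
    (q₀ := W.isoSpec.inv ≫ q ≫ Z.isoSpec.hom) (q := q) (r := W.isoSpec.inv) (by simp)
    (pointed_Spec (Z.isoSpec.inv ≫ h ≫ V.isoSpec.hom) (W.isoSpec.inv ≫ q ≫ Z.isoSpec.hom)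
      (w ≫ W.isoSpec.hom))
  rwa [Category.assoc, Iso.hom_inv_id, Category.comp_id] at key

/-- **Pointed étale-local sections.** -/
theorem pointed {V Z W : Scheme.{u}} (h : Z ⟶ V) (q : W ⟶ Z)
    [IsIntegralHom h] [AlgebraicGeometry.Etale q] (w : Spec (CommRingCat.of Ω) ⟶ W) :
    Pointed h q w := by
  obtain ⟨V₀, _, ι, _, t₀, ht₀⟩ := Etbase.FinLiftSch.exists_affine_factor (w ≫ q ≫ h)
  let Z₀ := pullback h ι
  let w₁ : Spec (CommRingCat.of Ω) ⟶ pullback q (pullback.fst h ι) :=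
    pullback.lift w (pullback.lift (w ≫ q) t₀ (by rw [Category.assoc, ht₀]))
      (by rw [pullback.lift_fst])
  obtain ⟨W₀, _, κ, _, w₀, hw₀⟩ := Etbase.FinLiftSch.exists_affine_factor w₁
  have : IsAffine (pullback h ι) := isAffine_of_isAffineHom (pullback.snd h ι)
  have key := Pointed.of_isPullback (IsPullback.of_hasPullback h ι)
    (q₀ := κ ≫ pullback.snd q (pullback.fst h ι)) (q := q)
    (r := κ ≫ pullback.fst q (pullback.fst h ι))
    (by rw [Category.assoc, Category.assoc, pullback.condition])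
    (pointed_affine (pullback.snd h ι) (κ ≫ pullback.snd q (pullback.fst h ι)) w₀)
  rwa [← Category.assoc, hw₀, pullback.lift_fst] at key

theorem sep_affine {V Z : Scheme.{u}} [IsAffine V] (h : Z ⟶ V) [IsIntegralHom h]
    (ζ₁ ζ₂ : Spec (CommRingCat.of Ω) ⟶ Z) (h12 : ζ₁ ≫ h = ζ₂ ≫ h) (hne : ζ₁ ≠ ζ₂) :
    Sep h ζ₁ ζ₂ := by
  have : IsAffine Z := isAffine_of_isAffineHom h
  have key := Sep.of_isPullback (isPullback_isoSpec h)
    (sep_Spec (Z.isoSpec.inv ≫ h ≫ V.isoSpec.hom) (ζ₁ ≫ Z.isoSpec.hom) (ζ₂ ≫ Z.isoSpec.hom)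
      (by simp [reassoc_of% h12]) (fun he => hne ((cancel_mono _).1 he)))
  rwa [Category.assoc, Iso.hom_inv_id, Category.comp_id, Category.assoc, Iso.hom_inv_id,
    Category.comp_id] at key

/-- **Separation of geometric points.** -/
theorem sep {V Z : Scheme.{u}} (h : Z ⟶ V) [IsIntegralHom h]
    (ζ₁ ζ₂ : Spec (CommRingCat.of Ω) ⟶ Z) (h12 : ζ₁ ≫ h = ζ₂ ≫ h) (hne : ζ₁ ≠ ζ₂) :
    Sep h ζ₁ ζ₂ := by
  obtain ⟨V₀, _, ι, _, t₀, ht₀⟩ := Etbase.FinLiftSch.exists_affine_factor (ζ₁ ≫ h)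
  have key := Sep.of_isPullback (IsPullback.of_hasPullback h ι)
    (sep_affine (pullback.snd h ι) (pullback.lift ζ₁ t₀ ht₀.symm)
      (pullback.lift ζ₂ t₀ (h12.symm.trans ht₀.symm))
      (by rw [pullback.lift_snd, pullback.lift_snd]) (fun he => hne (by
        have := congrArg (· ≫ pullback.fst h ι) he
        change pullback.lift ζ₁ t₀ _ ≫ pullback.fst h ι = pullback.lift ζ₂ t₀ _ ≫ pullback.fst h ι
          at this
        rwa [pullback.lift_fst, pullback.lift_fst] at this)))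
  rwa [pullback.lift_fst, pullback.lift_fst] at key

end Groth.Agent.Etcore.IntPointed
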