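import Mathlib.RingTheory.Etale.QuasiFinite
import Mathlib.RingTheory.Etale.StandardEtale
import Mathlib.RingTheory.Flat.Rank
import Mathlib.RingTheory.TotallySplit
import Mathlib.RingTheory.Smooth.NoetherianDescent
import Mathlib.FieldTheory.PurelyInseparable.Basic
import Mathlib.RingTheory.Unramified.LocalRing
import Mathlib.RingTheory.Unramified.LocalStructure
import Mathlib.RingTheory.RingHom.Etale
import Mathlib.RingTheory.RingHom.Finite
import Mathlib.RingTheory.Finiteness.ModuleFinitePresentation

/-!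
# Etale neighbourhoods adapted to integral algebras (algebra part)

`Groth.Agent.Etcore.IntegralAlg`: local structure of integral ring maps for the etale topology.
-/

set_option linter.style.haveILetI false

open Polynomial TensorProduct

universe u v w

namespace Groth.Agent.Etcore.IntegralAlg

/-- derivative of `scaleRoots` evaluated at a scaled point. -/
theorem eval_derivative_scaleRoots {R : Type*} [CommRing R] (m : R[X]) (s r : R) :
    s * (derivative (m.scaleRoots s)).eval (s * r) = s ^ m.natDegree * (derivative m).eval r := by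
  rw [Polynomial.derivative_eval, Polynomial.derivative_eval,
    Polynomial.sum_over_range' _ _ (m.natDegree + 1) (by rw [natDegree_scaleRoots]; omega),
    Polynomial.sum_over_range' _ _ (m.natDegree + 1) (by omega), Finset.mul_sum, Finset.mul_sum]
  · refine Finset.sum_congr rfl fun i hi => ?_
    rw [Finset.mem_range] at hi
    rcases i with _ | i
    · simp
    · rw [coeff_scaleRoots]
      have h : m.natDegree = (m.natDegree - (i + 1)) + i + 1 := by omega
      conv_rhs => rw [h]
      rw [Nat.add_sub_cancel, mul_pow, pow_succ, pow_add]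
      ring
  · intro n; simp
  · intro n; simp

/-- `x : Ω` is a fraction of elements coming from `A`. -/
def IsFrac (A : Type*) {Ω : Type*} [CommRing A] [Field Ω] [Algebra A Ω] (x : Ω) : Prop :=
  ∃ a s : A, algebraMap A Ω s ≠ 0 ∧ x * algebraMap A Ω s = algebraMap A Ω a

/-- up to scaling by a nonzero element of `A`, `x : Ω` is a simple root of a monic polynomial
over `A`. -/
def SimpleRoot (A : Type*) {Ω : Type*} [CommRing A] [Field Ω] [Algebra A Ω] (x : Ω) : Prop :=
  ∃ (s : A) (q : A[X]), q.Monic ∧ algebraMap A Ω s ≠ 0 ∧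
    aeval (algebraMap A Ω s * x) q = 0 ∧ aeval (algebraMap A Ω s * x) (derivative q) ≠ 0

theorem IsFrac.tower {A B Ω : Type*} [CommRing A] [CommRing B] [Field Ω] [Algebra A B]
    [Algebra A Ω] [Algebra B Ω] [IsScalarTower A B Ω] {x : Ω} (h : IsFrac A x) : IsFrac B x := by
  obtain ⟨a, s, hs, hx⟩ := h
  refine ⟨algebraMap A B a, algebraMap A B s, ?_, ?_⟩
  · rwa [← IsScalarTower.algebraMap_apply]
  · rwa [← IsScalarTower.algebraMap_apply, ← IsScalarTower.algebraMap_apply]

theorem SimpleRoot.tower {A B Ω : Type*} [CommRing A] [CommRing B] [Field Ω] [Algebra A B]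
    [Algebra A Ω] [Algebra B Ω] [IsScalarTower A B Ω] {x : Ω} (h : SimpleRoot A x) :
    SimpleRoot B x := by
  obtain ⟨s, q, hq, hs, h0, h1⟩ := h
  refine ⟨algebraMap A B s, q.map (algebraMap A B), hq.map _, ?_, ?_, ?_⟩
  · rwa [← IsScalarTower.algebraMap_apply]
  · rwa [← IsScalarTower.algebraMap_apply, aeval_map_algebraMap]
  · rwa [← IsScalarTower.algebraMap_apply, derivative_map, aeval_map_algebraMap]

/-- A simple root becomes a fraction after an etale extension. -/
theorem SimpleRoot.exists_etale {A : Type u} {Ω : Type w} [CommRing A] [Field Ω] [Algebra A Ω]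
    {x : Ω} (h : SimpleRoot A x) :
    ∃ (A' : Type u) (_ : CommRing A') (_ : Algebra A A') (_ : Algebra.Etale A A')
      (_ : Algebra A' Ω) (_ : IsScalarTower A A' Ω), IsFrac A' x := by
  obtain ⟨s, q, hq, hs, h0, h1⟩ := h
  let P : StandardEtalePair A := ⟨q, hq, derivative q, ⟨1, 0, 1, by simp⟩⟩
  let ψ : P.Ring →ₐ[A] Ω := P.lift (algebraMap A Ω s * x) ⟨h0, isUnit_iff_ne_zero.mpr h1⟩
  let : Algebra P.Ring Ω := ψ.toRingHom.toAlgebra
  have hψ : ∀ y, algebraMap P.Ring Ω y = ψ y := fun y => rfl
  have : IsScalarTower A P.Ring Ω := IsScalarTower.of_algebraMap_eq fun a => by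
    rw [hψ, ψ.commutes]
  refine ⟨P.Ring, inferInstance, inferInstance, inferInstance, inferInstance, inferInstance,
    P.X, algebraMap A P.Ring s, ?_, ?_⟩
  · rwa [← IsScalarTower.algebraMap_apply]
  · rw [← IsScalarTower.algebraMap_apply, hψ, StandardEtalePair.lift_X, mul_comm]

/-- Finitely many simple roots become fractions after an etale extension. -/
theorem exists_etale_forall_isFrac {A : Type u} {Ω : Type w} [CommRing A] [Field Ω] [Algebra A Ω]
    (l : List Ω) (h : ∀ x ∈ l, SimpleRoot A x) :
    ∃ (A' : Type u) (_ : CommRing A') (_ : Algebra A A') (_ : Algebra.Etale A A')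
      (_ : Algebra A' Ω) (_ : IsScalarTower A A' Ω), ∀ x ∈ l, IsFrac A' x := by
  induction l with
  | nil => exact ⟨A, inferInstance, inferInstance, inferInstance, inferInstance, inferInstance,
      by simp⟩
  | cons y l ih =>
    obtain ⟨A₁, _, _, _, _, _, h₁⟩ := ih fun x hx => h x (List.mem_cons_of_mem _ hx)
    have hy : SimpleRoot A₁ y := (h y List.mem_cons_self).tower
    obtain ⟨A₂, _, _, _, _, _, h₂⟩ := hy.exists_etale
    let : Algebra A A₂ := ((algebraMap A₁ A₂).comp (algebraMap A A₁)).toAlgebra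
    have : IsScalarTower A A₁ A₂ := IsScalarTower.of_algebraMap_eq fun a => rfl
    have : Algebra.Etale A A₂ := Algebra.Etale.comp A A₁ A₂
    have : IsScalarTower A A₂ Ω := IsScalarTower.of_algebraMap_eq fun a => by
      rw [IsScalarTower.algebraMap_apply A A₁ A₂, ← IsScalarTower.algebraMap_apply A₁ A₂ Ω,
        ← IsScalarTower.algebraMap_apply A A₁ Ω]
    refine ⟨A₂, inferInstance, inferInstance, inferInstance, inferInstance, inferInstance, ?_⟩
    intro x hx
    rcases List.mem_cons.mp hx with rfl | hx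
    · exact h₂
    · exact (h₁ x hx).tower

/-- common denominators. -/
theorem exists_common_denom {A K : Type*} [CommRing A] [Field K] [Algebra A K]
    (hK : ∀ k : K, ∃ a s : A, algebraMap A K s ≠ 0 ∧ k * algebraMap A K s = algebraMap A K a)
    {ι : Type*} (t : Finset ι) (f : ι → K) :
    ∃ s : A, algebraMap A K s ≠ 0 ∧ ∀ i ∈ t, f i * algebraMap A K s ∈ (algebraMap A K).range := by
  classical
  choose a s hs ha using hK
  refine ⟨∏ i ∈ t, s (f i), ?_, fun i hi => ?_⟩
  · rw [map_prod]
    exact Finset.prod_ne_zero_iff.mpr fun i _ => hs _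
  · rw [← Finset.mul_prod_erase t _ hi, map_mul, ← mul_assoc, ha]
    exact ⟨_, map_mul _ _ _⟩

/-- A root of a separable polynomial over (an extension of) the residue field is a
`SimpleRoot`. -/
theorem simpleRoot_of_separable {A K Ω : Type*} [CommRing A] [Field K] [Field Ω] [Algebra A K]
    [Algebra K Ω] [Algebra A Ω] [IsScalarTower A K Ω]
    (hK : ∀ k : K, ∃ a s : A, algebraMap A K s ≠ 0 ∧ k * algebraMap A K s = algebraMap A K a)
    (x : Ω) (g : K[X]) (hg : g.Separable) (hx : aeval x g = 0) : SimpleRoot A x := by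
  have hint : IsIntegral K x := by
    refine IsAlgebraic.isIntegral ⟨g, ?_, hx⟩
    rintro rfl
    exact not_separable_zero hg
  set m := minpoly K x with hm
  have hmm : m.Monic := minpoly.monic hint
  have hms : m.Separable := hg.of_dvd (minpoly.dvd K x hx)
  obtain ⟨s, hs, hsm⟩ := exists_common_denom hK (Finset.range (m.natDegree + 1)) m.coeff
  have hlift : m.scaleRoots (algebraMap A K s) ∈ Polynomial.lifts (algebraMap A K) := by
    rw [Polynomial.lifts_iff_coeff_lifts]
    intro i
    rw [coeff_scaleRoots]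
    rcases lt_trichotomy i m.natDegree with h | h | h
    · obtain ⟨a, ha⟩ := hsm i (Finset.mem_range.mpr (by omega))
      obtain ⟨k, hk⟩ : ∃ k, m.natDegree - i = k + 1 := ⟨m.natDegree - i - 1, by omega⟩
      refine ⟨a * s ^ k, ?_⟩
      rw [hk, map_mul, ha, map_pow, pow_succ]
      ring
    · subst h
      refine ⟨1, ?_⟩
      rw [map_one, Nat.sub_self, pow_zero, mul_one]
      exact hmm.symm
    · refine ⟨0, ?_⟩
      rw [coeff_eq_zero_of_natDegree_lt h]
      simp
  obtain ⟨q, hq, -, hqm⟩ := Polynomial.lifts_and_natDegree_eq_and_monic hlift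
    ((monic_scaleRoots_iff _).mpr hmm)
  have hsΩ : algebraMap A Ω s ≠ 0 := by
    rw [IsScalarTower.algebraMap_apply A K Ω]
    simpa using hs
  have hmap : q.map (algebraMap A Ω) =
      (m.map (algebraMap K Ω)).scaleRoots (algebraMap A Ω s) := by
    rw [IsScalarTower.algebraMap_eq A K Ω, ← Polynomial.map_map, hq, map_scaleRoots]
    · rfl
    · rw [hmm.leadingCoeff, map_one]; exact one_ne_zero
  refine ⟨s, q, hqm, hsΩ, ?_, ?_⟩
  · rw [aeval_def, ← eval_map, hmap, scaleRoots_eval_mul, eval_map, ← aeval_def,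
      minpoly.aeval, mul_zero]
  · intro h0
    have h1 := eval_derivative_scaleRoots (m.map (algebraMap K Ω)) (algebraMap A Ω s) x
    rw [← hmap, derivative_map, eval_map, ← aeval_def, h0, mul_zero] at h1
    have h2 : (derivative (m.map (algebraMap K Ω))).eval x ≠ 0 := by
      rw [derivative_map, eval_map, ← aeval_def]
      exact hms.aeval_derivative_ne_zero (minpoly.aeval K x)
    exact (mul_ne_zero (pow_ne_zero _ hsΩ) h2) h1.symm

/-- Some power (by a power of the exponential characteristic) of an algebraic element is a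
`SimpleRoot`. -/
theorem exists_pow_simpleRoot {A K Ω : Type*} [CommRing A] [Field K] [Field Ω] [Algebra A K]
    [Algebra K Ω] [Algebra A Ω] [IsScalarTower A K Ω]
    (hK : ∀ k : K, ∃ a s : A, algebraMap A K s ≠ 0 ∧ k * algebraMap A K s = algebraMap A K a)
    (p : ℕ) [ExpChar Ω p] (x : Ω) (hx : IsAlgebraic K x) : ∃ n : ℕ, SimpleRoot A (x ^ p ^ n) := by
  have : ExpChar K p := (algebraMap K Ω).expChar (algebraMap K Ω).injective p
  obtain ⟨g, hg, n, hn⟩ := Irreducible.hasSeparableContraction p (minpoly.irreducible hx.isIntegral)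
  refine ⟨n, simpleRoot_of_separable hK _ g hg ?_⟩
  have := minpoly.aeval K x
  rwa [← hn, expand_aeval] at this


section
variable (A : Type*) (Ω : Type*) [CommRing A] [Field Ω] [Algebra A Ω]

/-- the kernel prime of a geometric point -/
abbrev kerP : Ideal A := RingHom.ker (algebraMap A Ω)

instance kerP_isPrime : (kerP A Ω).IsPrime := RingHom.ker_isPrime _

/-- the residue field at the image of a geometric point embeds in the field. -/
noncomputable def resToOmega : (kerP A Ω).ResidueField →+* Ω :=
  Ideal.ResidueField.lift (kerP A Ω) (algebraMap A Ω) le_rfl fun x hx => by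
    simpa [Submonoid.mem_comap, IsUnit.mem_submonoid_iff, isUnit_iff_ne_zero] using hx

theorem resToOmega_algebraMap (a : A) :
    resToOmega A Ω (algebraMap A (kerP A Ω).ResidueField a) = algebraMap A Ω a := by
  simp [resToOmega]

theorem residueField_frac (p : Ideal A) [p.IsPrime] (k : p.ResidueField) :
    ∃ a s : A, algebraMap A p.ResidueField s ≠ 0 ∧
      k * algebraMap A p.ResidueField s = algebraMap A p.ResidueField a := by
  obtain ⟨a, s, hs, rfl⟩ := IsFractionRing.div_surjective (A := A ⧸ p) k
  obtain ⟨a, rfl⟩ := Ideal.Quotient.mk_surjective a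
  obtain ⟨s, rfl⟩ := Ideal.Quotient.mk_surjective s
  have hs0 : algebraMap (A ⧸ p) p.ResidueField (Ideal.Quotient.mk p s) ≠ 0 := by
    have h1 := nonZeroDivisors.ne_zero hs
    rw [Ne, Ideal.Quotient.eq_zero_iff_mem] at h1
    simpa using h1
  refine ⟨a, s, ?_, ?_⟩
  · simpa using hs0
  · rw [div_mul_eq_mul_div, div_eq_iff hs0]
    simp [Ideal.algebraMap_quotient_residueField_mk]

end

/-- In a geometric point of a quasi-finite algebra, some power of each element is
a `SimpleRoot` over the base. -/
theorem exists_pow_simpleRoot_of_quasiFinite {A C Ω : Type*} [CommRing A] [CommRing C]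
    [Algebra A C] [Algebra.QuasiFinite A C] [Field Ω] [Algebra C Ω] [Algebra A Ω]
    [IsScalarTower A C Ω] (p : ℕ) [ExpChar Ω p] (c : C) :
    ∃ n : ℕ, SimpleRoot A (algebraMap C Ω c ^ p ^ n) := by
  let K := (kerP A Ω).ResidueField
  let L := (kerP C Ω).ResidueField
  have hcomap : kerP A Ω = (kerP C Ω).comap (algebraMap A C) := by
    ext a
    simp [kerP, RingHom.mem_ker, ← IsScalarTower.algebraMap_apply]
  let f : K →+* L := Ideal.ResidueField.map (kerP A Ω) (kerP C Ω) (algebraMap A C) hcomap
  letI : Algebra K L := f.toAlgebra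
  letI : Algebra L Ω := (resToOmega C Ω).toAlgebra
  letI : Algebra K Ω := (resToOmega A Ω).toAlgebra
  haveI : IsScalarTower A K Ω := IsScalarTower.of_algebraMap_eq fun a =>
    (resToOmega_algebraMap A Ω a).symm
  haveI : IsScalarTower C L Ω := IsScalarTower.of_algebraMap_eq fun a =>
    (resToOmega_algebraMap C Ω a).symm
  haveI : IsScalarTower A K L := IsScalarTower.of_algebraMap_eq fun a => by
    change algebraMap A L a = f (algebraMap A K a)
    rw [Ideal.ResidueField.map_algebraMap, ← IsScalarTower.algebraMap_apply]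
  haveI : IsScalarTower K L Ω := IsScalarTower.of_algebraMap_eq' <| by
    refine Ideal.ResidueField.ringHom_ext ?_
    ext a
    simp only [RingHom.comp_apply]
    rw [← IsScalarTower.algebraMap_apply A K Ω, ← IsScalarTower.algebraMap_apply A K L,
      IsScalarTower.algebraMap_apply A C L, ← IsScalarTower.algebraMap_apply C L Ω,
      ← IsScalarTower.algebraMap_apply A C Ω]
  haveI : Algebra.QuasiFinite A L := inferInstance
  haveI : Algebra.QuasiFinite K L := .of_restrictScalars A K L
  haveI : Module.Finite K L := .of_quasiFinite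
  refine exists_pow_simpleRoot (residueField_frac A (kerP A Ω)) p _ ?_
  rw [IsScalarTower.algebraMap_apply C L Ω]
  exact (Algebra.IsAlgebraic.isAlgebraic (R := K) (algebraMap C L c)).algebraMap

/-- Extending geometric points along an etale algebra, with prescribed kernel. -/
theorem exists_algebra_of_etale {R S Ω : Type u} [CommRing R] [CommRing S] [Algebra R S]
    [Algebra.Etale R S] [Field Ω] [IsSepClosed Ω] [Algebra R Ω] (Q : Ideal S) [Q.IsPrime]
    (hQ : Q.comap (algebraMap R S) = kerP R Ω) :
    ∃ (_ : Algebra S Ω) (_ : IsScalarTower R S Ω), kerP S Ω = Q := by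
  have hliesOver : Q.LiesOver (kerP R Ω) := ⟨hQ.symm⟩
  let K := (kerP R Ω).ResidueField
  let L := Q.ResidueField
  letI : Algebra (Localization.AtPrime (kerP R Ω)) (Localization.AtPrime Q) :=
    Localization.AtPrime.algebraOfLiesOver _ _
  letI : Algebra K Ω := (resToOmega R Ω).toAlgebra
  haveI : IsScalarTower R K Ω := IsScalarTower.of_algebraMap_eq fun a =>
    (resToOmega_algebraMap R Ω a).symm
  haveI : Algebra.IsSeparable K L := inferInstance
  let b : L →ₐ[K] Ω := IsSepClosed.lift
  letI : Algebra S Ω := (b.toRingHom.comp (algebraMap S L)).toAlgebra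
  have hb : ∀ s : S, algebraMap S Ω s = b (algebraMap S L s) := fun s => rfl
  refine ⟨inferInstance, IsScalarTower.of_algebraMap_eq fun r => ?_, ?_⟩
  · rw [hb, ← IsScalarTower.algebraMap_apply, IsScalarTower.algebraMap_apply R K L,
      b.commutes, ← IsScalarTower.algebraMap_apply]
  · ext s
    rw [RingHom.mem_ker, hb, map_eq_zero]
    exact Ideal.algebraMap_residueField_eq_zero


/-- A finite etale algebra with exactly one geometric point over a given geometric point is
trivial on a clopen neighbourhood. -/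
theorem exists_idempotent_bijective {R T Ω : Type u} [CommRing R] [CommRing T] [Algebra R T]
    [Algebra.Etale R T] [Module.Finite R T] [Field Ω] [IsSepClosed Ω] [Algebra R Ω]
    (τ : T →ₐ[R] Ω) (h : ∀ τ' : T →ₐ[R] Ω, τ' = τ) :
    ∃ ε : R, IsIdempotentElem ε ∧ algebraMap R Ω ε = 1 ∧
      Function.Bijective (algebraMap (Localization.Away ε) (Localization.Away ε ⊗[R] T)) := by
  classical
  let r : PrimeSpectrum R := ⟨kerP R Ω, inferInstance⟩
  have hfp : Module.FinitePresentation R T := Module.FinitePresentation.of_finite_of_finitePresentation R T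
  have hflat : Module.Flat R T := inferInstance
  have hloc : IsLocallyConstant (Module.rankAtStalk (R := R) T) :=
    Module.isLocallyConstant_rankAtStalk
  have hclopen : IsClopen {x : PrimeSpectrum R | Module.rankAtStalk (R := R) T x = 1} :=
    hloc.isClopen_fiber 1
  obtain ⟨ε, hε, hε'⟩ := PrimeSpectrum.exists_idempotent_basicOpen_eq_of_isClopen hclopen
  -- the rank at `r` is one
  have hr : Module.rankAtStalk (R := R) T r = 1 := by
    have h1 : Module.rankAtStalk (R := Ω) (Ω ⊗[R] T) ⊥ = Module.rankAtStalk (R := R) T r := by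
      rw [Module.rankAtStalk_baseChange]
      congr 1
    rw [← h1, Module.rankAtStalk_eq_finrank_of_free]
    have hsplit : Algebra.IsFiniteSplit Ω (Ω ⊗[R] T) := inferInstance
    obtain ⟨n, ⟨f⟩⟩ := hsplit.nonempty_algEquiv_fun
    rw [Pi.natCast_apply, LinearEquiv.finrank_eq f.toLinearEquiv, Module.finrank_fin_fun]
    -- all algebra maps `Ω ⊗ T → Ω` are equal
    have huniq : ∀ a b : (Ω ⊗[R] T) →ₐ[Ω] Ω, a = b := by
      intro a b
      refine Algebra.TensorProduct.ext (by ext) ?_
      rw [h ((a.restrictScalars R).comp Algebra.TensorProduct.includeRight),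
        h ((b.restrictScalars R).comp Algebra.TensorProduct.includeRight)]
    rcases n with _ | _ | n
    · exfalso
      let τ' : (Ω ⊗[R] T) →ₐ[Ω] Ω := Algebra.TensorProduct.lift (AlgHom.id Ω Ω) τ
        (fun _ _ => Commute.all _ _)
      have : (1 : Ω) = 0 := by
        rw [← map_one τ', ← map_zero τ']
        congr 1
        apply f.injective
        exact Subsingleton.elim _ _
      exact one_ne_zero this
    · rfl
    · exfalso
      have h2 := huniq ((Pi.evalAlgHom Ω (fun _ : Fin (n + 2) => Ω) 0).comp f.toAlgHom)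
        ((Pi.evalAlgHom Ω (fun _ : Fin (n + 2) => Ω) 1).comp f.toAlgHom)
      have h3 := congrArg (fun g => g (f.symm (Pi.single 0 1))) h2
      simp at h3
  refine ⟨ε, hε, ?_, ?_⟩
  · have hmem : r ∈ PrimeSpectrum.basicOpen ε := by
      change r ∈ (PrimeSpectrum.basicOpen ε : Set (PrimeSpectrum R))
      rw [← hε']
      exact hr
    have hne : algebraMap R Ω ε ≠ 0 := hmem
    have hid : IsIdempotentElem (algebraMap R Ω ε) := hε.map (algebraMap R Ω)
    rcases IsIdempotentElem.iff_eq_zero_or_one.mp hid with h0 | h0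
    · exact absurd h0 hne
    · exact h0
  · apply Module.algebraMap_bijective_of_rankAtStalk
    ext p
    rw [Module.rankAtStalk_baseChange]
    have : PrimeSpectrum.comap (algebraMap R (Localization.Away ε)) p ∈
        (PrimeSpectrum.basicOpen ε : Set (PrimeSpectrum R)) := by
      rw [← PrimeSpectrum.localization_away_comap_range (Localization.Away ε) ε]
      exact ⟨p, rfl⟩
    rw [← hε'] at this
    exact this


/-- The point of a tensor product given by two compatible points. -/
@[reducible] noncomputable def ptTensor {A B C Ω : Type*} [CommRing A] [CommRing B] [CommRing C]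
    [Field Ω] [Algebra A B] [Algebra A C] [Algebra A Ω] [Algebra B Ω] [Algebra C Ω]
    [IsScalarTower A B Ω] [IsScalarTower A C Ω] : B ⊗[A] C →ₐ[A] Ω :=
  Algebra.TensorProduct.productMap (IsScalarTower.toAlgHom A B Ω) (IsScalarTower.toAlgHom A C Ω)

theorem etale_includeRight {A B C : Type*} [CommRing A] [CommRing B] [CommRing C]
    [Algebra A B] [Algebra A C] [Algebra.Etale A B] :
    (Algebra.TensorProduct.includeRight (R := A) (A := B) (B := C)).toRingHom.Etale := by
  algebraize [(Algebra.TensorProduct.includeRight (R := A) (A := B) (B := C)).toRingHom]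
  let e : C ⊗[A] B ≃ₐ[C] B ⊗[A] C :=
    { (Algebra.TensorProduct.comm A C B) with
      commutes' := fun r => by
        change (Algebra.TensorProduct.comm A C B) (r ⊗ₜ 1) = _
        rw [Algebra.TensorProduct.comm_tmul]; rfl }
  exact Algebra.Etale.of_equiv e

theorem etale_includeLeft {A B C : Type*} [CommRing A] [CommRing B] [CommRing C]
    [Algebra A B] [Algebra A C] [Algebra.Etale A C] :
    (Algebra.TensorProduct.includeLeftRingHom (R := A) (A := B) (B := C)).Etale := by
  have : (algebraMap B (B ⊗[A] C)).Etale := RingHom.etale_algebraMap.mpr inferInstance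
  exact this

theorem etale_of_comp {A B C : Type*} [CommRing A] [CommRing B] [CommRing C]
    (f : A →+* B) (g : B →+* C) (hf : f.Etale) (hgf : (g.comp f).Etale) : g.Etale := by
  algebraize [f, g, g.comp f]
  exact Algebra.Etale.of_restrictScalars (R := A) (A := B) (B := C)


/-- **Etale-local sections for finite algebras.**  `B` finite over `A`, `C` etale over `B`, a
geometric point `C → Ω`.  After an etale extension `A → A'` (with a geometric point), there is an
idempotent `ε` of `A' ⊗ B`, equal to one at the geometric point, and a `B`-algebra map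
`C → (A' ⊗ B)[1/ε]` compatible with the geometric points. -/
theorem exists_etale_section_finite {A B C Ω : Type u} [CommRing A] [CommRing B] [CommRing C]
    [Field Ω] [IsSepClosed Ω] [Algebra A B] [Algebra B C] [Algebra A C] [IsScalarTower A B C]
    [Module.Finite A B] [Algebra.Etale B C] [Algebra A Ω] [Algebra B Ω] [Algebra C Ω]
    [IsScalarTower A C Ω] [IsScalarTower B C Ω] [IsScalarTower A B Ω] :
    ∃ (A' : Type u) (_ : CommRing A') (_ : Algebra A A') (_ : Algebra.Etale A A')
      (_ : Algebra A' Ω) (_ : IsScalarTower A A' Ω) (ε : A' ⊗[A] B) (_ : IsIdempotentElem ε)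
      (h : C →+* Localization.Away ε) (π : Localization.Away ε →+* Ω),
      h.comp (algebraMap B C) = (algebraMap (A' ⊗[A] B) (Localization.Away ε)).comp
        (Algebra.TensorProduct.includeRight (R := A) (A := A') (B := B)).toRingHom ∧
      π.comp h = algebraMap C Ω ∧
      π.comp (algebraMap (A' ⊗[A] B) (Localization.Away ε)) =
        (ptTensor (A := A) (B := A') (C := B) (Ω := Ω)).toRingHom := by
  classical
  haveI : Algebra.QuasiFinite A C := .trans A B C
  haveI : Algebra.FiniteType A C := .trans (S := B) inferInstance inferInstance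
  -- generators of `C`
  obtain ⟨s, hs⟩ := Algebra.FiniteType.out (R := A) (A := C)
  let p := ringExpChar Ω
  choose n hn using fun c : C => exists_pow_simpleRoot_of_quasiFinite (A := A) (Ω := Ω) p c
  obtain ⟨A₁, _, _, _, _, _, hA₁⟩ := exists_etale_forall_isFrac (A := A) (Ω := Ω)
    (s.toList.map fun c => algebraMap C Ω c ^ p ^ n c) (by
      intro x hx
      obtain ⟨c, -, rfl⟩ := List.mem_map.mp hx
      exact hn c)
  letI : Algebra (A₁ ⊗[A] C) Ω := (ptTensor (A := A) (B := A₁) (C := C) (Ω := Ω)).toRingHom.toAlgebra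
  have hφ₁ : ∀ x, algebraMap (A₁ ⊗[A] C) Ω x = ptTensor (A := A) (B := A₁) (C := C) (Ω := Ω) x :=
    fun x => rfl
  haveI : IsScalarTower A₁ (A₁ ⊗[A] C) Ω := .of_algebraMap_eq fun a => by
    rw [hφ₁, Algebra.TensorProduct.algebraMap_apply, Algebra.algebraMap_self, RingHom.id_apply]
    simp [ptTensor]
  haveI : (kerP (A₁ ⊗[A] C) Ω).LiesOver (kerP A₁ Ω) := ⟨by
    ext a
    rw [Ideal.under, Ideal.mem_comap, RingHom.mem_ker, RingHom.mem_ker,
      ← IsScalarTower.algebraMap_apply]⟩
  obtain ⟨A₂, _, _, _, P, _, _, e, he, P', _, hP'P, hPq, heP', -, hfin, huniq⟩ :=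
    Algebra.exists_etale_isIdempotentElem_forall_liesOver_eq (kerP A₁ Ω) (kerP (A₁ ⊗[A] C) Ω)
  -- the geometric point of `D₀ = A₂ ⊗ C₁`
  let ir : (A₁ ⊗[A] C) →+* (A₂ ⊗[A₁] (A₁ ⊗[A] C)) :=
    (Algebra.TensorProduct.includeRight (R := A₁) (A := A₂) (B := A₁ ⊗[A] C)).toRingHom
  have hir : ir.Etale := etale_includeRight
  obtain ⟨σ, hσ, hσker⟩ : ∃ σ : (A₂ ⊗[A₁] (A₁ ⊗[A] C)) →+* Ω,
      σ.comp ir = algebraMap (A₁ ⊗[A] C) Ω ∧ RingHom.ker σ = P' := by
    letI : Algebra (A₁ ⊗[A] C) (A₂ ⊗[A₁] (A₁ ⊗[A] C)) := ir.toAlgebra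
    haveI : Algebra.Etale (A₁ ⊗[A] C) (A₂ ⊗[A₁] (A₁ ⊗[A] C)) := RingHom.etale_algebraMap.mp hir
    obtain ⟨algD₀, towD₀, hker⟩ := exists_algebra_of_etale (R := A₁ ⊗[A] C)
      (S := A₂ ⊗[A₁] (A₁ ⊗[A] C)) (Ω := Ω) P' hPq
    exact ⟨algebraMap _ _, (IsScalarTower.algebraMap_eq _ _ _).symm, hker⟩
  let il : A₂ →+* (A₂ ⊗[A₁] (A₁ ⊗[A] C)) := algebraMap _ _
  letI : Algebra A₂ Ω := (σ.comp il).toAlgebra
  have hA₂Ω : ∀ a, algebraMap A₂ Ω a = σ (il a) := fun a => rfl
  have hilir : ∀ a : A₁, il (algebraMap A₁ A₂ a) = ir (algebraMap A₁ (A₁ ⊗[A] C) a) := fun a => by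
    change algebraMap A₂ (A₂ ⊗[A₁] (A₁ ⊗[A] C)) (algebraMap A₁ A₂ a) =
      Algebra.TensorProduct.includeRight (algebraMap A₁ (A₁ ⊗[A] C) a)
    rw [← IsScalarTower.algebraMap_apply, AlgHom.commutes]
  haveI : IsScalarTower A₁ A₂ Ω := .of_algebraMap_eq fun a => by
    rw [hA₂Ω, hilir]
    have := DFunLike.congr_fun hσ (algebraMap A₁ (A₁ ⊗[A] C) a)
    rw [RingHom.comp_apply] at this
    rw [this, ← IsScalarTower.algebraMap_apply]
  letI : Algebra A A₂ := ((algebraMap A₁ A₂).comp (algebraMap A A₁)).toAlgebra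
  haveI : IsScalarTower A A₁ A₂ := .of_algebraMap_eq fun a => rfl
  haveI : Algebra.Etale A A₂ := Algebra.Etale.comp A A₁ A₂
  haveI : IsScalarTower A A₂ Ω := .of_algebraMap_eq fun a => by
    rw [IsScalarTower.algebraMap_apply A A₁ A₂, ← IsScalarTower.algebraMap_apply A₁ A₂ Ω,
      ← IsScalarTower.algebraMap_apply A A₁ Ω]
  -- the map `B₂ = A₂ ⊗ B → D₀`
  let ic : C →+* (A₁ ⊗[A] C) :=
    (Algebra.TensorProduct.includeRight (R := A) (A := A₁) (B := C)).toRingHom
  have hic : ic.Etale := etale_includeRight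
  have hσc : ∀ c : C, σ (ir (ic c)) = algebraMap C Ω c := fun c => by
    have := DFunLike.congr_fun hσ (ic c)
    rw [RingHom.comp_apply] at this
    rw [this, hφ₁]
    simp [ic, ptTensor]
  let gB : B →ₐ[A] (A₂ ⊗[A₁] (A₁ ⊗[A] C)) :=
    { (ir.comp (ic.comp (algebraMap B C))) with
      commutes' := fun a => by
        change ir (ic (algebraMap B C (algebraMap A B a))) = _
        rw [← IsScalarTower.algebraMap_apply A B C]
        have h1 : ic (algebraMap A C a) = algebraMap A₁ (A₁ ⊗[A] C) (algebraMap A A₁ a) := by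
          change Algebra.TensorProduct.includeRight (algebraMap A C a) = _
          rw [AlgHom.commutes, ← IsScalarTower.algebraMap_apply]
        rw [h1, ← hilir, ← IsScalarTower.algebraMap_apply A A₁ A₂]
        rfl }
  let g : (A₂ ⊗[A] B) →ₐ[A₂] (A₂ ⊗[A₁] (A₁ ⊗[A] C)) :=
    Algebra.TensorProduct.lift (Algebra.ofId A₂ _) gB (fun _ _ => Commute.all _ _)
  have hgB : ∀ b : B, g (1 ⊗ₜ b) = ir (ic (algebraMap B C b)) := fun b => by
    rw [Algebra.TensorProduct.lift_tmul, map_one, one_mul]
    rfl
  -- `T`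
  let t : (A₂ ⊗[A₁] (A₁ ⊗[A] C)) →+* Localization.Away e := algebraMap _ _
  letI : Algebra (A₂ ⊗[A] B) (Localization.Away e) := (t.comp g.toRingHom).toAlgebra
  have hBT : ∀ x, algebraMap (A₂ ⊗[A] B) (Localization.Away e) x = t (g x) := fun x => rfl
  let iB : B →+* (A₂ ⊗[A] B) :=
    (Algebra.TensorProduct.includeRight (R := A) (A := A₂) (B := B)).toRingHom
  haveI : Algebra.Etale (A₂ ⊗[A] B) (Localization.Away e) := by
    rw [← RingHom.etale_algebraMap]
    have hiB : iB.Etale := etale_includeRight
    refine etale_of_comp iB _ hiB ?_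
    have h1 : (algebraMap (A₂ ⊗[A] B) (Localization.Away e)).comp iB =
        t.comp (ir.comp (ic.comp (algebraMap B C))) := by
      ext b
      exact congrArg t (hgB b)
    rw [h1]
    have h2 : t.Etale := RingHom.etale_algebraMap.mpr (Algebra.Etale.of_isLocalizationAway e)
    have h3 : (algebraMap B C).Etale := RingHom.etale_algebraMap.mpr inferInstance
    exact RingHom.Etale.stableUnderComposition _ _ (RingHom.Etale.stableUnderComposition _ _
      (RingHom.Etale.stableUnderComposition _ _ h3 hic) hir) h2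
  haveI : Module.Finite (A₂ ⊗[A] B) (Localization.Away e) := by
    rw [← RingHom.finite_algebraMap]
    refine RingHom.Finite.of_comp_finite (f := algebraMap A₂ (A₂ ⊗[A] B)) ?_
    have h1 : (algebraMap (A₂ ⊗[A] B) (Localization.Away e)).comp (algebraMap A₂ (A₂ ⊗[A] B)) =
        algebraMap A₂ (Localization.Away e) := by
      ext a
      rw [RingHom.comp_apply, hBT, g.commutes, ← IsScalarTower.algebraMap_apply]
    rw [h1]
    exact RingHom.finite_algebraMap.mpr hfin
  letI : Algebra (A₂ ⊗[A] B) Ω := (ptTensor (A := A) (B := A₂) (C := B) (Ω := Ω)).toRingHom.toAlgebra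
  have hptB : ∀ x, algebraMap (A₂ ⊗[A] B) Ω x = ptTensor (A := A) (B := A₂) (C := B) (Ω := Ω) x :=
    fun x => rfl
  have hσg : σ.comp g.toRingHom = algebraMap (A₂ ⊗[A] B) Ω := by
    refine RingHom.ext fun x => ?_
    rw [RingHom.comp_apply, hptB]
    induction x using TensorProduct.induction_on with
    | zero => simp
    | add x y hx hy => rw [map_add, map_add, map_add, hx, hy]
    | tmul a b =>
      have h1 : a ⊗ₜ[A] b = algebraMap A₂ (A₂ ⊗[A] B) a * (1 ⊗ₜ b) := by
        rw [Algebra.TensorProduct.algebraMap_apply, Algebra.algebraMap_self, RingHom.id_apply,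
          Algebra.TensorProduct.tmul_mul_tmul, mul_one, one_mul]
      have h2 : g.toRingHom (a ⊗ₜ[A] b) = il a * ir (ic (algebraMap B C b)) := by
        change g _ = _
        rw [h1, map_mul, g.commutes, hgB]
      rw [h2, map_mul, ← hA₂Ω, hσc, ← IsScalarTower.algebraMap_apply B C Ω]
      simp [ptTensor]
  have hσe : σ e ≠ 0 := fun h0 => heP' (by rw [← hσker]; exact h0)
  let τ₀ : Localization.Away e →+* Ω :=
    IsLocalization.Away.lift (S := Localization.Away e) e (isUnit_iff_ne_zero.mpr hσe)
  have hτ₀ : τ₀.comp t = σ := IsLocalization.Away.lift_comp e _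
  let τ : Localization.Away e →ₐ[A₂ ⊗[A] B] Ω :=
    { τ₀ with
      commutes' := fun x => by
        change τ₀ (t (g x)) = _
        have := DFunLike.congr_fun hτ₀ (g x)
        rw [RingHom.comp_apply] at this
        rw [this]
        exact DFunLike.congr_fun hσg x }
  have hτuniq : ∀ τ' : Localization.Away e →ₐ[A₂ ⊗[A] B] Ω, τ' = τ := by
    intro τ'
    let σ' : (A₂ ⊗[A₁] (A₁ ⊗[A] C)) →+* Ω := τ'.toRingHom.comp t
    have hσ'g : ∀ x, σ' (g x) = σ (g x) := fun x => by
      have h1 : σ' (g x) = algebraMap (A₂ ⊗[A] B) Ω x := τ'.commutes x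
      rw [h1, ← hσg]; rfl
    have hσ'il : ∀ a, σ' (il a) = σ (il a) := fun a => by
      have := hσ'g (algebraMap A₂ _ a)
      rwa [g.commutes] at this
    have hPA₂ : P = RingHom.ker (σ.comp il) := by
      rw [hP'P.over, ← hσker]
      rfl
    have hker' : RingHom.ker σ' = RingHom.ker σ := by
      rw [hσker]
      refine huniq _ (RingHom.ker_isPrime _) ⟨?_⟩ ?_
      · rw [hPA₂]
        ext a
        change σ (il a) = 0 ↔ σ' (il a) = 0
        rw [hσ'il]
      · intro h0
        have h1 : IsUnit (t e) := IsLocalization.Away.algebraMap_isUnit e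
        have h2 : IsUnit (σ' e) := h1.map τ'.toRingHom
        exact h2.ne_zero h0
    have hgen : ∀ c ∈ s, σ' (ir (ic c)) = σ (ir (ic c)) := by
      intro c hc
      obtain ⟨a, d, hd, hx⟩ := hA₁ (algebraMap C Ω c ^ p ^ n c)
        (List.mem_map.mpr ⟨c, Finset.mem_toList.mpr hc, rfl⟩)
      have hσA₁ : ∀ a : A₁, σ (il (algebraMap A₁ A₂ a)) = algebraMap A₁ Ω a := fun a => by
        rw [← hA₂Ω, ← IsScalarTower.algebraMap_apply]
      have h1 : σ ((ir (ic c)) ^ p ^ n c * il (algebraMap A₁ A₂ d) - il (algebraMap A₁ A₂ a)) = 0 := by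
        rw [map_sub, map_mul, map_pow, hσA₁, hσA₁, hσc, hx, sub_self]
      have h2 : σ' ((ir (ic c)) ^ p ^ n c * il (algebraMap A₁ A₂ d) - il (algebraMap A₁ A₂ a)) = 0 := by
        rw [← RingHom.mem_ker, hker']
        exact h1
      rw [map_sub, map_mul, map_pow, hσ'il, hσ'il, hσA₁, hσA₁, sub_eq_zero] at h2
      rw [map_sub, map_mul, map_pow, hσA₁, hσA₁, sub_eq_zero] at h1
      have h3 : σ' (ir (ic c)) ^ p ^ n c = σ (ir (ic c)) ^ p ^ n c :=
        mul_right_cancel₀ hd (h2.trans h1.symm)
      exact iterateFrobenius_inj Ω p (n c) h3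
    have hC : ∀ c : C, σ' (ir (ic c)) = σ (ir (ic c)) := by
      intro c
      have hc : c ∈ Algebra.adjoin A (s : Set C) := by rw [hs]; exact Algebra.mem_top
      have halg : ∀ a : A, ir (ic (algebraMap A C a)) = il (algebraMap A A₂ a) := fun a => by
        have h1 : ic (algebraMap A C a) = algebraMap A₁ (A₁ ⊗[A] C) (algebraMap A A₁ a) := by
          change Algebra.TensorProduct.includeRight (algebraMap A C a) = _
          rw [AlgHom.commutes, ← IsScalarTower.algebraMap_apply]
        rw [h1, ← hilir, ← IsScalarTower.algebraMap_apply A A₁ A₂]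
      induction hc using Algebra.adjoin_induction with
      | mem x hx => exact hgen x hx
      | algebraMap r => rw [halg, hσ'il]
      | add x y _ _ hx hy => simp only [map_add, hx, hy]
      | mul x y _ _ hx hy => simp only [map_mul, hx, hy]
    have hA₁C : ∀ y : A₁ ⊗[A] C, σ' (ir y) = σ (ir y) := by
      intro y
      induction y using TensorProduct.induction_on with
      | zero => simp
      | add x y hx hy => simp only [map_add, hx, hy]
      | tmul a c =>
        have h1 : a ⊗ₜ[A] c = algebraMap A₁ (A₁ ⊗[A] C) a * ic c := by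
          change _ = _ * (1 ⊗ₜ[A] c)
          rw [Algebra.TensorProduct.algebraMap_apply, Algebra.algebraMap_self, RingHom.id_apply,
            Algebra.TensorProduct.tmul_mul_tmul, mul_one, one_mul]
        rw [h1, map_mul, map_mul, map_mul, ← hilir, hσ'il, hC]
    have hσσ' : σ' = σ := by
      refine RingHom.ext fun x => ?_
      induction x using TensorProduct.induction_on with
      | zero => simp
      | add x y hx hy => simp only [map_add, hx, hy]
      | tmul a y =>
        have h1 : a ⊗ₜ[A₁] y = il a * ir y := by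
          change _ = algebraMap A₂ (A₂ ⊗[A₁] (A₁ ⊗[A] C)) a * (1 ⊗ₜ[A₁] y)
          rw [Algebra.TensorProduct.algebraMap_apply, Algebra.algebraMap_self, RingHom.id_apply,
            Algebra.TensorProduct.tmul_mul_tmul, mul_one, one_mul]
        rw [h1, map_mul, map_mul, hσ'il, hA₁C]
    have h4 : τ'.toRingHom = τ₀ := by
      refine IsLocalization.ringHom_ext (Submonoid.powers e) ?_
      rw [hτ₀]
      exact hσσ'
    exact AlgHom.ext fun x => DFunLike.congr_fun h4 x
  obtain ⟨ε, hε, hε1, hbij⟩ := exists_idempotent_bijective (R := A₂ ⊗[A] B)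
    (T := Localization.Away e) τ hτuniq
  let ψ := RingEquiv.ofBijective _ hbij
  let h : C →+* Localization.Away ε := ψ.symm.toRingHom.comp
    ((Algebra.TensorProduct.includeRight (R := A₂ ⊗[A] B) (A := Localization.Away ε)
      (B := Localization.Away e)).toRingHom.comp (t.comp (ir.comp ic)))
  let π : Localization.Away ε →+* Ω :=
    IsLocalization.Away.lift (S := Localization.Away ε) ε
      (g := algebraMap (A₂ ⊗[A] B) Ω) (by rw [hε1]; exact isUnit_one)
  have hπ : π.comp (algebraMap (A₂ ⊗[A] B) (Localization.Away ε)) = algebraMap (A₂ ⊗[A] B) Ω :=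
    IsLocalization.Away.lift_comp ε _
  refine ⟨A₂, inferInstance, inferInstance, inferInstance, inferInstance, inferInstance, ε, hε,
    h, π, ?_, ?_, hπ⟩
  · refine RingHom.ext fun b => ?_
    apply ψ.injective
    change ψ (ψ.symm _) = algebraMap (Localization.Away ε) (Localization.Away ε ⊗[A₂ ⊗[A] B] Localization.Away e) (algebraMap (A₂ ⊗[A] B) (Localization.Away ε) (iB b))
    rw [RingEquiv.apply_symm_apply, ← IsScalarTower.algebraMap_apply]
    change Algebra.TensorProduct.includeRight (t (ir (ic (algebraMap B C b)))) = _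
    rw [← hgB, ← hBT]
    exact AlgHom.commutes _ _
  · let Pi₀ : (Localization.Away ε ⊗[A₂ ⊗[A] B] Localization.Away e) →ₐ[A₂ ⊗[A] B] Ω :=
      Algebra.TensorProduct.productMap
        { π with commutes' := fun x => DFunLike.congr_fun hπ x } τ
    have hPi₀ : ∀ y, Pi₀ (ψ y) = π y := fun y => by
      change Pi₀ (algebraMap (Localization.Away ε)
        (Localization.Away ε ⊗[A₂ ⊗[A] B] Localization.Away e) y) = _
      rw [Algebra.TensorProduct.algebraMap_apply, Algebra.algebraMap_self, RingHom.id_apply]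
      change Algebra.TensorProduct.productMap _ _ _ = _
      rw [Algebra.TensorProduct.productMap_apply_tmul, map_one, mul_one]
      rfl
    refine RingHom.ext fun c => ?_
    rw [RingHom.comp_apply, ← hPi₀]
    change Pi₀ (ψ (ψ.symm _)) = _
    rw [RingEquiv.apply_symm_apply]
    change Algebra.TensorProduct.productMap _ _ (1 ⊗ₜ (t (ir (ic c)))) = _
    rw [Algebra.TensorProduct.productMap_apply_tmul, map_one, one_mul]
    change τ₀ (t (ir (ic c))) = _
    have h5 := DFunLike.congr_fun hτ₀ (ir (ic c))
    rw [RingHom.comp_apply] at h5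
    rw [h5, hσc]

end Groth.Agent.Etcore.IntegralAlg
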