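import Groth.Agent.Etcore.IntegralAlg

/-!
# Etale-local sections for integral algebras
-/

set_option linter.style.haveILetI false

open Polynomial TensorProduct

universe u v w

namespace Groth.Agent.Etcore.IntegralAlg

theorem away_transfer {P Q Ω : Type*} [CommRing P] [CommRing Q] [Field Ω] (m : P →+* Q) (ε₀ : P)
    (hε₀ : IsIdempotentElem ε₀) (φ₀ : P →+* Ω) (φ : Q →+* Ω) (hφ : φ.comp m = φ₀)
    (π₀ : Localization.Away ε₀ →+* Ω)
    (hπ₀ : π₀.comp (algebraMap P (Localization.Away ε₀)) = φ₀) :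
    ∃ (μ : Localization.Away ε₀ →+* Localization.Away (m ε₀))
      (π : Localization.Away (m ε₀) →+* Ω),
      μ.comp (algebraMap P (Localization.Away ε₀)) =
        (algebraMap Q (Localization.Away (m ε₀))).comp m ∧
      π.comp (algebraMap Q (Localization.Away (m ε₀))) = φ ∧ π.comp μ = π₀ ∧ φ (m ε₀) = 1 := by
  have h1 : IsUnit (φ₀ ε₀) := by
    rw [← hπ₀]
    exact (IsLocalization.Away.algebraMap_isUnit (S := Localization.Away ε₀) ε₀).map π₀
  have h2 : φ₀ ε₀ = 1 := by
    rcases IsIdempotentElem.iff_eq_zero_or_one.mp (hε₀.map φ₀) with h0 | h0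
    · exact absurd h0 h1.ne_zero
    · exact h0
  have h3 : φ (m ε₀) = 1 := by rw [← h2, ← hφ]; rfl
  have hu : IsUnit ((algebraMap Q (Localization.Away (m ε₀))).comp m ε₀) :=
    IsLocalization.Away.algebraMap_isUnit (m ε₀)
  have hu' : IsUnit (φ (m ε₀)) := by rw [h3]; exact isUnit_one
  refine ⟨IsLocalization.Away.lift (S := Localization.Away ε₀) ε₀ hu,
    IsLocalization.Away.lift (S := Localization.Away (m ε₀)) (m ε₀) hu',
    IsLocalization.Away.lift_comp ε₀ _, IsLocalization.Away.lift_comp (m ε₀) _, ?_, h3⟩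
  refine IsLocalization.ringHom_ext (Submonoid.powers ε₀) ?_
  rw [RingHom.comp_assoc, IsLocalization.Away.lift_comp ε₀, ← RingHom.comp_assoc,
    IsLocalization.Away.lift_comp (m ε₀), hφ, hπ₀]

theorem exists_lift_tensor {B₀ B C₀ C L : Type*} [CommRing B₀] [CommRing B] [CommRing C₀]
    [CommRing C] [CommRing L] [Algebra B₀ B] [Algebra B₀ C₀] [Algebra B C]
    (ψ : C ≃ₐ[B] B ⊗[B₀] C₀) (i : B →+* L) (k : C₀ →+* L)
    (hik : ∀ b, i (algebraMap B₀ B b) = k (algebraMap B₀ C₀ b)) :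
    ∃ h : C →+* L, h.comp (algebraMap B C) = i ∧ ∀ c, h (ψ.symm (1 ⊗ₜ c)) = k c := by
  letI : Algebra B L := i.toAlgebra
  letI : Algebra B₀ L := (i.comp (algebraMap B₀ B)).toAlgebra
  haveI : IsScalarTower B₀ B L := .of_algebraMap_eq fun b => rfl
  let k' : C₀ →ₐ[B₀] L := { k with commutes' := fun b => (hik b).symm }
  let H : (B ⊗[B₀] C₀) →ₐ[B] L :=
    Algebra.TensorProduct.lift (Algebra.ofId B _) k' (fun _ _ => Commute.all _ _)
  refine ⟨H.toRingHom.comp ψ.toRingEquiv.toRingHom, RingHom.ext fun b => ?_, fun c => ?_⟩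
  · change H (ψ (algebraMap B C b)) = algebraMap B L b
    rw [AlgEquiv.commutes, AlgHom.commutes]
  · change H (ψ (ψ.symm (1 ⊗ₜ c))) = _
    rw [AlgEquiv.apply_symm_apply, Algebra.TensorProduct.lift_tmul, map_one, one_mul]
    rfl

theorem ringHom_ext_tensor {B₀ B C₀ C L : Type*} [CommRing B₀] [CommRing B] [CommRing C₀]
    [CommRing C] [CommRing L] [Algebra B₀ B] [Algebra B₀ C₀] [Algebra B C]
    (ψ : C ≃ₐ[B] B ⊗[B₀] C₀) (f g : C →+* L)
    (h1 : ∀ b, f (algebraMap B C b) = g (algebraMap B C b))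
    (h2 : ∀ c, f (ψ.symm (1 ⊗ₜ c)) = g (ψ.symm (1 ⊗ₜ c))) : f = g := by
  refine RingHom.ext fun c => ?_
  obtain ⟨y, rfl⟩ := ψ.symm.surjective c
  induction y using TensorProduct.induction_on with
  | zero => simp
  | add x y hx hy => simp only [map_add, hx, hy]
  | tmul b c =>
    have h3 : b ⊗ₜ[B₀] c = algebraMap B (B ⊗[B₀] C₀) b * (1 ⊗ₜ c) := by
      rw [Algebra.TensorProduct.algebraMap_apply, Algebra.algebraMap_self, RingHom.id_apply,
        Algebra.TensorProduct.tmul_mul_tmul, mul_one, one_mul]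
    rw [h3, map_mul, AlgEquiv.commutes, map_mul, map_mul, h1, h2]

/-- Etale-local sections, descended form. -/
theorem exists_etale_section_of_descent {A B₀ B C₀ C Ω : Type u} [CommRing A] [CommRing B₀]
    [CommRing B] [CommRing C₀] [CommRing C]
    [Field Ω] [IsSepClosed Ω] [Algebra A B₀] [Algebra A B] [Algebra B₀ B] [IsScalarTower A B₀ B]
    [Algebra B C] [Algebra B₀ C₀] [Module.Finite A B₀] [Algebra.Etale B₀ C₀]
    (ψ : C ≃ₐ[B] B ⊗[B₀] C₀)
    [Algebra A Ω] [Algebra B Ω] [Algebra C Ω]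
    [IsScalarTower B C Ω] [IsScalarTower A B Ω] :
    ∃ (A' : Type u) (_ : CommRing A') (_ : Algebra A A') (_ : Algebra.Etale A A')
      (_ : Algebra A' Ω) (_ : IsScalarTower A A' Ω) (ε : A' ⊗[A] B) (_ : IsIdempotentElem ε)
      (h : C →+* Localization.Away ε) (π : Localization.Away ε →+* Ω),
      h.comp (algebraMap B C) = (algebraMap (A' ⊗[A] B) (Localization.Away ε)).comp
        (Algebra.TensorProduct.includeRight (R := A) (A := A') (B := B)).toRingHom ∧
      π.comp h = algebraMap C Ω ∧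
      π.comp (algebraMap (A' ⊗[A] B) (Localization.Away ε)) =
        (ptTensor (A := A) (B := A') (C := B) (Ω := Ω)).toRingHom := by
  letI : Algebra A C₀ := ((algebraMap B₀ C₀).comp (algebraMap A B₀)).toAlgebra
  haveI : IsScalarTower A B₀ C₀ := .of_algebraMap_eq fun a => rfl
  obtain ⟨j₀, hj₀', hj₀⟩ : ∃ j₀ : C₀ →+* C, (∀ c, j₀ c = ψ.symm (1 ⊗ₜ c)) ∧
      ∀ b : B₀, j₀ (algebraMap B₀ C₀ b) = algebraMap B C (algebraMap B₀ B b) := by
    refine ⟨ψ.symm.toRingEquiv.toRingHom.comp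
      (Algebra.TensorProduct.includeRight (R := B₀) (A := B) (B := C₀)).toRingHom,
      fun c => rfl, fun b => ?_⟩
    change ψ.symm (1 ⊗ₜ (algebraMap B₀ C₀ b)) = _
    have h1 : (1 : B) ⊗ₜ[B₀] (algebraMap B₀ C₀ b) = algebraMap B (B ⊗[B₀] C₀) (algebraMap B₀ B b) := by
      rw [Algebra.algebraMap_eq_smul_one b, TensorProduct.tmul_smul, TensorProduct.smul_tmul',
        Algebra.TensorProduct.algebraMap_apply, Algebra.algebraMap_self, RingHom.id_apply]
      congr 1
      rw [Algebra.smul_def, mul_one]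
    rw [h1, AlgEquiv.commutes]
  letI : Algebra C₀ Ω := ((algebraMap C Ω).comp j₀).toAlgebra
  letI : Algebra B₀ Ω := ((algebraMap B Ω).comp (algebraMap B₀ B)).toAlgebra
  have hB₀Ω : ∀ b : B₀, algebraMap B₀ Ω b = algebraMap B Ω (algebraMap B₀ B b) := fun _ => rfl
  haveI : IsScalarTower B₀ B Ω := .of_algebraMap_eq fun b => rfl
  haveI : IsScalarTower B₀ C₀ Ω := .of_algebraMap_eq fun b => by
    change algebraMap B Ω (algebraMap B₀ B b) = algebraMap C Ω (j₀ (algebraMap B₀ C₀ b))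
    rw [hj₀, ← IsScalarTower.algebraMap_apply B C Ω]
  haveI : IsScalarTower A B₀ Ω := .of_algebraMap_eq fun b => by
    rw [hB₀Ω, ← IsScalarTower.algebraMap_apply A B₀ B, ← IsScalarTower.algebraMap_apply A B Ω]
  haveI : IsScalarTower A C₀ Ω := .of_algebraMap_eq fun b => by
    rw [IsScalarTower.algebraMap_apply A B₀ C₀, ← IsScalarTower.algebraMap_apply B₀ C₀ Ω,
      ← IsScalarTower.algebraMap_apply A B₀ Ω]
  obtain ⟨A', _, _, _, _, _, ε₀, hε₀, h₀, π₀, hh₀, hπ₀, hπ₀'⟩ :=
    exists_etale_section_finite (A := A) (B := B₀) (C := C₀) (Ω := Ω)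
  obtain ⟨m, hm'⟩ : ∃ m : (A' ⊗[A] B₀) →+* (A' ⊗[A] B),
      ∀ (a : A') (b : B₀), m (a ⊗ₜ b) = a ⊗ₜ (algebraMap B₀ B b) :=
    ⟨(Algebra.TensorProduct.map (AlgHom.id A' A') (IsScalarTower.toAlgHom A B₀ B)).toRingHom,
      fun a b => by simp⟩
  have hptm : (ptTensor (A := A) (B := A') (C := B) (Ω := Ω)).toRingHom.comp m =
      (ptTensor (A := A) (B := A') (C := B₀) (Ω := Ω)).toRingHom := by
    refine RingHom.ext fun x => ?_
    rw [RingHom.comp_apply]
    induction x using TensorProduct.induction_on with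
    | zero => simp
    | add x y hx hy => simp only [map_add, hx, hy]
    | tmul a b =>
      rw [hm']
      simp [ptTensor, hB₀Ω]
  obtain ⟨μ, π, hμ, hπ, hπμ, -⟩ := away_transfer m ε₀ hε₀ _ _ hptm π₀ hπ₀'
  obtain ⟨h, hh1, hh2⟩ := exists_lift_tensor ψ
    ((algebraMap (A' ⊗[A] B) (Localization.Away (m ε₀))).comp
        (Algebra.TensorProduct.includeRight (R := A) (A := A') (B := B)).toRingHom)
    (μ.comp h₀) (fun b => by
      have h1 := DFunLike.congr_fun hh₀ b
      have h2 := DFunLike.congr_fun hμ (1 ⊗ₜ b)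
      have h3 := hm' 1 b
      rw [RingHom.comp_apply] at h1 h2
      rw [RingHom.comp_apply, RingHom.comp_apply, h1]
      refine Eq.trans ?_ h2.symm
      rw [RingHom.comp_apply, h3]
      rfl)
  refine ⟨A', inferInstance, inferInstance, inferInstance, inferInstance, inferInstance, m ε₀,
    hε₀.map m, h, π, hh1, ?_, hπ⟩
  refine ringHom_ext_tensor ψ _ _ (fun b => ?_) (fun c => ?_)
  · have h1 := DFunLike.congr_fun hh1 b
    have h2 := DFunLike.congr_fun hπ (1 ⊗ₜ b)
    rw [RingHom.comp_apply] at h1 h2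
    rw [RingHom.comp_apply, h1]
    refine Eq.trans h2 ?_
    rw [← IsScalarTower.algebraMap_apply]
    simp [ptTensor]
  · rw [RingHom.comp_apply, hh2, ← hj₀']
    have h1 := DFunLike.congr_fun hπμ (h₀ c)
    rw [RingHom.comp_apply] at h1
    rw [RingHom.comp_apply, h1]
    exact DFunLike.congr_fun hπ₀ c

/-- **Etale-local sections for integral algebras.**  `B` integral over `A`, `C` etale over `B`, a
geometric point `C → Ω`.  After an etale extension `A → A'` (with a geometric point), there is an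
idempotent `ε` of `A' ⊗ B`, equal to one at the geometric point, and a `B`-algebra map
`C → (A' ⊗ B)[1/ε]` compatible with the geometric points. -/
theorem exists_etale_section {A B C Ω : Type u} [CommRing A] [CommRing B] [CommRing C]
    [Field Ω] [IsSepClosed Ω] [Algebra A B] [Algebra B C]
    [Algebra.IsIntegral A B] [Algebra.Etale B C] [Algebra A Ω] [Algebra B Ω] [Algebra C Ω]
    [IsScalarTower B C Ω] [IsScalarTower A B Ω] :
    ∃ (A' : Type u) (_ : CommRing A') (_ : Algebra A A') (_ : Algebra.Etale A A')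
      (_ : Algebra A' Ω) (_ : IsScalarTower A A' Ω) (ε : A' ⊗[A] B) (_ : IsIdempotentElem ε)
      (h : C →+* Localization.Away ε) (π : Localization.Away ε →+* Ω),
      h.comp (algebraMap B C) = (algebraMap (A' ⊗[A] B) (Localization.Away ε)).comp
        (Algebra.TensorProduct.includeRight (R := A) (A := A') (B := B)).toRingHom ∧
      π.comp h = algebraMap C Ω ∧
      π.comp (algebraMap (A' ⊗[A] B) (Localization.Away ε)) =
        (ptTensor (A := A) (B := A') (C := B) (Ω := Ω)).toRingHom := by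
  obtain ⟨B₀, C₀, _, _, hfg, hC₀, ⟨ψ⟩⟩ := Algebra.Etale.exists_subalgebra_fg A B C
  haveI := hC₀
  haveI : Module.Finite A B₀ := by
    haveI : Algebra.FiniteType A B₀ := B₀.fg_iff_finiteType.mp hfg
    haveI : Algebra.IsIntegral A B₀ := ⟨fun x =>
      (isIntegral_algHom_iff B₀.val Subtype.val_injective).mp
        (Algebra.IsIntegral.isIntegral (B₀.val x))⟩
    exact Algebra.IsIntegral.finite
  exact exists_etale_section_of_descent (B₀ := B₀) (C₀ := C₀) ψ

end Groth.Agent.Etcore.IntegralAlg
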