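import Groth.Agent.Etcore.HC
import Groth.Agent.Dix.GmPush
import Groth.Agent.Sga4B.KummerH1

/-!
# Functorial Kummer classes

* `pullGm f : f⁻¹ G_m ⟶ G_m`, `pullMu f n : f⁻¹ μ_n ⟶ μ_n`, compatible with composition (`th_pullGm`, `th_pullMu`).
* `HM n f q : H^q(Y, μ_n) → H^q(X, μ_n)` (`f : X ⟶ Y`), `HM_HM`, `HM_comp`; `HG f q` for `G_m`.
* `kap n hX : Additive Γ(X, ⊤)ˣ →+ H¹(X, μ_n)` (connecting map), `HM_kap` (functoriality),
  `kap_nsmul`, `kap_eq_zero_iff`, `exists_kap_eq`.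
-/

set_option autoImplicit false
universe u
open CategoryTheory CategoryTheory.Limits AlgebraicGeometry Opposite Abelian
open scoped Groth.Agent.Etcore.EtInst
open Groth.Agent.Etcore.EtInst Groth.Agent.Etcore.PullCoh Groth.Agent.Etcore.HpullCalc
  Groth.Agent.Etcore.HC Groth.Agent.CurvesA.MuConst

namespace Groth.Agent.Etcore.Kappa228

attribute [local instance] Groth.Agent.S0101.result

variable {X Y Z : Scheme.{u}}

/-- The canonical map `f⁻¹ G_m ⟶ G_m`. -/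
noncomputable def pullGm (f : X ⟶ Y) : (EtCoh.pull f).obj (EtCoh.Gm Y) ⟶ EtCoh.Gm X :=
  ((EtCoh.pullPushAdj f).homEquiv _ _).symm (Dix.GmPush.gmToPush f)

theorem pullGm_eta (f : X ⟶ Y) (U : Y.Etale) (s : EtCoh.sect (EtCoh.Gm Y) U) :
    (pullGm f).hom.app _ (eta f _ U s) = (Dix.GmPush.gmToPush f).hom.app (op U) s := by
  have h : (EtCoh.pullPushAdj f).unit.app (EtCoh.Gm Y) ≫ (EtCoh.push f).map (pullGm f) =
      Dix.GmPush.gmToPush f :=
    (Adjunction.homEquiv_unit ..).symm.trans (Equiv.apply_symm_apply _ _)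
  exact congrArg (fun k => k.hom.app (op U) s) h

theorem unitOf_pullGm_eta (f : X ⟶ Y) (U : Y.Etale) (s : EtCoh.sect (EtCoh.Gm Y) U) :
    ((unitOf (X := X) (U := (EtCoh.bc f).obj U) ((pullGm f).hom.app _ (eta f _ U s)) :
        Γ(((EtCoh.bc f).obj U).left, ⊤)ˣ) : Γ(((EtCoh.bc f).obj U).left, ⊤)) =
      (pullback.fst U.hom f).appTop.hom (unitOf s : Γ(U.left, ⊤)) := by
  rw [pullGm_eta]
  rfl

theorem th_pullGm (f : X ⟶ Y) (t : Y ⟶ Z) (f₀ : X ⟶ Z) (w : f ≫ t = f₀) :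
    th f t f₀ w (EtCoh.Gm Z) ≫ pullGm f₀ = (EtCoh.pull f).map (pullGm t) ≫ pullGm f := by
  refine pull_hom_ext₂ f t _ _ fun U g => ?_
  rw [map_comp_app, map_comp_app, eta_map, th_unit, map_res]
  apply unitOf_injective
  ext
  rw [unitOf_map, unitOf_pullGm_eta, unitOf_pullGm_eta, unitOf_pullGm_eta]
  have h := bcComp_left_fst f t f₀ w U
  have h2 := congrArg (fun k => k.appTop.hom (unitOf g : Γ(U.left, ⊤))) h
  exact h2

theorem pullGm_mu (f : X ⟶ Y) (n : ℕ) :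
    ((EtCoh.pull f).map (EtCoh.muι Y n) ≫ pullGm f) ≫ EtCoh.powMap X n = 0 := by
  have h1 : EtCoh.muι Y n ≫ (n • 𝟙 (EtCoh.Gm Y)) = 0 := kernel.condition _
  have h2 : pullGm f ≫ EtCoh.powMap X n = (EtCoh.pull f).map (n • 𝟙 (EtCoh.Gm Y)) ≫ pullGm f := by
    rw [EtCoh.powMap, Functor.map_nsmul, Preadditive.comp_nsmul, Preadditive.nsmul_comp,
      CategoryTheory.Functor.map_id, Category.comp_id, Category.id_comp]
  rw [Category.assoc, h2, ← Functor.map_comp_assoc, h1, Functor.map_zero, zero_comp]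

/-- The canonical map `f⁻¹ μ_n ⟶ μ_n`. -/
noncomputable def pullMu (n : ℕ) (f : X ⟶ Y) : (EtCoh.pull f).obj (EtCoh.mu Y n) ⟶ EtCoh.mu X n :=
  kernel.lift (EtCoh.powMap X n) ((EtCoh.pull f).map (EtCoh.muι Y n) ≫ pullGm f) (pullGm_mu f n)

theorem pullMu_ι (n : ℕ) (f : X ⟶ Y) :
    pullMu n f ≫ EtCoh.muι X n = (EtCoh.pull f).map (EtCoh.muι Y n) ≫ pullGm f :=
  kernel.lift_ι _ _ _

instance (n : ℕ) : Mono (EtCoh.muι X n) := inferInstanceAs (Mono (kernel.ι _))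

theorem th_pullMu (n : ℕ) (f : X ⟶ Y) (t : Y ⟶ Z) (f₀ : X ⟶ Z) (w : f ≫ t = f₀) :
    th f t f₀ w (EtCoh.mu Z n) ≫ pullMu n f₀ = (EtCoh.pull f).map (pullMu n t) ≫ pullMu n f := by
  rw [← cancel_mono (EtCoh.muι X n), Category.assoc, Category.assoc, pullMu_ι, pullMu_ι,
    ← Functor.map_comp_assoc, pullMu_ι, Functor.map_comp, ← reassoc_of% (th_nat f t f₀ w),
    Category.assoc, th_pullGm]

/-- Pullback on the cohomology of `G_m`. -/
noncomputable def HG (f : X ⟶ Y) (q : ℕ) : HH Y (EtCoh.Gm Y) q →+ HH X (EtCoh.Gm X) q :=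
  hpl f (pullGm f) q

/-- Pullback on the cohomology of `μ_n`. -/
noncomputable def HM (n : ℕ) (f : X ⟶ Y) (q : ℕ) : HH Y (EtCoh.mu Y n) q →+ HH X (EtCoh.mu X n) q :=
  hpl f (pullMu n f) q

theorem HG_HG (f : X ⟶ Y) (t : Y ⟶ Z) (f₀ : X ⟶ Z) (w : f ≫ t = f₀) (q : ℕ)
    (x : HH Z (EtCoh.Gm Z) q) : HG f q (HG t q x) = HG f₀ q x :=
  hpl_hpl f t f₀ w _ _ _ (th_pullGm f t f₀ w) q x

theorem HM_HM (n : ℕ) (f : X ⟶ Y) (t : Y ⟶ Z) (f₀ : X ⟶ Z) (w : f ≫ t = f₀) (q : ℕ)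
    (x : HH Z (EtCoh.mu Z n) q) : HM n f q (HM n t q x) = HM n f₀ q x :=
  hpl_hpl f t f₀ w _ _ _ (th_pullMu n f t f₀ w) q x

theorem HM_comp (n : ℕ) (f : X ⟶ Y) (t : Y ⟶ Z) (q : ℕ) (x : HH Z (EtCoh.mu Z n) q) :
    HM n (f ≫ t) q x = HM n f q (HM n t q x) := (HM_HM n f t _ rfl q x).symm

theorem HM_ι (n : ℕ) (f : X ⟶ Y) (q : ℕ) (x : HH Y (EtCoh.mu Y n) q) :
    HHmap (EtCoh.muι X n) q (HM n f q x) = HG f q (HHmap (EtCoh.muι Y n) q x) := by
  rw [HM, HG, map_hpl, hpl_map, pullMu_ι]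

section kap

variable (n : ℕ)

/-- Kummer short exact sequence. -/
noncomputable abbrev KS (X : Scheme.{u}) : ShortComplex (EtCoh.Ab X) :=
  ShortComplex.mk (EtCoh.muι X n) (n • 𝟙 (EtCoh.Gm X)) (Sga4B.KummerH1.kummer_zero X n)

variable (hX : Epi (EtCoh.powMap X n)) (hY : Epi (EtCoh.powMap Y n))

/-- A unit as a class in `H⁰(X, G_m)`. -/
noncomputable def ucl (X : Scheme.{u}) : Additive (Γ(X, ⊤))ˣ ≃+ HH X (EtCoh.Gm X) 0 :=
  (AddEquiv.ulift.{u, u + 1} (α := Additive (Γ(X, ⊤))ˣ)).symm.trans (H0 X (EtCoh.Gm X)).symm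

/-- The Kummer class of a unit. -/
noncomputable def kap : Additive (Γ(X, ⊤))ˣ →+ HH X (EtCoh.mu X n) 1 :=
  (Ext.postcomp (Sga4B.KummerH1.kummer_shortExact X n hX).extClass (EtCoh.const X ℤ) (rfl : 0 + 1 = 1)).comp
    (ucl X).toAddMonoidHom

theorem kap_apply (u : Additive (Γ(X, ⊤))ˣ) :
    kap n hX u = Ext.comp (ucl X u) (Sga4B.KummerH1.kummer_shortExact X n hX).extClass (rfl : 0 + 1 = 1) := rfl


theorem kap_nsmul (u : Additive (Γ(X, ⊤))ˣ) : kap n hX (n • u) = 0 := by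
  rw [kap_apply, map_nsmul]
  exact Sga4B.KummerH1.conn_nsmul _ _ n _ (Sga4B.KummerH1.kummer_shortExact X n hX) 0 _

theorem kap_eq_zero_iff (u : Additive (Γ(X, ⊤))ˣ) : kap n hX u = 0 ↔ ∃ v, n • v = u := by
  refine ⟨fun h => ?_, ?_⟩
  · obtain ⟨y, hy⟩ := Sga4B.KummerH1.exists_of_conn_eq_zero _ _ n _
      (Sga4B.KummerH1.kummer_shortExact X n hX) 0 (ucl X u) h
    refine ⟨(ucl X).symm y, ?_⟩
    rw [← map_nsmul, hy, AddEquiv.symm_apply_apply]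
  · rintro ⟨v, rfl⟩
    exact kap_nsmul n hX v

theorem exists_kap_eq (c : HH X (EtCoh.mu X n) 1) (hc : HHmap (EtCoh.muι X n) 1 c = 0) :
    ∃ u, kap n hX u = c := by
  obtain ⟨y, hy⟩ := Sga4B.KummerH1.exists_conn_eq _ _ n _
      (Sga4B.KummerH1.kummer_shortExact X n hX) 0 c hc
  refine ⟨(ucl X).symm y, ?_⟩
  rw [kap_apply, AddEquiv.apply_symm_apply]
  exact hy

theorem HHmap_muι_kap (u : Additive (Γ(X, ⊤))ˣ) : HHmap (EtCoh.muι X n) 1 (kap n hX u) = 0 := by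
  have h := ShortComplex.ShortExact.extClass_comp (Sga4B.KummerH1.kummer_shortExact X n hX)
  rw [kap_apply, HHmap_apply, Ext.comp_assoc_of_third_deg_zero]
  refine (congrArg (fun e => Ext.comp (ucl X u) e (rfl : 0 + 1 = 1)) h).trans ?_
  exact Ext.comp_zero _ _ _ _ _

/-- Pull back of units, additively. -/
noncomputable def upull (f : X ⟶ Y) : Additive (Γ(Y, ⊤))ˣ →+ Additive (Γ(X, ⊤))ˣ :=
  (Units.map (f.appTop.hom : Γ(Y, ⊤) →* Γ(X, ⊤))).toAdditive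

theorem upull_val (f : X ⟶ Y) (u : Additive (Γ(Y, ⊤))ˣ) :
    ((upull f u).toMul : Γ(X, ⊤)) = f.appTop.hom (u.toMul : Γ(Y, ⊤)) := rfl

theorem bcTopIso_inv_left_fst (f : X ⟶ Y) :
    (EtCore.bcTopIso f).inv.left ≫ pullback.fst (EtCoh.top Y).hom f = f := by
  have h1 : (EtCore.bcTopIso f).inv.left ≫ pullback.snd (EtCoh.top Y).hom f = 𝟙 X :=
    MorphismProperty.Over.w (EtCore.bcTopIso f).inv
  have h2 : pullback.fst (EtCoh.top Y).hom f ≫ (EtCoh.top Y).hom = pullback.snd (EtCoh.top Y).hom f ≫ f :=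
    pullback.condition
  have h3 : pullback.fst (EtCoh.top Y).hom f = pullback.snd (EtCoh.top Y).hom f ≫ f :=
    (Category.comp_id _).symm.trans h2
  rw [h3]
  exact (Category.assoc _ _ _).symm.trans ((congrArg (fun k => k ≫ f) h1).trans (Category.id_comp f))

theorem HG_ucl (f : X ⟶ Y) (u : Additive (Γ(Y, ⊤))ˣ) : HG f 0 (ucl Y u) = ucl X (upull f u) := by
  apply (H0 X (EtCoh.Gm X)).injective
  have h1 : H0 X _ (ucl X (upull f u)) = ofUnit (upull f u).toMul :=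
    AddEquiv.apply_symm_apply _ _
  have h2 : H0 Y _ (ucl Y u) = ofUnit u.toMul := AddEquiv.apply_symm_apply _ _
  rw [HG, hpl_apply, H0_map, hp_zero, h1, h2]
  have h3 : (unitSec f (EtCoh.Gm Y)).hom (ofUnit u.toMul) =
      ((EtCoh.pull f).obj (EtCoh.Gm Y)).obj.map (EtCore.bcTopIso f).inv.op
        (eta f _ (EtCoh.top Y) (ofUnit u.toMul)) := rfl
  rw [h3, map_res]
  apply unitOf_injective
  ext
  rw [unitOf_map, unitOf_pullGm_eta]
  have h4 := congrArg (fun k => k.appTop.hom (u.toMul : Γ(Y, ⊤))) (bcTopIso_inv_left_fst f)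
  exact h4

/-- **Functoriality of Kummer classes.** -/
theorem HM_kap (f : X ⟶ Y) (u : Additive (Γ(Y, ⊤))ˣ) :
    HM n f 1 (kap n hY u) = kap n hX (upull f u) := by
  let φ : (KS n Y).map (EtCoh.pull f) ⟶ KS n X :=
    { τ₁ := pullMu n f
      τ₂ := pullGm f
      τ₃ := pullGm f
      comm₁₂ := pullMu_ι n f
      comm₂₃ := by
        change pullGm f ≫ (n • 𝟙 (EtCoh.Gm X)) = (EtCoh.pull f).map (n • 𝟙 (EtCoh.Gm Y)) ≫ pullGm f
        rw [Functor.map_nsmul, Preadditive.comp_nsmul, Preadditive.nsmul_comp,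
          CategoryTheory.Functor.map_id, Category.comp_id, Category.id_comp] }
  have h := hpl_extClass f (Sga4B.KummerH1.kummer_shortExact Y n hY)
    (Sga4B.KummerH1.kummer_shortExact X n hX) φ (rfl : 0 + 1 = 1) (ucl Y u)
  have h2 : hpl f φ.τ₃ 0 (ucl Y u) = ucl X (upull f u) := HG_ucl f u
  rw [h2] at h
  exact h

end kap

end Groth.Agent.Etcore.Kappa228
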