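import Groth.Agent.Dix.ExtSeq
import Mathlib.CategoryTheory.Abelian.Basic
import Mathlib.Algebra.Homology.ShortComplex.ShortExact
import Mathlib.Algebra.Homology.DerivedCategory.Ext.ExactSequences

/-!
# Torsion in `H^1(K_n)`, `K_n` the kernel of multiplication by `n`
-/

set_option autoImplicit false
universe w v u

open CategoryTheory CategoryTheory.Limits CategoryTheory.Abelian

namespace Groth.Agent.Etcore.KerTorsion

variable {C : Type u} [Category.{v} C] [Abelian C]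

/-- The kernel of multiplication by `n`. -/
noncomputable abbrev K (A : C) (n : ℕ) : C := kernel (n • 𝟙 A)

variable (A : C) {d e n : ℕ}

/-- The inclusion `K_d ⟶ K_n` for `n = d e`. -/
noncomputable def incl (h : d * e = n) : K A d ⟶ K A n :=
  kernel.lift (n • 𝟙 A) (kernel.ι (d • 𝟙 A)) (by
    subst h
    have h1 := kernel.condition (d • 𝟙 A)
    rw [Preadditive.comp_nsmul, Category.comp_id] at h1 ⊢
    rw [mul_comm, mul_nsmul', h1, nsmul_zero])

@[reassoc (attr := simp)]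
theorem incl_ι (h : d * e = n) : incl A h ≫ kernel.ι (n • 𝟙 A) = kernel.ι (d • 𝟙 A) :=
  kernel.lift_ι _ _ _

/-- Multiplication by `d` as `K_n ⟶ K_e` for `n = d e`. -/
noncomputable def pw (h : d * e = n) : K A n ⟶ K A e :=
  kernel.lift (e • 𝟙 A) (d • kernel.ι (n • 𝟙 A)) (by
    subst h
    have h1 := kernel.condition ((d * e) • 𝟙 A)
    rw [Preadditive.comp_nsmul, Category.comp_id] at h1 ⊢
    rw [← mul_nsmul, h1])

@[reassoc (attr := simp)]
theorem pw_ι (h : d * e = n) : pw A h ≫ kernel.ι (e • 𝟙 A) = d • kernel.ι (n • 𝟙 A) :=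
  kernel.lift_ι _ _ _

theorem incl_pw (h : d * e = n) : incl A h ≫ pw A h = 0 := by
  rw [← cancel_mono (kernel.ι (e • 𝟙 A)), Category.assoc, pw_ι, Preadditive.comp_nsmul, incl_ι,
    zero_comp]
  have h1 := kernel.condition (d • 𝟙 A)
  rwa [Preadditive.comp_nsmul, Category.comp_id] at h1

theorem pw_incl (h : d * e = n) (h' : e * d = n) : pw A h ≫ incl A h' = d • 𝟙 (K A n) := by
  rw [← cancel_mono (kernel.ι (n • 𝟙 A)), Category.assoc, incl_ι, pw_ι,
    Preadditive.nsmul_comp, Category.id_comp]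

instance (h : d * e = n) : Mono (incl A h) := by
  have : Mono (incl A h ≫ kernel.ι (n • 𝟙 A)) := by rw [incl_ι]; infer_instance
  exact mono_of_mono _ (kernel.ι (n • 𝟙 A))

theorem exact_incl_pw (h : d * e = n) :
    (ShortComplex.mk (incl A h) (pw A h) (incl_pw A h)).Exact := by
  apply ShortComplex.exact_of_f_is_kernel
  refine KernelFork.IsLimit.ofι' _ _ (fun {W} k hk => ⟨kernel.lift (d • 𝟙 A)
    (k ≫ kernel.ι (n • 𝟙 A)) ?_, ?_⟩)
  · have h1 := hk =≫ kernel.ι (e • 𝟙 A)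
    rw [Category.assoc, pw_ι, zero_comp, Preadditive.comp_nsmul] at h1
    rw [Preadditive.comp_nsmul, Category.comp_id, h1]
  · rw [← cancel_mono (kernel.ι (n • 𝟙 A)), Category.assoc, incl_ι, kernel.lift_ι]

theorem epi_pw (h : d * e = n) [Epi (d • 𝟙 A)] : Epi (pw A h) := by
  have hp : IsPullback (pw A h) (kernel.ι (n • 𝟙 A)) (kernel.ι (e • 𝟙 A)) (d • 𝟙 A) := by
    refine ⟨⟨by rw [pw_ι, Preadditive.comp_nsmul, Category.comp_id]⟩,
      ⟨PullbackCone.IsLimit.mk _ (fun s => kernel.lift (n • 𝟙 A) s.snd ?_) ?_ ?_ ?_⟩⟩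
    · have h1 := s.condition =≫ (e • 𝟙 A)
      rw [Category.assoc, Category.assoc, kernel.condition, comp_zero] at h1
      subst h
      rw [Preadditive.comp_nsmul, Category.comp_id, Preadditive.comp_nsmul,
        Preadditive.comp_nsmul, Category.comp_id] at h1
      rw [Preadditive.comp_nsmul, Category.comp_id, mul_nsmul, ← h1]
    · intro s
      rw [← cancel_mono (kernel.ι (e • 𝟙 A)), Category.assoc, pw_ι, Preadditive.comp_nsmul,
        kernel.lift_ι, s.condition, Preadditive.comp_nsmul, Category.comp_id]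
    · intro s
      rw [kernel.lift_ι]
    · intro s m h1 h2
      rw [← cancel_mono (kernel.ι (n • 𝟙 A)), kernel.lift_ι, h2]
  exact Abelian.epi_fst_of_isLimit _ _ hp.isLimit

theorem shortExact (h : d * e = n) [Epi (d • 𝟙 A)] :
    (ShortComplex.mk (incl A h) (pw A h) (incl_pw A h)).ShortExact :=
  { exact := exact_incl_pw A h
    mono_f := inferInstanceAs (Mono (incl A h))
    epi_g := epi_pw A h }

variable [HasExt.{w} C] (Z : C)

omit [HasExt.{w} C] in
theorem nsmul_id_K (n : ℕ) : n • 𝟙 (K A n) = 0 := by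
  rw [← cancel_mono (kernel.ι (n • 𝟙 A)), Preadditive.nsmul_comp, Category.id_comp, zero_comp]
  have h1 := kernel.condition (n • 𝟙 A)
  rwa [Preadditive.comp_nsmul, Category.comp_id] at h1

theorem nsmul_ext_eq_zero {i : ℕ} (x : Ext Z (K A n) i) : n • x = 0 := by
  rw [← Groth.Agent.Dix.ExtSeq.comp_mk₀_nsmul_id x n, nsmul_id_K, Ext.mk₀_zero, Ext.comp_zero]

theorem comp_incl_injective (h : d * e = n) [Epi (d • 𝟙 A)]
    (h0 : ∀ y : Ext Z (K A e) 0, ∃ x : Ext Z (K A n) 0,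
      x.comp (Ext.mk₀ (pw A h)) (add_zero 0) = y) (x : Ext Z (K A d) 1)
    (hx : x.comp (Ext.mk₀ (incl A h)) (add_zero 1) = 0) : x = 0 := by
  obtain ⟨y, hy⟩ := Ext.covariant_sequence_exact₁ Z (shortExact A h) x hx (n₀ := 0) rfl
  obtain ⟨z, rfl⟩ := h0 y
  rw [← hy]
  rw [Ext.comp_assoc_of_second_deg_zero]
  have h1 : (Ext.mk₀ (pw A h)).comp (shortExact A h).extClass (zero_add 1) = 0 :=
    (shortExact A h).comp_extClass
  rw [h1, Ext.comp_zero]

/-- **`H^1(K_n)[d] ≅ H^1(K_d)`** (cardinalities), if `H^0(K_n) → H^0(K_e)` and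
`H^0(K_n) → H^0(K_d)` are surjective. -/
theorem card_torsion (h : d * e = n) (h' : e * d = n) [Epi (d • 𝟙 A)] [Epi (e • 𝟙 A)]
    (h0 : ∀ y : Ext Z (K A e) 0, ∃ x : Ext Z (K A n) 0,
      x.comp (Ext.mk₀ (pw A h)) (add_zero 0) = y)
    (h0' : ∀ y : Ext Z (K A d) 0, ∃ x : Ext Z (K A n) 0,
      x.comp (Ext.mk₀ (pw A h')) (add_zero 0) = y) :
    Nat.card {x : Ext Z (K A n) 1 // d • x = 0} = Nat.card (Ext Z (K A d) 1) := by
  have hd : ∀ x : Ext Z (K A n) 1, (x.comp (Ext.mk₀ (pw A h)) (add_zero 1)).comp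
      (Ext.mk₀ (incl A h')) (add_zero 1) = d • x := by
    intro x
    rw [Ext.comp_assoc_of_third_deg_zero, Ext.mk₀_comp_mk₀, pw_incl A h h']
    exact Groth.Agent.Dix.ExtSeq.comp_mk₀_nsmul_id x d
  have hz : ∀ y : Ext Z (K A d) 1, (y.comp (Ext.mk₀ (incl A h)) (add_zero 1)).comp
      (Ext.mk₀ (pw A h)) (add_zero 1) = 0 := by
    intro y
    rw [Ext.comp_assoc_of_third_deg_zero, Ext.mk₀_comp_mk₀, incl_pw, Ext.mk₀_zero, Ext.comp_zero]
  have hm : ∀ y : Ext Z (K A d) 1, d • (y.comp (Ext.mk₀ (incl A h)) (add_zero 1)) = 0 := by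
    intro y
    rw [← hd, hz, Ext.zero_comp]
  let F : Ext Z (K A d) 1 → {x : Ext Z (K A n) 1 // d • x = 0} :=
    fun y => ⟨y.comp (Ext.mk₀ (incl A h)) (add_zero 1), hm y⟩
  refine (Nat.card_congr (Equiv.ofBijective F ⟨?_, ?_⟩)).symm
  · intro y y' hyy'
    have h1 : y.comp (Ext.mk₀ (incl A h)) (add_zero 1) =
      y'.comp (Ext.mk₀ (incl A h)) (add_zero 1) := congrArg Subtype.val hyy'
    have h2 := comp_incl_injective A Z h h0 (y - y') (by
      rw [sub_eq_add_neg, Ext.add_comp, Ext.neg_comp, h1, add_neg_cancel])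
    exact sub_eq_zero.1 h2
  · rintro ⟨x, hx⟩
    have h1 : x.comp (Ext.mk₀ (pw A h)) (add_zero 1) = 0 :=
      comp_incl_injective A Z h' h0' _ ((hd x).trans hx)
    obtain ⟨y, hy⟩ := Ext.covariant_sequence_exact₂ Z (shortExact A h) x h1
    exact ⟨y, Subtype.ext hy⟩

end Groth.Agent.Etcore.KerTorsion
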