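import Groth.Agent.Etcore.ZetaMap

/-!
# Kummer classes in `H^1(X, ℤ/n)` for schemes over a field with a primitive `n`-th root of unity

* `kap hζ σ hn x : HH X (const X (ZMod n)) 1` for a global unit `x`;
* `kap_mul`, `kap_pow`, `kap_one`, `kap_zpow`, `HC_kap` (naturality);
* `exists_kap_eq`: a class dying in `H^1(X, G_m)` is a Kummer class;
* `zmH`: the map `H^1(X, ℤ/n) → H^1(X, G_m)`, `zmH_nat`.
-/

set_option autoImplicit false
universe u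
open CategoryTheory CategoryTheory.Limits AlgebraicGeometry Opposite Abelian
open scoped Groth.Agent.Etcore.EtInst Groth.Agent.Etcore.HC
open Groth.Agent.Etcore.EtInst Groth.Agent.Etcore.PullCoh Groth.Agent.Etcore.HpullCalc
open Groth.Agent.Etcore.HC Groth.Agent.Etcore.GmFun Groth.Agent.Etcore.ZetaMap
open Groth.Agent.CurvesA.MuConst (unitOf ofUnit unitOf_injective unitOf_nsmul unitOf_ofUnit)

namespace Groth.Agent.Etcore.KummerCls

variable {W X Y Z : Scheme.{u}}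

/-- Pullback on `H^n(-, G_m)`. -/
noncomputable def HG (f : X ⟶ Y) (n : ℕ) : HH Y (EtCoh.Gm Y) n →+ HH X (EtCoh.Gm X) n :=
  hpl f (gmp f) n

theorem HG_HG (f : X ⟶ Y) (t : Y ⟶ Z) (f₀ : X ⟶ Z) (w : f ≫ t = f₀) (n : ℕ)
    (x : HH Z (EtCoh.Gm Z) n) : HG f n (HG t n x) = HG f₀ n x :=
  hpl_hpl f t f₀ w _ _ _ (gmp_comp f t f₀ w) n x

/-- Global sections of `G_m` as units. -/
noncomputable def gu (s : EtCoh.sect (EtCoh.Gm X) (EtCoh.top X)) : (Γ(X, ⊤))ˣ :=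
  unitOf (X := X) (U := EtCoh.top X) s

theorem gmp_unitSec (f : X ⟶ Y) (s : EtCoh.sect (EtCoh.Gm Y) (EtCoh.top Y)) :
    ((gu ((gmp f).hom.app (op (EtCoh.top X)) ((unitSec f (EtCoh.Gm Y)).hom s)) :
      (Γ(X, ⊤))ˣ) : Γ(X, ⊤)) = f.appTop.hom (gu s : Γ(Y, ⊤)) := by
  have h1 : (unitSec f (EtCoh.Gm Y)).hom s =
      ((EtCoh.pull f).obj (EtCoh.Gm Y)).obj.map (EtCore.bcTopIso f).inv.op
        (eta f _ (EtCoh.top Y) s) := by
    rw [unitSec_eq]; rfl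
  rw [h1, map_res, gmp_eta, gu, unitOf_map', unitOf_gmUnit]
  let t : X ⟶ pullback (𝟙 Y) f := (EtCore.bcTopIso f).inv.left
  have h2 : t ≫ pullback.snd (𝟙 Y) f = 𝟙 X := MorphismProperty.Over.w (EtCore.bcTopIso f).inv
  have h3 : t ≫ pullback.fst (𝟙 Y) f = f := by
    have h4 : pullback.fst (𝟙 Y) f ≫ 𝟙 Y = pullback.snd (𝟙 Y) f ≫ f := pullback.condition
    rw [Category.comp_id] at h4
    rw [h4, ← Category.assoc, h2, Category.id_comp]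
  have h5 : t.appTop.hom ((pullback.fst (𝟙 Y) f).appTop.hom (gu s : Γ(Y, ⊤))) =
      f.appTop.hom (gu s : Γ(Y, ⊤)) := by
    have h6 := congrArg (fun k => (Scheme.Hom.appTop k).hom (gu s : Γ(Y, ⊤))) h3
    rw [← h6, Scheme.Hom.comp_appTop]
    rfl
  exact h5

/-- `H^0(X, G_m)` from a global unit. -/
noncomputable def h0 (x : (Γ(X, ⊤))ˣ) : HH X (EtCoh.Gm X) 0 :=
  (H0 X (EtCoh.Gm X)).symm (ofUnit (X := X) (U := EtCoh.top X) x)

theorem h0_mul (x y : (Γ(X, ⊤))ˣ) : h0 (x * y) = h0 x + h0 y := by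
  rw [h0, h0, h0, ← map_add]
  rfl

theorem h0_one : h0 (1 : (Γ(X, ⊤))ˣ) = 0 := by
  rw [h0]
  exact map_zero _

theorem h0_pow (x : (Γ(X, ⊤))ˣ) (n : ℕ) : h0 (x ^ n) = n • h0 x := by
  induction n with
  | zero => rw [pow_zero, h0_one, zero_smul]
  | succ n ih => rw [pow_succ, h0_mul, ih, succ_nsmul]

theorem exists_h0_eq (c : HH X (EtCoh.Gm X) 0) : ∃ x : (Γ(X, ⊤))ˣ, h0 x = c :=
  ⟨unitOf (X := X) (U := EtCoh.top X) (H0 X (EtCoh.Gm X) c), by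
    rw [h0, Groth.Agent.CurvesA.MuConst.ofUnit_unitOf, AddEquiv.symm_apply_apply]⟩

theorem HG_h0 (f : X ⟶ Y) (x : (Γ(Y, ⊤))ˣ) (y : (Γ(X, ⊤))ˣ)
    (h : (y : Γ(X, ⊤)) = f.appTop.hom (x : Γ(Y, ⊤))) : HG f 0 (h0 x) = h0 y := by
  apply (H0 X (EtCoh.Gm X)).injective
  rw [HG, hpl_apply, H0_map, hp_zero, h0, h0, AddEquiv.apply_symm_apply, AddEquiv.apply_symm_apply]
  apply unitOf_injective
  apply Units.ext
  refine (gmp_unitSec f _).trans ?_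
  exact h.symm

section Field

variable {K : Type u} [Field K] {n : ℕ} [NeZero n] {ζ : K} (hζ : IsPrimitiveRoot ζ n)
  (σ : K →+* Γ(X, ⊤)) (hn : (n : K) ≠ 0)

/-- The Kummer class of a global unit. -/
noncomputable def kap (x : (Γ(X, ⊤))ˣ) : HH X (EtCoh.const X (ZMod n)) 1 :=
  (h0 x).comp (shortExact_zeta n hζ σ hn).extClass rfl

theorem kap_mul (x y : (Γ(X, ⊤))ˣ) : kap hζ σ hn (x * y) = kap hζ σ hn x + kap hζ σ hn y := by
  rw [kap, h0_mul, Ext.add_comp]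
  rfl

theorem kap_one : kap hζ σ hn (1 : (Γ(X, ⊤))ˣ) = 0 := by
  rw [kap, h0_one, Ext.zero_comp]

theorem kap_pow (x : (Γ(X, ⊤))ˣ) (k : ℕ) : kap hζ σ hn (x ^ k) = k • kap hζ σ hn x := by
  induction k with
  | zero => rw [pow_zero, kap_one, zero_smul]
  | succ k ih => rw [pow_succ, kap_mul, ih, succ_nsmul]

/-- The Kummer class of an `n`-th power vanishes. -/
theorem kap_pow_self (x : (Γ(X, ⊤))ˣ) : kap hζ σ hn (x ^ n) = 0 := by
  rw [kap, h0_pow]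
  exact Groth.Agent.Sga4B.KummerH1.conn_nsmul _ _ n _ (shortExact_zeta n hζ σ hn) 0 (h0 x)

/-- A class dying in `H^1(X, G_m)` is a Kummer class. -/
theorem exists_kap_eq (c : HH X (EtCoh.const X (ZMod n)) 1) (hc : HHmap (zm n hζ σ) 1 c = 0) :
    ∃ x, kap hζ σ hn x = c := by
  obtain ⟨y, hy⟩ := Groth.Agent.Sga4B.KummerH1.exists_conn_eq _ _ n _
    (shortExact_zeta n hζ σ hn) 0 c hc
  obtain ⟨x, rfl⟩ := exists_h0_eq y
  exact ⟨x, hy⟩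

/-- Naturality of `H^q(X, ℤ/n) → H^q(X, G_m)`. -/
theorem HG_map_zm (f : X ⟶ Y) (τ : K →+* Γ(Y, ⊤)) (hσ : σ = f.appTop.hom.comp τ) (q : ℕ)
    (c : HH Y (EtCoh.const Y (ZMod n)) q) :
    HG f q (HHmap (zm n hζ τ) q c) = HHmap (zm n hζ σ) q (HC.HC (ZMod n) f q c) := by
  rw [HG, hpl_map, HC.HC, map_hpl]
  congr 1
  rw [zmap_nat n f (zu n hζ τ) (zu_pow n hζ τ) (zu n hζ σ) (zu_pow n hζ σ)]
  rw [zu_val, zu_val, hσ]
  rfl

/-- The morphism of Kummer sequences attached to a morphism of schemes. -/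
noncomputable def kummerHom (f : X ⟶ Y) (τ : K →+* Γ(Y, ⊤)) (hσ : σ = f.appTop.hom.comp τ) :
    (ShortComplex.mk (zm n hζ τ) (n • 𝟙 (EtCoh.Gm Y)) (zm_comp n hζ τ)).map (EtCoh.pull f) ⟶
      ShortComplex.mk (zm n hζ σ) (n • 𝟙 (EtCoh.Gm X)) (zm_comp n hζ σ) where
  τ₁ := (EtCore.pullConst f (ZMod n)).hom
  τ₂ := gmp f
  τ₃ := gmp f
  comm₁₂ := by
    refine zmap_nat n f (zu n hζ τ) (zu_pow n hζ τ) (zu n hζ σ) (zu_pow n hζ σ) ?_
    rw [zu_val, zu_val, hσ]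
    rfl
  comm₂₃ := by
    change gmp f ≫ (n • 𝟙 (EtCoh.Gm X)) = (EtCoh.pull f).map (n • 𝟙 (EtCoh.Gm Y)) ≫ gmp f
    rw [Functor.map_nsmul, CategoryTheory.Functor.map_id, Preadditive.comp_nsmul,
      Preadditive.nsmul_comp, Category.comp_id, Category.id_comp]

/-- **Naturality of Kummer classes.** -/
theorem HC_kap (f : X ⟶ Y) (τ : K →+* Γ(Y, ⊤)) (hσ : σ = f.appTop.hom.comp τ) (x : (Γ(Y, ⊤))ˣ)
    (y : (Γ(X, ⊤))ˣ) (h : (y : Γ(X, ⊤)) = f.appTop.hom (x : Γ(Y, ⊤))) :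
    HC.HC (ZMod n) f 1 (kap hζ τ hn x) = kap hζ σ hn y := by
  have h1 := hpl_extClass f (shortExact_zeta n hζ τ hn) (shortExact_zeta n hζ σ hn)
    (kummerHom hζ σ f τ hσ) rfl (h0 x)
  rw [kap, kap]
  refine h1.trans ?_
  have h2 : hpl f (kummerHom hζ σ f τ hσ).τ₃ 0 (h0 x) = h0 y := HG_h0 f x y h
  rw [h2]

end Field

end Groth.Agent.Etcore.KummerCls
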