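import Groth.Agent.Etcore.LPullComp
import Groth.Agent.Etcore.StrataGen
import Groth.Agent.EtpbcA.ConsCrit

/-!
# Pointwise criterion for constructible sheaves of `Λ`-modules

* `pr F`: the property "`F|_T` is locally constant of finite type" of morphisms `T ⟶ X`;
  `EtModW.IsConstructible Λ F` is `StrataGen.IsCons (pr F)`.
* `localStratum_of_good`, `isConstructible_of_good`: if every `x : X` is hit by a point `u` of an
  étale `U` with a finitely generated module `M` and `φ : M →ₗ[Λ] F(U)` bijective on germs along a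
  (locally) constructible set containing `u`, then `F` is constructible.
* formal properties: isomorphism invariance, localness, inverse images.
-/

set_option autoImplicit false
universe u

open CategoryTheory CategoryTheory.Limits AlgebraicGeometry Opposite Topology

namespace Groth.Agent.Etcore.LCrit

open Groth.Agent.Etbase Groth.Agent.Etcore Groth.Agent.EtpbcA Groth.Agent.Etcore.LVan
open Groth.Agent.Etcore.LPull Groth.Agent.Etcore.LPullComp Groth.Agent.Etcore.StrataGen
open Groth.Agent.EtpbcA.ConsPull (fstBc fst_bc_map_apply exists_bc_point)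
open Groth.Agent.EtpbcA.ConsCrit (exists_affine_shrink isSpectralMap_of_quasiCompact)

variable {Λ : Type (u + 1)} [CommRing Λ]

/-- The property "`F|_T` is locally constant of finite type". -/
def pr {X : Scheme.{u}} (F : EtModW.Mod Λ X) : Prp X := fun _ g =>
  EtModW.IsFTLocConst Λ ((EtModW.pull Λ g).obj F)

section

variable {X : Scheme.{u}} (F : EtModW.Mod Λ X)

theorem isConstructible_iff_isCons : EtModW.IsConstructible Λ F ↔ IsCons (pr F) := Iff.rfl

theorem pr_stable : Stable (pr F) := fun _ _ h g hg =>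
  isFTLC_of_iso ((pullComp Λ h g).app F) (isFTLC_pull h _ hg)

variable {F}

theorem pr_iso {G : EtModW.Mod Λ X} (e : F ≅ G) {T : Scheme.{u}} {g : T ⟶ X} (h : pr F T g) :
    pr G T g :=
  isFTLC_of_iso ((EtModW.pull Λ g).mapIso e) h

theorem pr_comp {Y : Scheme.{u}} {f : Y ⟶ X} {T : Scheme.{u}} {g : T ⟶ Y}
    (h : pr ((EtModW.pull Λ f).obj F) T g) : pr F T (g ≫ f) :=
  isFTLC_of_iso ((pullComp Λ g f).app F) h

theorem pr_of_comp {Y : Scheme.{u}} {f : Y ⟶ X} {T : Scheme.{u}} {g : T ⟶ Y}
    (h : pr F T (g ≫ f)) : pr ((EtModW.pull Λ f).obj F) T g :=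
  isFTLC_of_iso ((pullComp Λ g f).app F).symm h

theorem pr_pullback_snd {Y : Scheme.{u}} {f : Y ⟶ X} {T : Scheme.{u}} {g : T ⟶ X}
    (h : pr F T g) : pr ((EtModW.pull Λ f).obj F) (pullback f g) (pullback.fst f g) := by
  apply pr_of_comp
  rw [pullback.condition]
  exact pr_stable F _ _ _ _ h

/-- Isomorphism invariance of constructibility. -/
theorem isConstructible_of_iso {G : EtModW.Mod Λ X} (e : F ≅ G)
    (hF : EtModW.IsConstructible Λ F) : EtModW.IsConstructible Λ G := by
  intro U hU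
  obtain ⟨n, T, g, h1, h2, h3, h4, h5⟩ := hF U hU
  exact ⟨n, T, g, h1, h2, h3, h4, fun i => pr_iso e (h5 i)⟩

variable (F)

theorem isConstructible_iff_local : EtModW.IsConstructible Λ F ↔
    ∀ U : X.Opens, IsAffineOpen U → ∀ x ∈ U, LocalStratum (pr F) (U : Set X) x :=
  isCons_iff_local (pr_stable F)

theorem isConstructible_of_local' (h : ∀ x : X, ∃ V : X.Opens, x ∈ V ∧
    LocalStratum (pr F) (V : Set X) x) : EtModW.IsConstructible Λ F :=
  isCons_of_local' (pr_stable F) h

theorem isConstructible_iff_univ [CompactSpace X] [QuasiSeparatedSpace X] :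
    EtModW.IsConstructible Λ F ↔ Adapted (pr F) (Set.univ : Set X) :=
  isCons_iff_univ (pr_stable F)

/-- Constructibility is Zariski local. -/
theorem isConstructible_of_openImmersions {ι : Type*} (V : ι → Scheme.{u}) (j : ∀ i, V i ⟶ X)
    [∀ i, IsOpenImmersion (j i)] (hU : ∀ x : X, ∃ i, x ∈ Set.range (j i))
    (h : ∀ i, EtModW.IsConstructible Λ ((EtModW.pull Λ (j i)).obj F)) :
    EtModW.IsConstructible Λ F :=
  isCons_of_openImmersions (pr_stable F) V j hU (fun i => pr ((EtModW.pull Λ (j i)).obj F))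
    (fun _ => pr_stable _) (fun _ _ _ h => pr_comp h) h

/-- Constructibility can be tested on the members of an open cover. -/
theorem isConstructible_of_open_cover {ι : Type*} (U : ι → X.Opens) (hU : ∀ x : X, ∃ i, x ∈ U i)
    (h : ∀ i, EtModW.IsConstructible Λ ((EtModW.pull Λ (U i).ι).obj F)) :
    EtModW.IsConstructible Λ F :=
  isConstructible_of_openImmersions F (fun i => (U i).toScheme) (fun i => (U i).ι)
    (fun x => by
      obtain ⟨i, hi⟩ := hU x
      exact ⟨i, by rw [Scheme.Opens.range_ι]; exact hi⟩) h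

/-- Gluing constructibility along a constructible decomposition. -/
theorem isConstructible_of_strata [CompactSpace X] [QuasiSeparatedSpace X]
    {ι : Type*} (T : ι → Scheme.{u}) (g : ∀ i, T i ⟶ X) [∀ i, IsImmersion (g i)]
    (hc : ∀ i, IsConstructible (Set.range (g i)))
    (hcov : (⋃ i, Set.range (g i)) = Set.univ)
    (h : ∀ i, EtModW.IsConstructible Λ ((EtModW.pull Λ (g i)).obj F)) :
    EtModW.IsConstructible Λ F :=
  isCons_of_strata (pr_stable F) T g hc hcov (fun i => pr ((EtModW.pull Λ (g i)).obj F))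
    (fun _ => pr_stable _) (fun _ _ _ h => pr_comp h) h

end

/-- Inverse images of constructible sheaves are constructible. -/
theorem isConstructible_pull {X Y : Scheme.{u}} (f : X ⟶ Y) (F : EtModW.Mod Λ Y)
    (hF : EtModW.IsConstructible Λ F) : EtModW.IsConstructible Λ ((EtModW.pull Λ f).obj F) := by
  apply isConstructible_of_local'
  intro x
  obtain ⟨W, hW, hxW, -⟩ : ∃ W : Y.Opens, IsAffineOpen W ∧ f x ∈ W ∧ W ≤ ⊤ :=
    exists_isAffineOpen_mem_and_subset (X := Y) (U := (⊤ : Y.Opens)) (x := f x) (by trivial)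
  obtain ⟨V, hV, hxV, hVW⟩ : ∃ V : X.Opens, IsAffineOpen V ∧ x ∈ V ∧ V ≤ f ⁻¹ᵁ W :=
    exists_isAffineOpen_mem_and_subset (X := X) (U := f ⁻¹ᵁ W) (x := x) hxW
  obtain ⟨T, g, h1, h2, h3, h4, h5⟩ := (isConstructible_iff_local F).1 hF W hW _ hxW
  refine ⟨V, hxV, ?_⟩
  have : IsAffine V.toScheme := hV
  have : IsAffine W.toScheme := hW
  let k : V.toScheme ⟶ W.toScheme := f.resLE W V hVW
  have hk : k ≫ W.ι = V.ι ≫ f := f.resLE_comp_ι hVW
  have hk' : ∀ a, W.ι (k a) = f (V.ι a) := fun a =>
    congrArg (fun (q : V.toScheme ⟶ Y) => q a) hk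
  let V' : (pullback f g).Opens := (pullback.fst f g) ⁻¹ᵁ V
  have hr : Set.range (V'.ι ≫ pullback.fst f g) = f ⁻¹' (Set.range g) ∩ V := by
    have e1 : Set.range (V'.ι ≫ pullback.fst f g) = pullback.fst f g '' (Set.range V'.ι) := by
      rw [← Set.range_comp]
      rfl
    rw [e1, Scheme.Opens.range_ι]
    change pullback.fst f g '' (pullback.fst f g ⁻¹' (V : Set X)) = _
    rw [Set.image_preimage_eq_range_inter, Scheme.Pullback.range_fst, Set.inter_comm]
  refine ⟨V', V'.ι ≫ pullback.fst f g, inferInstance, ?_, ?_, ?_, ?_⟩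
  · rw [hr]
    exact Set.inter_subset_right
  · rw [hr]
    exact ⟨h3, hxV⟩
  · rw [hr]
    have e2 : (Subtype.val : ((V : Set X) : Type u) → X) ⁻¹' (f ⁻¹' (Set.range g) ∩ V) =
        k ⁻¹' ((Subtype.val : ((W : Set Y) : Type u) → Y) ⁻¹' (Set.range g)) := by
      ext a
      constructor
      · rintro ⟨ha, -⟩
        change W.ι (k a) ∈ Set.range g
        rw [hk']
        exact ha
      · intro ha
        refine ⟨?_, a.2⟩
        change W.ι (k a) ∈ Set.range g at ha
        rw [hk'] at ha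
        exact ha
    rw [e2]
    exact ConsTop.isConstructible_preimage (isSpectralMap_of_quasiCompact k) h4
  · exact pr_stable _ _ _ _ _ (pr_pullback_snd h5)

theorem isConstructible_of_flc {X : Scheme.{u}} {F : EtModW.Mod Λ X}
    (hF : EtModW.IsFTLocConst Λ F) : EtModW.IsConstructible Λ F := by
  apply isConstructible_of_local'
  intro x
  refine ⟨⊤, trivial, X, 𝟙 X, inferInstance, Set.subset_univ _, ⟨x, rfl⟩, ?_,
    isFTLC_of_iso ((pullId Λ X).symm.app F) hF⟩
  have : (Subtype.val : (((⊤ : X.Opens) : Set X) : Type u) → X) ⁻¹' (Set.range (𝟙 X)) =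
      Set.univ := by
    ext a
    exact ⟨fun _ => trivial, fun _ => ⟨a.1, rfl⟩⟩
  rw [this]
  exact IsConstructible.univ

variable {X : Scheme.{u}} (F : EtModW.Mod Λ X)

theorem localStratum_of_good (U : X.Etale) (u : U.left)
    {M : Type (u + 1)} [AddCommGroup M] [Module Λ M] [Module.Finite Λ M]
    (φ : M →ₗ[Λ] EtModW.sect Λ F U) (C : Set U.left)
    (hC : IsLocallyConstructible C) (hu : u ∈ C)
    (h : ∀ c ∈ C, InjAt F φ c ∧ SurjAt F φ c) :
    ∃ W : X.Opens, U.hom u ∈ W ∧ LocalStratum (pr F) (W : Set X) (U.hom u) := by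
  obtain ⟨W, hW, huW, -⟩ : ∃ W : X.Opens, IsAffineOpen W ∧ U.hom u ∈ W ∧ W ≤ ⊤ :=
    exists_isAffineOpen_mem_and_subset (X := X) (U := (⊤ : X.Opens)) (x := U.hom u) (by trivial)
  refine ⟨W, huW, ?_⟩
  obtain ⟨V, hV, huV, hVW, hVu⟩ := exists_affine_shrink U.hom u W huW
  let f : V.toScheme ⟶ W.toScheme := U.hom.resLE W V hVW
  have hf : f ≫ W.ι = V.ι ≫ U.hom := U.hom.resLE_comp_ι hVW
  have hf' : ∀ a, W.ι (f a) = U.hom (V.ι a) := fun a =>
    congrArg (fun (q : V.toScheme ⟶ X) => q a) hf
  have : IsAffine V.toScheme := hV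
  have : IsAffine W.toScheme := hW
  have : AlgebraicGeometry.Etale f := inferInstance
  have hfo : IsOpenMap f := Cover.isOpenMap_of_etale f
  let a₀ : V.toScheme := ⟨u, huV⟩
  obtain ⟨T, hT1, hT2, hT3, hT4, hT5⟩ := ConsTop.exists_preimage_subset
    (isSpectralMap_of_quasiCompact f) (C := V.ι ⁻¹' C)
    (hC.preimage_of_isOpenEmbedding V.ι.isOpenEmbedding).isConstructible
    (D := Set.range f) hfo.isOpen_range (isCompact_range f.continuous) (b := f a₀) ⟨a₀, rfl⟩
    (by
      intro a ha
      have h1 : U.hom (V.ι a) = U.hom u := by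
        rw [← hf', ha, hf']
        rfl
      have h2 : V.ι a = u := hVu _ a.2 h1
      change V.ι a ∈ C
      rw [h2]
      exact hu)
  obtain ⟨T', g, hg, hr⟩ := Strata.exists_immersion (W.ι '' T)
    (hT1.image W.ι.isOpenEmbedding.isInducing (by
      exact W.ι.isOpenEmbedding.isOpen_range.isLocallyClosed))
  refine ⟨T', g, hg, ?_, ?_, ?_, ?_⟩
  · rw [hr]
    rintro _ ⟨w, -, rfl⟩
    exact w.2
  · rw [hr]
    exact ⟨f a₀, hT3, hf' a₀⟩
  · rw [hr]
    have h1 : (Subtype.val : ((W : Set X) : Type u) → X) ⁻¹'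
        ((Subtype.val : ((W : Set X) : Type u) → X) '' T) = T :=
      Set.preimage_image_eq _ Subtype.val_injective
    change IsConstructible ((Subtype.val : ((W : Set X) : Type u) → X) ⁻¹'
        ((Subtype.val : ((W : Set X) : Type u) → X) '' T))
    rw [h1]
    exact hT2
  · unfold pr
    rw [LFLC.isFTLC_iff]
    intro t
    have ht : g t ∈ W.ι '' T := hr ▸ ⟨t, rfl⟩
    obtain ⟨w, hw, hwt⟩ := ht
    obtain ⟨a, rfl⟩ := hT4 hw
    let V' : X.Etale := Scheme.Etale.mk (V.ι ≫ U.hom)
    let k : V' ⟶ U := MorphismProperty.Over.homMk V.ι rfl trivial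
    obtain ⟨z, hz1, hz2⟩ := Scheme.Pullback.exists_preimage_pullback (f := V'.hom) (g := g)
      a t ((hf' a).symm.trans hwt)
    refine ⟨(EtCoh.bc g).obj V', z, hz2, M, inferInstance, inferInstance, inferInstance,
      (eta g F V').comp (resHom k φ), fun z' => ?_⟩
    rw [injAt_eta_iff, surjAt_eta_iff, injAt_res_iff, surjAt_res_iff]
    apply h
    have h1 : f (fstBc g V' z') ∈ T := by
      have h2 : W.ι (f (fstBc g V' z')) ∈ Set.range g := by
        rw [hf']
        refine ⟨((EtCoh.bc g).obj V').hom z', ?_⟩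
        exact congrArg (fun (q : ((EtCoh.bc g).obj V').left ⟶ X) => q z')
          (pullback.condition (f := V'.hom) (g := g)).symm
      rw [hr] at h2
      obtain ⟨w', hw', hw''⟩ := h2
      rwa [← Subtype.val_injective hw'']
    exact hT5 h1

/-- Pointwise criterion for constructibility. -/
theorem isConstructible_of_good
    (h : ∀ x : X, ∃ (U : X.Etale) (u : U.left) (_ : U.hom u = x) (M : Type (u + 1))
      (_ : AddCommGroup M) (_ : Module Λ M) (_ : Module.Finite Λ M)
      (φ : M →ₗ[Λ] EtModW.sect Λ F U) (C : Set U.left),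
      IsLocallyConstructible C ∧ u ∈ C ∧ ∀ c ∈ C, InjAt F φ c ∧ SurjAt F φ c) :
    EtModW.IsConstructible Λ F := by
  refine isConstructible_of_local' F fun x => ?_
  obtain ⟨U, u, rfl, M, i1, i2, i3, φ, C, h1, h2, h3⟩ := h x
  exact localStratum_of_good F U u φ C h1 h2 h3

end Groth.Agent.Etcore.LCrit
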