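import Groth.Agent.Etcore.LSpread
import Groth.Agent.EtpbcA.ConsDescent

/-!
# Descent of constructibility of sheaves of `Λ`-modules (Noetherian `Λ`)

* `isConstructible_of_pull`: along surjective quasi-compact quasi-separated morphisms.
* `isConstructible_of_etale_cover`: along étale coverings.
-/

set_option autoImplicit false
universe u

open CategoryTheory CategoryTheory.Limits AlgebraicGeometry Opposite Topology

namespace Groth.Agent.Etcore.LDescent

open Groth.Agent.Etbase Groth.Agent.Etcore Groth.Agent.EtpbcA Groth.Agent.Etcore.LVan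
open Groth.Agent.Etcore.LPull Groth.Agent.Etcore.LPullComp Groth.Agent.Etcore.StrataGen
open Groth.Agent.Etcore.LCrit Groth.Agent.Etcore.LLocus Groth.Agent.Etcore.LSpread
open Groth.Agent.EtpbcA.ConsPull (fstBc fst_bc_map_apply exists_bc_point)

variable {Λ : Type (u + 1)} [CommRing Λ] [IsNoetherianRing Λ]

/-- Around every point a constructible sheaf pulled back along `f` gives a finitely generated module
of sections downstairs which is bijective on the germ at that point. -/
theorem exists_good_of_pull {X Y : Scheme.{u}} (f : X ⟶ Y) (F : EtModW.Mod Λ Y)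
    (hF : EtModW.IsConstructible Λ ((EtModW.pull Λ f).obj F)) (x : X) :
    ∃ (U : Y.Etale) (u : U.left) (_ : U.hom u = f x) (M : Type (u + 1)) (_ : AddCommGroup M)
      (_ : Module Λ M) (_ : Module.Finite Λ M) (φ : M →ₗ[Λ] EtModW.sect Λ F U),
      InjAt F φ u ∧ SurjAt F φ u := by
  obtain ⟨W, hxW, T, g, h1, h2, ⟨t, ht⟩, h3, h4⟩ := (isCons_iff_local' (pr_stable _)).1 hF x
  have h5 := pr_comp h4
  unfold pr at h5
  rw [LFLC.isFTLC_iff] at h5
  obtain ⟨V, v, hv, M, i1, i2, i3, φ, hφ⟩ := h5 t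
  have : Module.FinitePresentation Λ M := Module.finitePresentation_of_finite Λ M
  obtain ⟨U, φ', Q, a, b, q, hq, hab⟩ := exists_spread (g ≫ f) F v φ
  refine ⟨U, fstBc (g ≫ f) U (b.left q), ?_, M, i1, i2, i3, φ', ?_⟩
  · have e1 : U.hom (fstBc (g ≫ f) U (b.left q)) =
        (g ≫ f) (((EtCoh.bc (g ≫ f)).obj U).hom (b.left q)) :=
      congrArg (fun (r : ((EtCoh.bc (g ≫ f)).obj U).left ⟶ Y) => r (b.left q))
        (pullback.condition (f := U.hom) (g := g ≫ f))
    rw [e1, Cover.hom_apply, ← Cover.hom_apply a, hq, hv, ← ht]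
    rfl
  · have e2 : resHom b ((eta (g ≫ f) F U).comp φ') = resHom a φ := by
      ext m
      exact (hab m).symm
    rw [← injAt_eta_iff, ← surjAt_eta_iff, ← injAt_res_iff, ← surjAt_res_iff, e2,
      injAt_res_iff, surjAt_res_iff]
    exact hφ _

/-- Constructibility descends along surjective quasi-compact quasi-separated morphisms. -/
theorem isConstructible_of_pull {X Y : Scheme.{u}} (f : X ⟶ Y) [Surjective f] [QuasiCompact f]
    [QuasiSeparated f] (F : EtModW.Mod Λ Y)
    (hF : EtModW.IsConstructible Λ ((EtModW.pull Λ f).obj F)) : EtModW.IsConstructible Λ F := by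
  refine isConstructible_of_good F fun y => ?_
  obtain ⟨x, rfl⟩ := f.surjective y
  obtain ⟨U, u, hu, M, i1, i2, i3, φ, hφ⟩ := exists_good_of_pull f F hF x
  refine ⟨U, u, hu, M, i1, i2, i3, φ, {c | InjAt F φ c ∧ SurjAt F φ c}, ?_, hφ, fun c hc => hc⟩
  have h1 := isLocallyConstructible_good hF ((EtCoh.bc f).obj U) ((eta f F U).comp φ)
  have h2 : Surjective (fstBc f U) := inferInstanceAs (Surjective (pullback.fst U.hom f))
  have h3 : QuasiCompact (fstBc f U) := inferInstanceAs (QuasiCompact (pullback.fst U.hom f))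
  have h4 : QuasiSeparated (fstBc f U) := inferInstanceAs (QuasiSeparated (pullback.fst U.hom f))
  refine ConsDescent.isLocallyConstructible_of_surjective (fstBc f U) ?_
  have h5 : (fstBc f U) ⁻¹' {c | InjAt F φ c ∧ SurjAt F φ c} =
      {c | InjAt ((EtModW.pull Λ f).obj F) ((eta f F U).comp φ) c ∧
        SurjAt ((EtModW.pull Λ f).obj F) ((eta f F U).comp φ) c} := by
    ext c
    change (InjAt F φ (fstBc f U c) ∧ SurjAt F φ (fstBc f U c)) ↔ _
    rw [← injAt_eta_iff, ← surjAt_eta_iff]
    rfl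
  rw [h5]
  exact h1

/-- Constructibility is étale local. -/
theorem isConstructible_of_etale_cover {X : Scheme.{u}} (F : EtModW.Mod Λ X) {ι : Type*}
    (U : ι → Scheme.{u}) (f : ∀ i, U i ⟶ X) [∀ i, AlgebraicGeometry.Etale (f i)]
    (hU : ∀ x : X, ∃ i, x ∈ Set.range (f i))
    (h : ∀ i, EtModW.IsConstructible Λ ((EtModW.pull Λ (f i)).obj F)) :
    EtModW.IsConstructible Λ F := by
  have key : ∀ x : X, ∃ W : X.Opens, x ∈ W ∧
      EtModW.IsConstructible Λ ((EtModW.pull Λ W.ι).obj F) := by
    intro x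
    obtain ⟨i, y, rfl⟩ := hU x
    obtain ⟨W₀, hW₀, hxW₀, -⟩ : ∃ W : X.Opens, IsAffineOpen W ∧ f i y ∈ W ∧ W ≤ ⊤ :=
      exists_isAffineOpen_mem_and_subset (X := X) (U := (⊤ : X.Opens)) (x := f i y) (by trivial)
    obtain ⟨V, hV, hxV, hVW⟩ : ∃ V : (U i).Opens, IsAffineOpen V ∧ y ∈ V ∧
        V ≤ (f i) ⁻¹ᵁ W₀ :=
      exists_isAffineOpen_mem_and_subset (X := U i) (U := (f i) ⁻¹ᵁ W₀) (x := y) hxW₀
    let W : X.Opens := ⟨f i '' V, (Cover.isOpenMap_of_etale (f i)) V V.isOpen⟩
    have hVW' : V ≤ (f i) ⁻¹ᵁ W := fun v hv => ⟨v, hv, rfl⟩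
    have hWW₀ : W ≤ W₀ := by
      rintro _ ⟨v, hv, rfl⟩
      exact hVW hv
    let k : V.toScheme ⟶ W.toScheme := (f i).resLE W V hVW'
    have hk : k ≫ W.ι = V.ι ≫ f i := (f i).resLE_comp_ι hVW'
    have : IsAffine V.toScheme := hV
    have : IsAffine W₀.toScheme := hW₀
    have hs : Surjective k := by
      constructor
      rintro ⟨_, ⟨v, hv, rfl⟩⟩
      refine ⟨⟨v, hv⟩, ?_⟩
      apply W.ι.isOpenEmbedding.injective
      have := congrArg (fun (q : V.toScheme ⟶ X) => q (⟨v, hv⟩ : V.toScheme)) hk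
      exact this
    have hsep : W.toScheme.IsSeparated := by
      have : IsOpenImmersion (X.homOfLE hWW₀) := inferInstance
      have h2 : IsSeparated (X.homOfLE hWW₀) := inferInstance
      have h3 : W₀.toScheme.IsSeparated := inferInstance
      constructor
      have : IsSeparated (X.homOfLE hWW₀ ≫ terminal.from _) := inferInstance
      rwa [show X.homOfLE hWW₀ ≫ terminal.from _ = terminal.from _ from
        terminal.hom_ext _ _] at this
    have hqc : QuasiCompact k := by
      have : CompactSpace V.toScheme := inferInstance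
      have : QuasiSeparatedSpace W.toScheme := inferInstance
      exact quasiCompact_of_compactSpace k
    have hqs : QuasiSeparated k := by
      have : QuasiSeparatedSpace V.toScheme := inferInstance
      infer_instance
    refine ⟨W, ⟨y, hxV, rfl⟩, ?_⟩
    apply isConstructible_of_pull k
    have e : (EtModW.pull Λ W.ι ⋙ EtModW.pull Λ k) ≅ (EtModW.pull Λ (f i) ⋙ EtModW.pull Λ V.ι) :=
      pullComp Λ k W.ι ≪≫ pullCongr Λ hk ≪≫ (pullComp Λ V.ι (f i)).symm
    exact isConstructible_of_iso (e.symm.app F) (isConstructible_pull V.ι _ (h i))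
  choose W hW1 hW2 using key
  exact isConstructible_of_open_cover F W (fun x => ⟨x, hW1 x⟩) hW2

end Groth.Agent.Etcore.LDescent
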