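import Groth.Agent.Etcore.LSpread
import Groth.Agent.EtpbcA.FinPush
import Mathlib.Algebra.Group.Shrink
import Mathlib.Data.Countable.Small

/-!
# Constructible sheaves of `Λ`-modules for a finite ring `Λ`

* `isConstructible_iff_ab`: if `Λ` is finite, a sheaf of `Λ`-modules is constructible iff the
  underlying abelian sheaf is.
-/

set_option autoImplicit false
universe u

open CategoryTheory CategoryTheory.Limits AlgebraicGeometry Opposite Topology

namespace Groth.Agent.Etcore.LFinite

open Groth.Agent.Etbase Groth.Agent.Etcore Groth.Agent.EtpbcA Groth.Agent.Etcore.LVan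
open Groth.Agent.Etcore.LCrit Groth.Agent.Etcore.LLocus Groth.Agent.Etcore.LSpread
open Groth.Agent.EtpbcA.ConsVan (exists_common_finite)

variable {Λ : Type (u + 1)} [CommRing Λ] {X : Scheme.{u}} (F : EtModW.Mod Λ X)

/-- The submodule of sections vanishing near a point. -/
def vanSub {U : X.Etale} (x : U.left) : Submodule Λ (EtModW.sect Λ F U) where
  carrier := {s | Van F s x}
  add_mem' := fun h h' => h.add h'
  zero_mem' := Van.zero x
  smul_mem' := fun a _ h => h.smul a

variable {F}

/-- If an additive map from a finite group is bijective on germs at `x` and `Λ` is finite, then near `x`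
it comes from a linear map of a finite module. -/
theorem exists_linear_of_additive [Finite Λ] {U : X.Etale} (x : U.left) {M : Type*}
    [AddCommGroup M] [Finite M] (φ : M →+ EtCoh.sect (ab F) U)
    (hφ : ConsVan.InjAt (ab F) φ x ∧ ConsVan.SurjAt (ab F) φ x) :
    ∃ (N : Type (u + 1)) (_ : AddCommGroup N) (_ : Module Λ N) (_ : Finite N)
      (V : X.Etale) (g : V ⟶ U) (v : V.left) (_ : g.left v = x)
      (ψ : N →ₗ[Λ] EtModW.sect Λ F V) (e : N ≃+ M), ∀ n, ψ n = res F g (φ (e n)) := by
  classical
  let φ' : M →+ EtModW.sect Λ F U := φ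
  let q : EtModW.sect Λ F U →+ (EtModW.sect Λ F U ⧸ vanSub F x) :=
    (Submodule.mkQ (vanSub F x)).toAddMonoidHom
  let p : M →+ (EtModW.sect Λ F U ⧸ vanSub F x) := q.comp φ'
  have hq : ∀ s t : EtModW.sect Λ F U, q s = q t ↔ Van F (s - t) x := fun s t =>
    Submodule.Quotient.eq _
  have hp : Function.Bijective p := by
    constructor
    · rw [injective_iff_map_eq_zero]
      intro m hm
      apply hφ.1
      have h1 : q (φ' m) = q 0 := by rw [map_zero]; exact hm
      have h2 := (hq _ _).1 h1
      rwa [sub_zero] at h2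
    · intro t
      obtain ⟨s, rfl⟩ := Submodule.mkQ_surjective _ t
      obtain ⟨m, hm⟩ := hφ.2 U (𝟙 U) x rfl s
      refine ⟨m, ?_⟩
      rw [ConsVan.res_id] at hm
      exact ((hq s (φ' m)).2 hm).symm
  let e : M ≃+ (EtModW.sect Λ F U ⧸ vanSub F x) := AddEquiv.ofBijective p hp
  have : Finite (EtModW.sect Λ F U ⧸ vanSub F x) := Finite.of_equiv _ e.toEquiv
  let σ : (EtModW.sect Λ F U ⧸ vanSub F x) →+ EtModW.sect Λ F U :=
    φ'.comp e.symm.toAddMonoidHom
  have hσ : ∀ t, q (σ t) = t := fun t => e.apply_symm_apply t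
  obtain ⟨V, g, v, hv, hg⟩ := exists_common_finite
    (ι := Λ × (EtModW.sect Λ F U ⧸ vanSub F x)) x
    (fun m V g => res F g (m.1 • σ m.2 - σ (m.1 • m.2)) = 0)
    (fun m V W g k h => by rw [res_comp, h, map_zero])
    (fun m => by
      have : Van F (m.1 • σ m.2 - σ (m.1 • m.2)) x := by
        rw [← hq]
        have h1 : q (m.1 • σ m.2) = m.1 • q (σ m.2) :=
          (Submodule.mkQ (vanSub F x)).map_smul _ _
        rw [h1, hσ, hσ]
      obtain ⟨V, g, v, hv, hg⟩ := this
      exact ⟨V, g, v, hv, hg⟩)
  refine ⟨_, inferInstance, inferInstance, this, V, g, v, hv,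
    { toFun := fun t => res F g (σ t)
      map_add' := fun a b => by rw [map_add, map_add]
      map_smul' := fun c a => by
        have := hg (c, a)
        rw [map_sub, sub_eq_zero, map_smul] at this
        exact this.symm }, e.symm, fun n => rfl⟩

/-- For a finite ring `Λ`, constructibility of a sheaf of modules is constructibility of the
underlying abelian sheaf. -/
theorem isConstructible_iff_ab [Finite Λ] (F : EtModW.Mod Λ X) :
    EtModW.IsConstructible Λ F ↔ EtPBC.IsConstructible (ab F) := by
  have : IsNoetherianRing Λ := inferInstance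
  constructor
  · intro hF
    refine ConsCrit.isConstructible_of_good _ fun x => ?_
    obtain ⟨U, u, hu, M, i1, i2, i3, φ, C, h1, h2, h3⟩ := (isConstructible_iff_good F).1 hF x
    have : Finite M := Module.finite_of_finite Λ
    have : Small.{0} M := Countable.toSmall M
    let e' : Shrink.{0} M ≃+ M := Shrink.addEquiv
    have : Finite (Shrink.{0} M) := Finite.of_equiv _ e'.symm.toEquiv
    refine ⟨U, u, hu, Shrink.{0} M, inferInstance, inferInstance,
      (addHom φ).comp e'.toAddMonoidHom, C, h1, h2, fun c hc => ⟨?_, ?_⟩⟩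
    · intro m hm
      have := (h3 c hc).1 (e' m) hm
      rwa [EmbeddingLike.map_eq_zero_iff] at this
    · intro V g v hv t
      obtain ⟨m, hm⟩ := (h3 c hc).2 V g v hv t
      obtain ⟨m, rfl⟩ := e'.surjective m
      exact ⟨m, hm⟩
  · intro hF
    refine isConstructible_of_good F fun x => ?_
    obtain ⟨U, u, hu, M, i1, i2, φ, hφ⟩ := FinPush.exists_good (ab F) hF x
    obtain ⟨N, j1, j2, j3, V, g, v, hv, ψ, e, hψ⟩ := exists_linear_of_additive u φ hφ
    have key : ∀ c : V.left, (InjAt F ψ c ∧ SurjAt F ψ c) ↔
        (ConsVan.InjAt (ab F) (ConsVan.resHom g φ) c ∧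
          ConsVan.SurjAt (ab F) (ConsVan.resHom g φ) c) := by
      intro c
      constructor
      · rintro ⟨h1, h2⟩
        constructor
        · intro m hm
          obtain ⟨n, rfl⟩ := e.surjective m
          have h3 : Van F (ψ n) c := by
            rw [hψ]
            exact hm
          rw [h1 n h3, map_zero]
        · intro W k w hw t
          obtain ⟨n, hn⟩ := h2 W k w hw t
          refine ⟨e n, ?_⟩
          rw [hψ] at hn
          exact hn
      · rintro ⟨h1, h2⟩
        constructor
        · intro n hn
          rw [hψ] at hn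
          have := h1 (e n) hn
          rwa [EmbeddingLike.map_eq_zero_iff] at this
        · intro W k w hw t
          obtain ⟨m, hm⟩ := h2 W k w hw t
          obtain ⟨n, rfl⟩ := e.surjective m
          refine ⟨n, ?_⟩
          rw [hψ]
          exact hm
    refine ⟨V, v, ?_, N, j1, j2, inferInstance, ψ,
      {c | ConsVan.InjAt (ab F) (ConsVan.resHom g φ) c ∧
        ConsVan.SurjAt (ab F) (ConsVan.resHom g φ) c},
      ConsLocus.isLocallyConstructible_good hF V _, ?_, fun c hc => (key c).2 hc⟩
    · rw [← hu, ← hv]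
      exact (Cover.hom_apply g v).symm
    · refine ⟨?_, ?_⟩
      · rw [ConsVan.injAt_res_iff, hv]
        exact hφ.1
      · rw [ConsVan.surjAt_res_iff, hv]
        exact hφ.2

end Groth.Agent.Etcore.LFinite
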