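import Groth.Agent.Etcore.LLocus
import Groth.Agent.EtpbcA.ConsSpread

/-!
# Spreading out linear maps to sections of an inverse image; pointwise criterion (equivalence)

* `exists_eta_finite`, `exists_spread`: for `f : X ⟶ Y`, `F` on `Y`, `M` of finite presentation and
  `φ : M →ₗ[Λ] (f^{-1}F)(V)`, near every point of `V` the map `φ` is the restriction of `η ∘ φ'` for some
  `φ' : M →ₗ[Λ] F(U)`.
* `exists_good`, `isConstructible_iff_good`.
-/

set_option autoImplicit false
universe u

open CategoryTheory CategoryTheory.Limits AlgebraicGeometry Opposite Topology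

namespace Groth.Agent.Etcore.LSpread

open Groth.Agent.Etbase Groth.Agent.Etcore Groth.Agent.EtpbcA Groth.Agent.Etcore.LVan
open Groth.Agent.Etcore.LPull Groth.Agent.Etcore.LPullComp Groth.Agent.Etcore.StrataGen
open Groth.Agent.Etcore.LCrit Groth.Agent.Etcore.LLocus
open Groth.Agent.EtpbcA.ConsPull (fstBc fst_bc_map_apply exists_bc_point)
open Groth.Agent.EtpbcA.ConsVan (exists_common_finite)

variable {Λ : Type (u + 1)} [CommRing Λ]

section

variable {X Y : Scheme.{u}} (f : X ⟶ Y) (F : EtModW.Mod Λ Y)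

/-- Finitely many sections of `f^{-1}F` near a point come from sections of `F` over one étale
`U`. -/
theorem exists_eta_finite {V : X.Etale} (v : V.left) {S : Type*} [Finite S]
    (σ : S → EtModW.sect Λ ((EtModW.pull Λ f).obj F) V) :
    ∃ (U : Y.Etale) (s : S → EtModW.sect Λ F U) (W : X.Etale) (a : W ⟶ V)
      (b : W ⟶ (EtCoh.bc f).obj U) (w : W.left), a.left w = v ∧
      ∀ i, res ((EtModW.pull Λ f).obj F) a (σ i) =
        res ((EtModW.pull Λ f).obj F) b (eta f F U (s i)) := by
  classical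
  obtain ⟨W, a, w, hw, ha⟩ := exists_common_finite (ι := S) v
    (fun i W a => ∃ (U : Y.Etale) (s : EtModW.sect Λ F U) (b : W ⟶ (EtCoh.bc f).obj U),
      res ((EtModW.pull Λ f).obj F) a (σ i) = res ((EtModW.pull Λ f).obj F) b (eta f F U s))
    (fun i W W' g k h => by
      obtain ⟨U, s, b, hb⟩ := h
      exact ⟨U, s, k ≫ b, by rw [res_comp, res_comp, hb]⟩)
    (fun i => by
      obtain ⟨U, s, W, a, b, w, hw, hab⟩ := exists_eta f F (σ i) v
      exact ⟨W, a, w, hw, U, s, b, hab⟩)
  choose U s b hb using ha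
  have hcof : IsCofiltered (StructuredArrow W (EtCoh.bc f)) :=
    RepresentablyFlat.cofiltered (F := EtCoh.bc f) W
  have := Fintype.ofFinite S
  obtain ⟨T, hT⟩ := IsCofiltered.inf_objs_exists
    (Finset.image (fun i => StructuredArrow.mk (b i)) (Finset.univ : Finset S))
  have k : ∀ i, T ⟶ StructuredArrow.mk (b i) := fun i =>
    (hT (Finset.mem_image.2 ⟨i, Finset.mem_univ i, rfl⟩)).some
  let τ : W ⟶ (EtCoh.bc f).obj T.right := T.hom
  let c : ∀ i, T.right ⟶ U i := fun i => (k i).right
  have hc : ∀ i, τ ≫ (EtCoh.bc f).map (c i) = b i := fun i => StructuredArrow.w (k i)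
  refine ⟨T.right, fun i => res F (c i) (s i), W, a, τ, w, hw, fun i => ?_⟩
  rw [hb i, ← res_eta, ← res_comp, hc]

/-- Spreading out linear maps from modules of finite presentation. -/
theorem exists_spread {V : X.Etale} (v : V.left) {M : Type*} [AddCommGroup M] [Module Λ M]
    [Module.FinitePresentation Λ M]
    (φ : M →ₗ[Λ] EtModW.sect Λ ((EtModW.pull Λ f).obj F) V) :
    ∃ (U : Y.Etale) (φ' : M →ₗ[Λ] EtModW.sect Λ F U) (W : X.Etale) (a : W ⟶ V)
      (b : W ⟶ (EtCoh.bc f).obj U) (w : W.left), a.left w = v ∧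
      ∀ m, res ((EtModW.pull Λ f).obj F) a (φ m) =
        res ((EtModW.pull Λ f).obj F) b (eta f F U (φ' m)) := by
  classical
  obtain ⟨n, π, hπ⟩ := Module.Finite.exists_fin' Λ M
  obtain ⟨S, hS⟩ : (LinearMap.ker π).FG := Module.FinitePresentation.fg_ker π hπ
  obtain ⟨U, s, W, a, b, w, hw, hab⟩ := exists_eta_finite f F v
    (fun i : Fin n => φ (π (Pi.single i 1)))
  let L : (Fin n → Λ) →ₗ[Λ] EtModW.sect Λ F U := Fintype.linearCombination Λ s
  have hL : ∀ x, res ((EtModW.pull Λ f).obj F) a (φ (π x)) =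
      res ((EtModW.pull Λ f).obj F) b (eta f F U (L x)) := by
    intro x
    have : ((res ((EtModW.pull Λ f).obj F) a).comp φ).comp π =
        ((res ((EtModW.pull Λ f).obj F) b).comp (eta f F U)).comp L := by
      refine LinearMap.pi_ext' fun i => LinearMap.ext_ring ?_
      change res ((EtModW.pull Λ f).obj F) a (φ (π (Pi.single i 1))) =
        res ((EtModW.pull Λ f).obj F) b (eta f F U (L (Pi.single i 1)))
      rw [hab]
      congr 2
      simp [L, Fintype.linearCombination_apply_single]
    exact LinearMap.congr_fun this x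
  obtain ⟨U', c, u', hu', hc⟩ := exists_common_finite (ι := S) (fstBc f U (b.left w))
    (fun m V g => res F g (L m) = 0)
    (fun m V W g k h => by rw [res_comp, h, map_zero])
    (fun m => by
      have : Van F (L m) (fstBc f U (b.left w)) := by
        rw [← van_eta_iff, ← van_res_iff]
        apply van_zero_of_eq
        have hm : π m = 0 := by
          have : (m : Fin n → Λ) ∈ LinearMap.ker π := hS ▸ Submodule.subset_span m.2
          exact this
        rw [← hL, hm, map_zero, map_zero]
      obtain ⟨V, g, v, hv, hg⟩ := this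
      exact ⟨V, g, v, hv, hg⟩)
  let L' : (Fin n → Λ) →ₗ[Λ] EtModW.sect Λ F U' := (res F c).comp L
  have hL' : LinearMap.ker π ≤ LinearMap.ker L' := by
    rw [← hS, Submodule.span_le]
    intro x hx
    exact hc ⟨x, hx⟩
  let φ' : M →ₗ[Λ] EtModW.sect Λ F U' :=
    ((LinearMap.ker π).liftQ L' hL').comp (π.quotKerEquivOfSurjective hπ).symm.toLinearMap
  have hφ : ∀ x, φ' (π x) = L' x := by
    intro x
    change (LinearMap.ker π).liftQ L' hL' ((π.quotKerEquivOfSurjective hπ).symm (π x)) = L' x
    have : (π.quotKerEquivOfSurjective hπ).symm (π x) = Submodule.Quotient.mk x := by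
      rw [LinearEquiv.symm_apply_eq]
      rfl
    rw [this]
    rfl
  obtain ⟨z, hz1, hz2⟩ := exists_bc_point f c u' (b.left w) hu'
  obtain ⟨P, α, β, p, hαβ, hα, hβ⟩ := EtSite.exists_pullback b ((EtCoh.bc f).map c) w z hz2.symm
  refine ⟨U', φ', P, α ≫ a, β, p, ?_, fun m => ?_⟩
  · rw [← hw, ← hα]
    rfl
  · obtain ⟨x, rfl⟩ := hπ m
    rw [res_comp, hL, ← res_comp, hαβ, res_comp, res_eta, hφ]
    rfl

end

section

variable [IsNoetherianRing Λ] {X : Scheme.{u}} (F : EtModW.Mod Λ X)

/-- Around every point a constructible sheaf has a finitely generated module of sections bijective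
on the germ. -/
theorem exists_good (hF : EtModW.IsConstructible Λ F) (x : X) :
    ∃ (U : X.Etale) (u : U.left) (_ : U.hom u = x) (M : Type (u + 1)) (_ : AddCommGroup M)
      (_ : Module Λ M) (_ : Module.Finite Λ M) (φ : M →ₗ[Λ] EtModW.sect Λ F U),
      InjAt F φ u ∧ SurjAt F φ u := by
  obtain ⟨W, hxW, T, g, h1, h2, ⟨t, ht⟩, h3, h4⟩ := (isCons_iff_local' (pr_stable F)).1 hF x
  unfold pr at h4
  rw [LFLC.isFTLC_iff] at h4
  obtain ⟨V, v, hv, M, i1, i2, i3, φ, hφ⟩ := h4 t
  have : Module.FinitePresentation Λ M := Module.finitePresentation_of_finite Λ M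
  obtain ⟨U, φ', Q, a, b, q, hq, hab⟩ := exists_spread g F v φ
  refine ⟨U, fstBc g U (b.left q), ?_, M, i1, i2, i3, φ', ?_⟩
  · have e1 : U.hom (fstBc g U (b.left q)) =
        g (((EtCoh.bc g).obj U).hom (b.left q)) :=
      congrArg (fun (r : ((EtCoh.bc g).obj U).left ⟶ X) => r (b.left q))
        (pullback.condition (f := U.hom) (g := g))
    rw [e1, Cover.hom_apply, ← Cover.hom_apply a, hq, hv, ← ht]
  · have e2 : resHom b ((eta g F U).comp φ') = resHom a φ := by
      ext m
      exact (hab m).symm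
    rw [← injAt_eta_iff, ← surjAt_eta_iff, ← injAt_res_iff, ← surjAt_res_iff, e2,
      injAt_res_iff, surjAt_res_iff]
    exact hφ _

/-- The pointwise criterion for constructibility over a Noetherian ring. -/
theorem isConstructible_iff_good : EtModW.IsConstructible Λ F ↔
    ∀ x : X, ∃ (U : X.Etale) (u : U.left) (_ : U.hom u = x) (M : Type (u + 1))
      (_ : AddCommGroup M) (_ : Module Λ M) (_ : Module.Finite Λ M)
      (φ : M →ₗ[Λ] EtModW.sect Λ F U) (C : Set U.left),
      IsLocallyConstructible C ∧ u ∈ C ∧ ∀ c ∈ C, InjAt F φ c ∧ SurjAt F φ c := by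
  refine ⟨fun hF x => ?_, isConstructible_of_good F⟩
  obtain ⟨U, u, hu, M, i1, i2, i3, φ, hφ⟩ := exists_good F hF x
  exact ⟨U, u, hu, M, i1, i2, i3, φ, _, isLocallyConstructible_good hF U φ, hφ, fun _ h => h⟩

end

end Groth.Agent.Etcore.LSpread
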