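import Groth.Agent.Etcore.LFreePull
import Groth.Agent.Etcore.LSpread
import Groth.Agent.Etrest.ModAb
import Groth.Agent.CurvesA.ArtinSchreier

/-!
# Epimorphisms onto sheaves of `Λ`-modules from sums of `Λ[U]`

* `epi_iff`, `mono_iff`, `exact_of_local`: local criteria.
* `epi_map`: `Λ[V] ⟶ Λ[U]` is epi if `V ⟶ U` is surjective; `mono_map`: mono if `V ⟶ U` is.
* `epi_of_generates`: a morphism through which generators factor is epi.
* `exists_epi_coproduct`: every sheaf is a quotient of a coproduct of `Λ[U]`, `U` affine.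
* `exists_epi_biproduct`: a constructible sheaf on a qcqs scheme (Noetherian `Λ`) is a quotient of
  a finite direct sum of `Λ[U]`, `U` affine.
-/

set_option autoImplicit false
universe u

open CategoryTheory CategoryTheory.Limits AlgebraicGeometry Opposite

namespace Groth.Agent.Etcore.LFreeGen

open Groth.Agent.Etbase Groth.Agent.Etcore Groth.Agent.EtpbcA Groth.Agent.Etcore.LVan
open Groth.Agent.Etcore.LFree Groth.Agent.Etcore.LPull Groth.Agent.Etcore.LFreeGerm
open Groth.Agent.Etcore.LFreePull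

variable {Λ : Type (u + 1)} [CommRing Λ] {X : Scheme.{u}}

section criteria

variable {F G : EtModW.Mod Λ X} (α : F ⟶ G)

theorem epi_iff_ab : Epi α ↔ Epi (abMap α) := by
  constructor
  · intro h
    exact inferInstanceAs (Epi ((Etrest.ModAb.ab Λ X).map α))
  · intro h
    exact (Etrest.ModAb.ab Λ X).epi_of_epi_map h

theorem mono_iff_ab : Mono α ↔ Mono (abMap α) := by
  constructor
  · intro h
    exact inferInstanceAs (Mono ((Etrest.ModAb.ab Λ X).map α))
  · intro h
    exact (Etrest.ModAb.ab Λ X).mono_of_mono_map h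

/-- A morphism is epi iff it is locally surjective. -/
theorem epi_iff : Epi α ↔ ∀ (U : X.Etale) (t : EtModW.sect Λ G U) (x : U.left),
    ∃ (V : X.Etale) (g : V ⟶ U) (v : V.left) (s : EtModW.sect Λ F V), g.left v = x ∧
      ev α V s = res G g t := by
  rw [epi_iff_ab, Dix.EtaleSieve.epi_iff]
  constructor
  · intro h U t x
    obtain ⟨V, g, ⟨v, hv⟩, s, hs⟩ := h U t x
    exact ⟨V, g, v, s, hv, hs⟩
  · intro h U t x
    obtain ⟨V, g, v, s, hv, hs⟩ := h U t x
    exact ⟨V, g, ⟨v, hv⟩, s, hs⟩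

/-- A morphism is mono iff it is injective on sections. -/
theorem mono_iff : Mono α ↔ ∀ (U : X.Etale) (s : EtModW.sect Λ F U), ev α U s = 0 → s = 0 := by
  rw [mono_iff_ab]
  constructor
  · intro h U s hs
    have h1 : Mono ((sheafToPresheaf X.smallEtaleTopology AddCommGrpCat.{u + 1}).map (abMap α)) :=
      inferInstance
    have h2 : Mono (((sheafToPresheaf X.smallEtaleTopology AddCommGrpCat.{u + 1}).map
      (abMap α)).app (op U)) := inferInstance
    exact (injective_iff_map_eq_zero _).1 ((AddCommGrpCat.mono_iff_injective _).1 h2) s hs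
  · intro h
    exact CurvesA.ArtinSchreier.mono_of_injective _ h

/-- Local criterion for exactness. -/
theorem exact_of_local (S : ShortComplex (EtModW.Mod Λ X))
    (h : ∀ (U : X.Etale) (s : EtModW.sect Λ S.X₂ U), ev S.g U s = 0 →
      ∀ x : U.left, ∃ (V : X.Etale) (g : V ⟶ U) (v : V.left) (t : EtModW.sect Λ S.X₁ V),
        g.left v = x ∧ ev S.f V t = res S.X₂ g s) : S.Exact := by
  rw [← ShortComplex.exact_map_iff_of_faithful S (Etrest.ModAb.ab Λ X)]
  apply CurvesA.ArtinSchreier.exact_of_local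
  intro U s hs x
  obtain ⟨V, g, v, t, hv, ht⟩ := h U s hs x
  exact ⟨V, g, ⟨v, hv⟩, t, ht⟩

/-- Local lifts along exact sequences. -/
theorem local_of_exact {S : ShortComplex (EtModW.Mod Λ X)} (hS : S.Exact) (U : X.Etale)
    (s : EtModW.sect Λ S.X₂ U) (hs : ev S.g U s = 0) (x : U.left) :
    ∃ (V : X.Etale) (g : V ⟶ U) (v : V.left) (t : EtModW.sect Λ S.X₁ V),
        g.left v = x ∧ ev S.f V t = res S.X₂ g s := by
  let k : LM Λ U ⟶ S.X₂ := desc s
  have hk : k ≫ S.g = 0 := by
    rw [desc_comp, hs]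
    apply hom_ext
    rw [desc_gen, zero_ev]
  let q : LM Λ U ⟶ kernel S.g := kernel.lift S.g k hk
  have he : Epi (kernel.lift S.g S.f S.zero) := S.exact_iff_epi_kernel_lift.1 hS
  obtain ⟨V, g, v, t, hv, ht⟩ := (epi_iff _).1 he U (ev q U (gen Λ U)) x
  refine ⟨V, g, v, t, hv, ?_⟩
  have h1 := congrArg (fun β => ev β V t) (kernel.lift_ι S.g S.f S.zero)
  have h2 := congrArg (ev (kernel.ι S.g) V) ht
  have h3 := congrArg (fun β => ev β U (gen Λ U)) (kernel.lift_ι S.g k hk)
  refine h1.symm.trans (h2.trans ?_)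
  rw [← res_ev]
  refine congrArg (res S.X₂ g) (h3.trans (desc_gen s))

end criteria

/-- The section `t` is locally around `x` in the range of `α`. -/
def LocRange {F G : EtModW.Mod Λ X} (α : F ⟶ G) {U : X.Etale} (t : EtModW.sect Λ G U)
    (x : U.left) : Prop :=
  ∃ (V : X.Etale) (g : V ⟶ U) (v : V.left) (s : EtModW.sect Λ F V), g.left v = x ∧
      ev α V s = res G g t

section LocRange

variable {F G : EtModW.Mod Λ X} {α : F ⟶ G}

theorem LocRange.of_ev {U : X.Etale} (s : EtModW.sect Λ F U) (x : U.left) :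
    LocRange α (ev α U s) x := ⟨U, 𝟙 U, x, s, rfl, (res_id _ _).symm⟩

theorem LocRange.zero {U : X.Etale} (x : U.left) : LocRange α (0 : EtModW.sect Λ G U) x := by
  have := LocRange.of_ev (α := α) (0 : EtModW.sect Λ F U) x
  rwa [_root_.map_zero] at this

theorem LocRange.res {U V : X.Etale} (g : V ⟶ U) (v : V.left) {t : EtModW.sect Λ G U}
    (h : LocRange α t (g.left v)) : LocRange α (LVan.res G g t) v := by
  obtain ⟨W, k, w, s, hw, hk⟩ := h
  obtain ⟨P, a, b, p, hab, ha, hb⟩ := EtSite.exists_pullback g k v w hw.symm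
  refine ⟨P, a, p, LVan.res F b s, ha, ?_⟩
  rw [← res_ev, hk, ← res_comp, ← res_comp, hab]

theorem LocRange.of_res {U V : X.Etale} (g : V ⟶ U) (v : V.left) {t : EtModW.sect Λ G U}
    (h : LocRange α (LVan.res G g t) v) : LocRange α t (g.left v) := by
  obtain ⟨W, k, w, s, hw, hk⟩ := h
  refine ⟨W, k ≫ g, w, s, ?_, ?_⟩
  · rw [← hw]
    rfl
  · rw [res_comp, hk]

theorem LocRange.add {U : X.Etale} {s t : EtModW.sect Λ G U} {x : U.left}
    (hs : LocRange α s x) (ht : LocRange α t x) : LocRange α (s + t) x := by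
  obtain ⟨V, g, v, a, rfl, hg⟩ := hs
  obtain ⟨W, k, w, b, rfl, hk⟩ := ht.res g v
  refine ⟨W, k ≫ g, w, LVan.res F k a + b, rfl, ?_⟩
  rw [_root_.map_add, _root_.map_add, res_comp, res_comp, hk, ← hg, ← res_ev]

theorem LocRange.smul (c : Λ) {U : X.Etale} {t : EtModW.sect Λ G U} {x : U.left}
    (ht : LocRange α t x) : LocRange α (c • t) x := by
  obtain ⟨V, g, v, a, rfl, hg⟩ := ht
  exact ⟨V, g, v, c • a, rfl, by rw [map_smul, map_smul, hg]⟩

theorem LocRange.of_mem_span {U : X.Etale} {x : U.left} {S : Set (EtModW.sect Λ G U)}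
    (hS : ∀ s ∈ S, LocRange α s x) {t : EtModW.sect Λ G U} (ht : t ∈ Submodule.span Λ S) :
    LocRange α t x := by
  induction ht using Submodule.span_induction with
  | mem s hs => exact hS s hs
  | zero => exact LocRange.zero x
  | add s t _ _ h1 h2 => exact h1.add h2
  | smul c s _ h => exact h.smul c

theorem epi_iff_locRange : Epi α ↔ ∀ (U : X.Etale) (t : EtModW.sect Λ G U) (x : U.left),
    LocRange α t x := epi_iff α

/-- A morphism through which local generators factor locally is epi. -/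
theorem epi_of_generates {ι : Type*} (U : ι → X.Etale) (s : ∀ i, EtModW.sect Λ G (U i))
    (h1 : ∀ i x, LocRange α (s i) x)
    (h2 : ∀ (V : X.Etale) (t : EtModW.sect Λ G V) (v : V.left), ∃ (W : X.Etale) (g : W ⟶ V)
      (w : W.left), g.left w = v ∧ LVan.res G g t ∈
        Submodule.span Λ {y | ∃ (i : ι) (a : W ⟶ U i), y = LVan.res G a (s i)}) :
    Epi α := by
  rw [epi_iff_locRange]
  intro V t v
  obtain ⟨W, g, w, rfl, h⟩ := h2 V t v
  apply LocRange.of_res
  refine LocRange.of_mem_span ?_ h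
  rintro _ ⟨i, a, rfl⟩
  exact (h1 i _).res a w

/-- A morphism to `Λ[U]` is epi iff the universal section is locally in the range. -/
theorem epi_toLM_iff {U : X.Etale} (β : F ⟶ LM Λ U) :
    Epi β ↔ ∀ x, LocRange β (gen Λ U) x := by
  refine ⟨fun h x => epi_iff_locRange.1 h _ _ _, fun h => ?_⟩
  refine epi_of_generates (fun _ : Unit => U) (fun _ => gen Λ U) (fun _ => h) ?_
  intro V t v
  obtain ⟨W, g, w, c, hw, hc⟩ := exists_sec U t v
  refine ⟨W, g, w, hw, ?_⟩
  rw [hc, sec_eq_sum]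
  refine Submodule.sum_mem _ fun a _ => Submodule.smul_mem _ _ (Submodule.subset_span ?_)
  exact ⟨(), a, rfl⟩

end LocRange

/-- `Λ[V] ⟶ Λ[U]` is epi if `V ⟶ U` is surjective. -/
theorem epi_map {U V : X.Etale} (g : V ⟶ U) (hg : Function.Surjective g.left) :
    Epi (map (Λ := Λ) g) := by
  rw [epi_toLM_iff]
  intro x
  obtain ⟨v, rfl⟩ := hg x
  exact ⟨V, g, v, gen Λ V, rfl, map_gen g⟩

/-- Jointly surjective families give jointly epimorphic families. -/
theorem epi_of_cover {ι : Type*} {U : X.Etale} (V : ι → X.Etale) (g : ∀ i, V i ⟶ U)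
    (hg : ∀ x : U.left, ∃ i, x ∈ Set.range (g i).left) {F : EtModW.Mod Λ X} (β : F ⟶ LM Λ U)
    (hβ : ∀ i, ∃ q : LM Λ (V i) ⟶ F, q ≫ β = map (g i)) : Epi β := by
  rw [epi_toLM_iff]
  intro x
  obtain ⟨i, v, rfl⟩ := hg x
  obtain ⟨q, hq⟩ := hβ i
  refine ⟨V i, g i, v, ev q (V i) (gen Λ (V i)), rfl, ?_⟩
  rw [← comp_ev, hq, map_gen]

/-- `Λ[V] ⟶ Λ[U]` is mono if `V ⟶ U` is. -/
theorem mono_map {U V : X.Etale} (g : V ⟶ U) [Mono g] : Mono (map (Λ := Λ) g) := by
  rw [mono_iff]
  intro W s hs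
  refine eq_zero_of_van s fun x => ?_
  obtain ⟨W', k, w, c, hw, hc⟩ := exists_sec V s x
  subst hw
  have h1 : ev (map (Λ := Λ) g) W' (LVan.res (LM Λ V) k s) = 0 := by
    rw [← res_ev, hs, _root_.map_zero]
  rw [hc, map_sec] at h1
  have h2 : Van (LM Λ U) (sec Λ U (Finsupp.mapDomain (fun h => h ≫ g) c)) w :=
    van_zero_of_eq h1 w
  rw [van_sec_iff] at h2
  obtain ⟨Z, a, z, hz, h3⟩ := h2
  apply Van.of_res
  rw [hc, van_sec_iff]
  refine ⟨Z, a, z, hz, ?_⟩
  rw [← Finsupp.mapDomain_comp] at h3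
  refine Finsupp.mapDomain_injective (f := fun h : Z ⟶ V => h ≫ g) (fun p q h => (cancel_mono g).1 h) ?_
  rw [← Finsupp.mapDomain_comp, Finsupp.mapDomain_zero, ← h3]
  congr 1

/-- Affine objects of the étale site are a base. -/
theorem exists_affine_nhd (U : X.Etale) (x : U.left) :
    ∃ (V : X.Etale) (g : V ⟶ U) (v : V.left), IsAffine V.left ∧ g.left v = x ∧
      IsOpenImmersion g.left := by
  obtain ⟨W, hW, hx, -⟩ := exists_isAffineOpen_mem_and_subset (X := U.left)
    (U := (⊤ : U.left.Opens)) (x := x) (by trivial)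
  exact ⟨Scheme.Etale.mk (W.ι ≫ U.hom), MorphismProperty.Over.homMk W.ι rfl trivial, ⟨x, hx⟩,
    hW, rfl, inferInstanceAs (IsOpenImmersion W.ι)⟩

/-- A morphism through which generators factor is epi. -/
theorem epi_of_factors {ι : Type*} {F P : EtModW.Mod Λ X} (p : P ⟶ F) (U : ι → X.Etale)
    (s : ∀ i, EtModW.sect Λ F (U i)) (hp : ∀ i, ∃ q : LM Λ (U i) ⟶ P, q ≫ p = desc (s i))
    (h2 : ∀ (V : X.Etale) (t : EtModW.sect Λ F V) (v : V.left), ∃ (W : X.Etale) (g : W ⟶ V)
      (w : W.left), g.left w = v ∧ res F g t ∈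
        Submodule.span Λ {y | ∃ (i : ι) (a : W ⟶ U i), y = res F a (s i)}) : Epi p := by
  refine epi_of_generates U s (fun i x => ?_) h2
  obtain ⟨q, hq⟩ := hp i
  have h3 : ev p (U i) (ev q (U i) (gen Λ (U i))) = s i := by
    rw [← comp_ev, hq, desc_gen]
  rw [← h3]
  exact LocRange.of_ev _ _

theorem hasCoproduct (ι : Type (u + 1)) (G : ι → EtModW.Mod Λ X) : HasCoproduct G := by
  have : HasColimitsOfSize.{u + 1, u + 1} (EtModW.Mod Λ X) := IsGrothendieckAbelian.hasColimits _
  infer_instance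

attribute [local instance] hasCoproduct

/-- The index type of the canonical presentation: sections over affine objects. -/
def Idx (F : EtModW.Mod Λ X) : Type (u + 1) :=
  Σ U : {U : X.Etale // IsAffine U.left}, EtModW.sect Λ F U.1

/-- The affine object underlying an index. -/
def Idx.obj {F : EtModW.Mod Λ X} (i : Idx F) : X.Etale := i.1.1

/-- The section underlying an index. -/
def Idx.sec {F : EtModW.Mod Λ X} (i : Idx F) : EtModW.sect Λ F i.obj := i.2

theorem Idx.isAffine {F : EtModW.Mod Λ X} (i : Idx F) : IsAffine i.obj.left := i.1.2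

/-- The canonical family. -/
noncomputable def fam (F : EtModW.Mod Λ X) (i : Idx F) : EtModW.Mod Λ X := LM Λ i.obj

/-- The canonical family of maps. -/
noncomputable def famDesc (F : EtModW.Mod Λ X) (i : Idx F) : fam F i ⟶ F := desc i.sec

/-- The canonical map from the coproduct of all `Λ[U]`, `U` affine, `s ∈ F(U)`. -/
noncomputable def coprodDesc (F : EtModW.Mod Λ X) : (∐ fam F) ⟶ F := Sigma.desc (famDesc F)

theorem ι_coprodDesc (F : EtModW.Mod Λ X) (i : Idx F) :
    Sigma.ι (fam F) i ≫ coprodDesc F = famDesc F i := Sigma.ι_desc _ _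

/-- Every sheaf of modules is a quotient of a coproduct of `Λ[U]` with `U` affine. -/
theorem epi_coprodDesc (F : EtModW.Mod Λ X) : Epi (coprodDesc F) := by
  refine epi_of_factors (coprodDesc F) (fun i : Idx F => i.obj) (fun i => i.sec)
    (fun i => ⟨_, ι_coprodDesc F i⟩) ?_
  intro V t v
  obtain ⟨W, g, w, hW, hw, -⟩ := exists_affine_nhd V v
  refine ⟨W, g, w, hw, Submodule.subset_span ?_⟩
  exact ⟨⟨⟨W, hW⟩, res F g t⟩, 𝟙 W, (res_id F (res F g t)).symm⟩

end Groth.Agent.Etcore.LFreeGen
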