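import Groth.Agent.Etcore.LFree
import Groth.Agent.Etcore.LCrit
import Groth.Agent.Etrest.ModGerm
import Groth.Agent.EtpbcA.GeomSplit

/-!
# Germs of `Λ[U]`

* `van_iff_germ`: `Van F s x` is the vanishing of the germ at a geometric point above `x`.
* `van_sec_iff_fib`: `sec c` vanishes near the geometric point `ζ` iff `∑ c_h [h(ζ)] = 0`.
* `stalkEquiv`: the stalk of `Λ[U]` at `ξ` is the free module on the geometric fibre `Fib ξ U`.
* `injAt_of_goodAt`, `surjAt_of_goodAt`: the sections `s_i^* gen` for `s_i : V ⟶ U`.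
-/

set_option autoImplicit false
universe u

open CategoryTheory CategoryTheory.Limits AlgebraicGeometry Opposite

namespace Groth.Agent.Etcore.LFreeGerm

open Groth.Agent.Etbase Groth.Agent.Etcore Groth.Agent.EtpbcA Groth.Agent.Etcore.LVan
open Groth.Agent.Etcore.LFree
open Groth.Agent.EtpbcA.Germ (Fib fmap pt fmap_comp pt_fmap exists_lift exists_common)
open Groth.Agent.EtpbcA.GeomSplit (GoodAt)
open Groth.Agent.Etrest (ModGerm.germ ModGerm.germ_res ModGerm.germ_eq_zero_iff ModGerm.germ_surj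
  ModGerm.germ_surj_over)

variable {Λ : Type (u + 1)} [CommRing Λ] {X : Scheme.{u}}

section

variable {Ω : Type u} [Field Ω] [IsSepClosed Ω] (ξ : Spec (CommRingCat.of Ω) ⟶ X)

/-- Vanishing near a point is vanishing of the germ at a geometric point above it. -/
theorem van_iff_germ {F : EtModW.Mod Λ X} {U : X.Etale} (s : EtModW.sect Λ F U) (ζ : Fib ξ U) :
    Van F s (pt ξ ζ) ↔ ModGerm.germ Λ ξ F ζ s = 0 := by
  rw [ModGerm.germ_eq_zero_iff]
  constructor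
  · rintro ⟨V, g, v, hv, hg⟩
    obtain ⟨ζ', h1, h2⟩ := exists_lift ξ g ζ v hv
    exact ⟨V, g, ζ', h1, hg⟩
  · rintro ⟨V, g, ζ', h, hg⟩
    exact ⟨V, g, pt ξ ζ', by rw [← pt_fmap, h], hg⟩

/-- Two morphisms with the same value at a geometric point agree near it. -/
theorem exists_equalize {U V : X.Etale} (ζ : Fib ξ V) (h h' : V ⟶ U)
    (e : fmap ξ h ζ = fmap ξ h' ζ) :
    ∃ (W : X.Etale) (g : W ⟶ V) (ζ' : Fib ξ W), fmap ξ g ζ' = ζ ∧ g ≫ h = g ≫ h' := by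
  let e₁ : (Scheme.pointSmallEtale ξ).fiber.Elements := ⟨V, ζ⟩
  let e₂ : (Scheme.pointSmallEtale ξ).fiber.Elements := ⟨U, fmap ξ h ζ⟩
  let a : e₁ ⟶ e₂ := ⟨h, rfl⟩
  let b : e₁ ⟶ e₂ := ⟨h', e.symm⟩
  obtain ⟨w, k, hk⟩ := IsCofilteredOrEmpty.cone_maps a b
  exact ⟨w.1, k.1, w.2, k.2, congrArg Subtype.val hk⟩

/-- Finite version of `exists_equalize`. -/
theorem exists_equalize_finset {U V : X.Etale} (ζ : Fib ξ V) (S : Finset ((V ⟶ U) × (V ⟶ U)))
    (e : ∀ p ∈ S, fmap ξ p.1 ζ = fmap ξ p.2 ζ) :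
    ∃ (W : X.Etale) (g : W ⟶ V) (ζ' : Fib ξ W), fmap ξ g ζ' = ζ ∧
      ∀ p ∈ S, g ≫ p.1 = g ≫ p.2 := by
  classical
  induction S using Finset.induction_on with
  | empty => exact ⟨V, 𝟙 V, ζ, by simp [fmap], by simp⟩
  | @insert p S hp ih =>
    obtain ⟨W, g, ζ', h1, h2⟩ := ih (fun q hq => e q (Finset.mem_insert_of_mem hq))
    obtain ⟨Z, k, ζ'', h3, h4⟩ := exists_equalize ξ ζ' (g ≫ p.1) (g ≫ p.2) (by
      rw [fmap_comp, fmap_comp, h1]
      exact e p (Finset.mem_insert_self _ _))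
    refine ⟨Z, k ≫ g, ζ'', by rw [fmap_comp, h3, h1], fun q hq => ?_⟩
    rcases Finset.mem_insert.1 hq with rfl | hq
    · rw [Category.assoc, Category.assoc, h4]
    · rw [Category.assoc, Category.assoc, h2 q hq]

/-- `sec c` vanishes near the geometric point `ζ` iff `∑ c_h [h(ζ)] = 0`. -/
theorem van_sec_iff_fib {U V : X.Etale} (c : (V ⟶ U) →₀ Λ) (ζ : Fib ξ V) :
    Van (LM Λ U) (sec Λ U c) (pt ξ ζ) ↔ Finsupp.mapDomain (fun h => fmap ξ h ζ) c = 0 := by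
  classical
  rw [van_sec_iff]
  constructor
  · rintro ⟨W, g, w, hw, hg⟩
    obtain ⟨ζ', h1, h2⟩ := exists_lift ξ g ζ w hw
    have h3 : (fun h : V ⟶ U => fmap ξ h ζ) =
        (fun h : W ⟶ U => fmap ξ h ζ') ∘ (fun h : V ⟶ U => g ≫ h) := by
      funext h
      change fmap ξ h ζ = fmap ξ (g ≫ h) ζ'
      rw [fmap_comp, h1]
    rw [h3, Finsupp.mapDomain_comp, hg, Finsupp.mapDomain_zero]
  · intro h
    obtain ⟨W, g, ζ', h1, h2⟩ := exists_equalize_finset ξ ζ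
      ((c.support ×ˢ c.support).filter (fun p => fmap ξ p.1 ζ = fmap ξ p.2 ζ)) (by
        intro p hp
        exact (Finset.mem_filter.1 hp).2)
    refine ⟨W, g, pt ξ ζ', by rw [← pt_fmap, h1], ?_⟩
    have h3 : (fun h : V ⟶ U => fmap ξ h ζ) =
        (fun h : W ⟶ U => fmap ξ h ζ') ∘ (fun h : V ⟶ U => g ≫ h) := by
      funext h
      change fmap ξ h ζ = fmap ξ (g ≫ h) ζ'
      rw [fmap_comp, h1]
    rw [h3, Finsupp.mapDomain_comp] at h
    refine Finsupp.mapDomain_injOn (M := Λ) ((fun h : V ⟶ U => g ≫ h) '' c.support)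
      (f := fun h : W ⟶ U => fmap ξ h ζ') ?_ ?_ ?_ ?_
    · rintro _ ⟨a, ha, rfl⟩ _ ⟨b, hb, rfl⟩ hab
      apply h2 (a, b)
      refine Finset.mem_filter.2 ⟨Finset.mem_product.2 ⟨ha, hb⟩, ?_⟩
      change fmap ξ (g ≫ a) ζ' = fmap ξ (g ≫ b) ζ' at hab
      rwa [fmap_comp, fmap_comp, h1] at hab
    · intro a ha
      obtain ⟨b, hb, rfl⟩ := Finset.mem_image.1 (Finsupp.mapDomain_support ha)
      exact ⟨b, hb, rfl⟩
    · simp
    · simp only [Finsupp.mapDomain_zero]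
      exact h

/-- The map from the free module on the geometric fibre to the stalk of `Λ[U]`. -/
noncomputable def fibToStalk (U : X.Etale) :
    (Fib ξ U →₀ Λ) →ₗ[Λ] ((EtModW.stalk Λ ξ).obj (LM Λ U) : Type (u + 1)) :=
  Finsupp.linearCombination Λ (fun ζ => ModGerm.germ Λ ξ (LM Λ U) ζ (gen Λ U))

theorem fibToStalk_sec {U V : X.Etale} (c : (V ⟶ U) →₀ Λ) (ζ : Fib ξ V) :
    ModGerm.germ Λ ξ (LM Λ U) ζ (sec Λ U c) =
      fibToStalk ξ U (Finsupp.mapDomain (fun h => fmap ξ h ζ) c) := by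
  have key : (ModGerm.germ Λ ξ (LM Λ U) ζ).comp (sec Λ U) =
      (fibToStalk ξ U).comp (Finsupp.lmapDomain Λ Λ (fun h : V ⟶ U => fmap ξ h ζ)) := by
    refine Finsupp.lhom_ext' fun k => LinearMap.ext_ring ?_
    change ModGerm.germ Λ ξ (LM Λ U) ζ (sec Λ U (Finsupp.single k 1)) =
      fibToStalk ξ U (Finsupp.mapDomain (fun h : V ⟶ U => fmap ξ h ζ) (Finsupp.single k 1))
    rw [sec_single_one, Finsupp.mapDomain_single, fibToStalk, Finsupp.linearCombination_single,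
      one_smul]
    exact ModGerm.germ_res Λ ξ (LM Λ U) k ζ (gen Λ U)
  exact LinearMap.congr_fun key c

/-- Formal combinations of points of the geometric fibre lift to formal combinations of
morphisms. -/
theorem exists_lift_comb {U : X.Etale} (c : Fib ξ U →₀ Λ) :
    ∃ (V : X.Etale) (ζ : Fib ξ V) (c' : (V ⟶ U) →₀ Λ),
      Finsupp.mapDomain (fun h => fmap ξ h ζ) c' = c := by
  classical
  induction c using Finsupp.induction with
  | zero =>
    obtain ⟨V, ζ, -, -⟩ := ModGerm.germ_surj Λ ξ (LM Λ U) 0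
    exact ⟨V, ζ, 0, Finsupp.mapDomain_zero⟩
  | single_add t a c _ _ ih =>
    obtain ⟨V, ζ, c', hc'⟩ := ih
    obtain ⟨W, p, q, w, hp, hq⟩ := exists_common ξ V U ζ t
    refine ⟨W, w, Finsupp.single q a + Finsupp.mapDomain (fun h => p ≫ h) c', ?_⟩
    rw [Finsupp.mapDomain_add, Finsupp.mapDomain_single, hq, ← Finsupp.mapDomain_comp, ← hc']
    congr 2
    funext h
    change fmap ξ (p ≫ h) w = fmap ξ h ζ
    rw [fmap_comp, hp]

theorem fibToStalk_bijective (U : X.Etale) :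
    Function.Bijective (fibToStalk (Λ := Λ) ξ U) := by
  constructor
  · rw [injective_iff_map_eq_zero]
    intro c hc
    obtain ⟨V, ζ, c', rfl⟩ := exists_lift_comb ξ c
    rw [← fibToStalk_sec, ← van_iff_germ, van_sec_iff_fib] at hc
    exact hc
  · intro a
    obtain ⟨V, ζ, s, rfl⟩ := ModGerm.germ_surj Λ ξ (LM Λ U) a
    obtain ⟨W, g, w, c, hw, hc⟩ := exists_sec U s (pt ξ ζ)
    obtain ⟨ζ', h1, h2⟩ := exists_lift ξ g ζ w hw
    refine ⟨Finsupp.mapDomain (fun h => fmap ξ h ζ') c, ?_⟩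
    rw [← fibToStalk_sec, ← hc, ← h1]
    exact ModGerm.germ_res Λ ξ (LM Λ U) g ζ' s

/-- The stalk of `Λ[U]` at `ξ` is the free module on the geometric fibre of `U`. -/
noncomputable def stalkEquiv (U : X.Etale) :
    (Fib ξ U →₀ Λ) ≃ₗ[Λ] ((EtModW.stalk Λ ξ).obj (LM Λ U) : Type (u + 1)) :=
  LinearEquiv.ofBijective (fibToStalk ξ U) (fibToStalk_bijective ξ U)

theorem stalkEquiv_single (U : X.Etale) (ζ : Fib ξ U) :
    stalkEquiv ξ U (Finsupp.single ζ (1 : Λ)) = ModGerm.germ Λ ξ (LM Λ U) ζ (gen Λ U) := by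
  change fibToStalk ξ U _ = _
  rw [fibToStalk, Finsupp.linearCombination_single, one_smul]

end

/-- The linear map `Λ^I → Λ[U](V)` attached to a finite family of morphisms `V ⟶ U`. -/
noncomputable def famHom {I : Type*} {V U : X.Etale} (s : I → (V ⟶ U)) :
    (I →₀ Λ) →ₗ[Λ] EtModW.sect Λ (LM Λ U) V :=
  (sec Λ U).comp (Finsupp.lmapDomain Λ Λ s)

theorem res_famHom {I : Type*} {W V U : X.Etale} (s : I → (V ⟶ U)) (g : W ⟶ V) (c : I →₀ Λ) :
    res (LM Λ U) g (famHom s c) = famHom (fun i => g ≫ s i) c := by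
  change res (LM Λ U) g (sec Λ U (Finsupp.mapDomain s c)) = sec Λ U (Finsupp.mapDomain _ c)
  rw [res_sec, ← Finsupp.mapDomain_comp]
  rfl

section

variable {I : Type} {V U : X.Etale} (s : I → (V ⟶ U)) {Ω : Type u} [Field Ω] [IsSepClosed Ω]
  (v : Spec (.of Ω) ⟶ V.left)

theorem injAt_of_goodAt (h : ∀ i j, v ≫ (s i).left = v ≫ (s j).left → i = j) :
    InjAt (LM Λ U) (famHom (Λ := Λ) s) (v default) := by
  intro c hc
  let ξ : Spec (CommRingCat.of Ω) ⟶ X := v ≫ V.hom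
  let ζ : Fib ξ V := Over.homMk v rfl
  have h1 := (van_sec_iff_fib ξ (Finsupp.mapDomain s c) ζ).1 hc
  rw [← Finsupp.mapDomain_comp] at h1
  refine Finsupp.mapDomain_injective (f := (fun h => fmap ξ h ζ) ∘ s) ?_
    (h1.trans Finsupp.mapDomain_zero.symm)
  intro i j hij
  apply h
  exact congrArg (fun (q : Fib ξ U) => (q.left : Spec (CommRingCat.of Ω) ⟶ U.left)) hij

theorem surjAt_of_goodAt
    (h : ∀ t : Spec (.of Ω) ⟶ U.left, t ≫ U.hom = v ≫ V.hom → ∃ i, t = v ≫ (s i).left) :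
    SurjAt (LM Λ U) (famHom (Λ := Λ) s) (v default) := by
  intro V' g v' hv' t
  let ξ : Spec (CommRingCat.of Ω) ⟶ X := v ≫ V.hom
  let ζ : Fib ξ V := Over.homMk v rfl
  have h0 : g.left v' = pt ξ ζ := hv'
  obtain ⟨ζ', h1, h2⟩ := exists_lift ξ g ζ v' h0
  obtain ⟨W, k, w, c, hw, hc⟩ := exists_sec U t v'
  obtain ⟨ζ'', h3, h4⟩ := exists_lift ξ k ζ' w (by rw [hw, h2])
  have h5 : ∀ a : W ⟶ U, ∃ i, fmap ξ a ζ'' = fmap ξ (s i) ζ := by
    intro a
    obtain ⟨i, hi⟩ := h ((fmap ξ a ζ'').left) (Over.w (fmap ξ a ζ''))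
    exact ⟨i, Over.OverMorphism.ext hi⟩
  choose τ hτ using h5
  refine ⟨Finsupp.mapDomain τ c, ?_⟩
  rw [← hw]
  apply Van.of_res
  rw [map_sub, hc, ← res_comp, res_famHom]
  change Van (LM Λ U) (sec Λ U c - sec Λ U (Finsupp.mapDomain (fun i => (k ≫ g) ≫ s i)
    (Finsupp.mapDomain τ c))) w
  rw [← map_sub, ← h4, van_sec_iff_fib, ← Finsupp.mapDomain_comp]
  have h6 : Finsupp.mapDomain (fun a : W ⟶ U => fmap ξ a ζ'')
      (c - Finsupp.mapDomain ((fun i => (k ≫ g) ≫ s i) ∘ τ) c) =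
      Finsupp.mapDomain (fun a : W ⟶ U => fmap ξ a ζ'') c -
      Finsupp.mapDomain (fun a : W ⟶ U => fmap ξ a ζ'')
        (Finsupp.mapDomain ((fun i => (k ≫ g) ≫ s i) ∘ τ) c) :=
    (Finsupp.lmapDomain Λ Λ (fun a : W ⟶ U => fmap ξ a ζ'')).map_sub _ _
  rw [h6, ← Finsupp.mapDomain_comp, sub_eq_zero]
  congr 1
  funext a
  change fmap ξ a ζ'' = fmap ξ ((k ≫ g) ≫ s (τ a)) ζ''
  rw [hτ, fmap_comp, fmap_comp, h3, h1]

end

open Topology in
/-- `Λ[U]` is constructible if `X` and `U` are quasi-compact and quasi-separated. -/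
theorem isConstructible_LM_of_qcqs [CompactSpace X] [QuasiSeparatedSpace X] (U : X.Etale)
    [QuasiCompact U.hom] [QuasiSeparated U.hom] : EtModW.IsConstructible Λ (LM Λ U) := by
  refine LCrit.isConstructible_of_good _ fun x => ?_
  obtain ⟨Ω, _, _, ξ, hξ⟩ := GeomSplit.exists_geomPt x
  have hfin := GeomSplit.finite_lifts U ξ
  obtain ⟨n, ⟨e⟩⟩ := Finite.exists_equiv_fin {t : Spec (.of Ω) ⟶ U.left // t ≫ U.hom = ξ}
  obtain ⟨V, hVc, hVq, s, v, hv, hs⟩ := GeomSplit.exists_config U ξ n e.symm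
  have hgood : GoodAt s v := by
    refine ⟨fun i j hij => ?_, fun t ht => ?_⟩
    · rw [hs, hs] at hij
      exact e.symm.injective (Subtype.ext hij)
    · refine ⟨e ⟨t, ht.trans hv⟩, ?_⟩
      rw [hs]
      simp
  have hxv : V.hom (v default) = x := by
    rw [← hξ, ← hv]
    rfl
  refine ⟨V, v default, hxv, Fin n →₀ Λ, inferInstance, inferInstance, inferInstance, famHom s,
    GeomSplit.goodSet s, ?_, (GeomSplit.goodAt_iff_mem s v).1 hgood, fun c hc => ?_⟩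
  · exact (GeomSplit.isConstructible_goodSet s).isLocallyConstructible
  · obtain ⟨Ω', _, _, v', rfl⟩ := GeomSplit.exists_geomPt c
    obtain ⟨h1, h2⟩ := (GeomSplit.goodAt_iff_mem s v').2 hc
    exact ⟨injAt_of_goodAt s v' h1, surjAt_of_goodAt s v' h2⟩

end Groth.Agent.Etcore.LFreeGerm
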