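import Groth.Agent.Etcore.LFreeGerm

/-!
# Inverse images of `Λ[U]`

* `pullLM f U : f^{-1} Λ[U] ≅ Λ[U ×_Y X]`, `pullLM_eta_gen`, naturality `pullLM_map`, `pullLMF`.
* `isConstructible_LM`: `Λ[U]` is constructible if `U ⟶ X` is quasi-compact and quasi-separated.
-/

set_option autoImplicit false
universe u

open CategoryTheory CategoryTheory.Limits AlgebraicGeometry Opposite

namespace Groth.Agent.Etcore.LFreePull

open Groth.Agent.Etbase Groth.Agent.Etcore Groth.Agent.EtpbcA Groth.Agent.Etcore.LVan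
open Groth.Agent.Etcore.LFree Groth.Agent.Etcore.LPull Groth.Agent.Etcore.LFreeGerm

variable {Λ : Type (u + 1)} [CommRing Λ] {X Y : Scheme.{u}} (f : X ⟶ Y)

/-- The map `Λ[U] ⟶ f_* Λ[U ×_Y X]`. -/
noncomputable def toPush (U : Y.Etale) :
    LM Λ U ⟶ (EtModW.push Λ f).obj (LM Λ ((EtCoh.bc f).obj U)) :=
  desc (F := (EtModW.push Λ f).obj (LM Λ ((EtCoh.bc f).obj U))) (gen Λ ((EtCoh.bc f).obj U))

theorem eta_eq (F : EtModW.Mod Λ Y) (U : Y.Etale) (s : EtModW.sect Λ F U) :
    ev ((pullPushAdj f).unit.app F) U s = eta f F U s := rfl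

/-- The map `f^{-1}Λ[U] ⟶ Λ[U ×_Y X]`. -/
noncomputable def pullLMHom (U : Y.Etale) :
    (EtModW.pull Λ f).obj (LM Λ U) ⟶ LM Λ ((EtCoh.bc f).obj U) :=
  ((pullPushAdj f).homEquiv _ _).symm (toPush f U)

/-- The map `Λ[U ×_Y X] ⟶ f^{-1}Λ[U]`. -/
noncomputable def pullLMInv (U : Y.Etale) :
    LM Λ ((EtCoh.bc f).obj U) ⟶ (EtModW.pull Λ f).obj (LM Λ U) :=
  desc (eta f (LM Λ U) U (gen Λ U))

theorem unit_pullLMHom (U : Y.Etale) :
    (pullPushAdj f).unit.app (LM Λ U) ≫ (EtModW.push Λ f).map (pullLMHom f U) = toPush f U := by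
  have := (pullPushAdj f).homEquiv_unit (f := pullLMHom (Λ := Λ) f U)
  rw [← this]
  exact ((pullPushAdj f).homEquiv _ _).apply_symm_apply _

theorem pullLMHom_eta_gen (U : Y.Etale) :
    ev (pullLMHom f U) ((EtCoh.bc f).obj U) (eta f (LM Λ U) U (gen Λ U)) =
      gen Λ ((EtCoh.bc f).obj U) := by
  have h1 := congrArg (fun α => ev α U (gen Λ U)) (unit_pullLMHom (Λ := Λ) f U)
  refine Eq.trans ?_ (h1.trans (desc_gen _))
  rfl

/-- The inverse image of `Λ[U]` is `Λ[U ×_Y X]`. -/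
noncomputable def pullLM (U : Y.Etale) :
    (EtModW.pull Λ f).obj (LM Λ U) ≅ LM Λ ((EtCoh.bc f).obj U) where
  hom := pullLMHom f U
  inv := pullLMInv f U
  hom_inv_id := by
    apply ((pullPushAdj f).homEquiv _ _).injective
    rw [Adjunction.homEquiv_unit, Adjunction.homEquiv_unit, Functor.map_comp,
      ← Category.assoc, unit_pullLMHom, CategoryTheory.Functor.map_id]
    refine Eq.trans ?_ (Category.comp_id _).symm
    apply hom_ext
    rw [comp_ev, eta_eq]
    have h1 : ev (toPush (Λ := Λ) f U) U (gen Λ U) = gen Λ ((EtCoh.bc f).obj U) := desc_gen _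
    rw [h1]
    exact desc_gen (eta f (LM Λ U) U (gen Λ U))
  inv_hom_id := by
    apply hom_ext
    rw [comp_ev, id_ev]
    have h1 : ev (pullLMInv (Λ := Λ) f U) ((EtCoh.bc f).obj U) (gen Λ ((EtCoh.bc f).obj U)) =
      eta f (LM Λ U) U (gen Λ U) := desc_gen _
    rw [h1, pullLMHom_eta_gen]

theorem pullLM_eta_gen (U : Y.Etale) :
    ev (pullLM f U).hom ((EtCoh.bc f).obj U) (eta f (LM Λ U) U (gen Λ U)) =
      gen Λ ((EtCoh.bc f).obj U) := pullLMHom_eta_gen f U

theorem pullLM_inv_gen (U : Y.Etale) :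
    ev (pullLM f U).inv ((EtCoh.bc f).obj U) (gen Λ ((EtCoh.bc f).obj U)) =
      eta f (LM Λ U) U (gen Λ U) := desc_gen _

/-- Naturality of `eta` in the sheaf. -/
theorem eta_ev {F G : EtModW.Mod Λ Y} (α : F ⟶ G) (U : Y.Etale) (s : EtModW.sect Λ F U) :
    ev ((EtModW.pull Λ f).map α) ((EtCoh.bc f).obj U) (eta f F U s) =
      eta f G U (ev α U s) := by
  have h1 := (pullPushAdj f).unit.naturality α
  exact (congrArg (fun β => ev β U s) h1).symm

theorem pullLM_map {U V : Y.Etale} (g : V ⟶ U) :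
    (EtModW.pull Λ f).map (map g) ≫ (pullLM f U).hom =
      (pullLM f V).hom ≫ map ((EtCoh.bc f).map g) := by
  rw [← cancel_epi (pullLM f V).inv, Iso.inv_hom_id_assoc]
  apply hom_ext
  rw [comp_ev, comp_ev, pullLM_inv_gen, eta_ev, map_gen, ← res_eta, ← res_ev, pullLM_eta_gen,
    map_gen]

/-- The inverse image of `Λ[U]` is `Λ[U ×_Y X]`, naturally in `U`. -/
noncomputable def pullLMF : LMF Λ Y ⋙ EtModW.pull Λ f ≅ EtCoh.bc f ⋙ LMF Λ X :=
  NatIso.ofComponents (fun U => pullLM f U) (fun g => pullLM_map f g)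

/-- `desc` and inverse images. -/
theorem pull_desc {U : Y.Etale} {F : EtModW.Mod Λ Y} (s : EtModW.sect Λ F U) :
    (pullLM f U).inv ≫ (EtModW.pull Λ f).map (desc s) = desc (eta f F U s) := by
  apply hom_ext
  rw [comp_ev, pullLM_inv_gen, eta_ev, desc_gen, desc_gen]

/-- `Λ[U]` is constructible if `U ⟶ X` is quasi-compact and quasi-separated. -/
theorem isConstructible_LM (U : X.Etale) [QuasiCompact U.hom] [QuasiSeparated U.hom] :
    EtModW.IsConstructible Λ (LM Λ U) := by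
  have key : ∀ x : X, ∃ W : X.Opens, IsAffineOpen W ∧ x ∈ W := fun x => by
    obtain ⟨W, hW, hx, -⟩ := exists_isAffineOpen_mem_and_subset (X := X) (U := (⊤ : X.Opens))
      (x := x) (by trivial)
    exact ⟨W, hW, hx⟩
  choose W hW hxW using key
  refine LCrit.isConstructible_of_open_cover _ W (fun x => ⟨x, hxW x⟩) fun x => ?_
  have : IsAffine (W x).toScheme := hW x
  refine LCrit.isConstructible_of_iso (pullLM (W x).ι U).symm ?_
  have h1 : QuasiCompact (pullback.snd U.hom (W x).ι) := inferInstance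
  have h2 : QuasiSeparated (pullback.snd U.hom (W x).ι) := inferInstance
  have h3 : QuasiCompact ((EtCoh.bc (W x).ι).obj U).hom := h1
  have h4 : QuasiSeparated ((EtCoh.bc (W x).ι).obj U).hom := h2
  exact isConstructible_LM_of_qcqs _

theorem isConstructible_LM_of_affine [QuasiSeparatedSpace X] (U : X.Etale) [IsAffine U.left] :
    EtModW.IsConstructible Λ (LM Λ U) := by
  have h1 : QuasiCompact U.hom := quasiCompact_of_compactSpace (X := U.left) (Y := X) U.hom
  have h3 : QuasiSeparatedSpace U.left := inferInstance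
  have h2 : QuasiSeparated U.hom := GeomSplit.quasiSeparated_of_space (A := U.left) (B := X) U.hom
  exact isConstructible_LM U

end Groth.Agent.Etcore.LFreePull
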