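import Groth.Agent.Etcore.LCrit
import Groth.Agent.EtpbcA.ConsLocus
import Mathlib.RingTheory.FinitePresentation

/-!
# Loci attached to sections of a constructible sheaf of `Λ`-modules

The module version of `EtpbcA.ConsLocus` and `EtpbcA.ConsSpread`.
-/

set_option autoImplicit false
universe u

open CategoryTheory CategoryTheory.Limits AlgebraicGeometry Opposite Topology

namespace Groth.Agent.Etcore.LLocus

open Groth.Agent.Etbase Groth.Agent.Etcore Groth.Agent.EtpbcA Groth.Agent.Etcore.LVan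
open Groth.Agent.Etcore.LPull Groth.Agent.Etcore.LPullComp Groth.Agent.Etcore.StrataGen
open Groth.Agent.Etcore.LCrit
open Groth.Agent.EtpbcA.ConsPull (fstBc fst_bc_map_apply exists_bc_point)
open Groth.Agent.EtpbcA.ConsVan (exists_common_finite)
open Groth.Agent.EtpbcA.ConsLocus (exists_constructible_nbhd)

variable {Λ : Type (u + 1)} [CommRing Λ] {X : Scheme.{u}} {F : EtModW.Mod Λ X}

/-- A chart of a constructible sheaf along a constructible locally closed piece, adapted to finitely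
many sections `σ s` of `F` over `U`. -/
theorem exists_chart (hF : EtModW.IsConstructible Λ F) (U : X.Etale) (v : U.left) (W : X.Opens)
    (hW : IsAffineOpen W) (hv : U.hom v ∈ W) {S : Type*} [Finite S] (σ : S → EtModW.sect Λ F U) :
    ∃ (T : Scheme.{u}) (g : T ⟶ X) (_ : IsImmersion g) (_ : Set.range g ⊆ W)
      (_ : IsConstructible (W.ι ⁻¹' Set.range g)) (N : Type (u + 1)) (_ : AddCommGroup N)
      (_ : Module Λ N) (_ : Module.Finite Λ N)
      (V₁ : T.Etale) (ψ : N →ₗ[Λ] EtModW.sect Λ ((EtModW.pull Λ g).obj F) V₁)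
      (_ : ∀ y, InjAt ((EtModW.pull Λ g).obj F) ψ y ∧ SurjAt ((EtModW.pull Λ g).obj F) ψ y)
      (Q : T.Etale) (a : Q ⟶ V₁) (b : Q ⟶ (EtCoh.bc g).obj U) (q : Q.left) (l : S → N),
      fstBc g U (b.left q) = v ∧ ∀ s, res ((EtModW.pull Λ g).obj F) b (eta g F U (σ s)) =
        res ((EtModW.pull Λ g).obj F) a (ψ (l s)) := by
  obtain ⟨T, g, h1, h2, ⟨t, ht⟩, h4, h5⟩ := (isConstructible_iff_local F).1 hF W hW _ hv
  obtain ⟨z, hz1, hz2⟩ := Scheme.Pullback.exists_preimage_pullback (f := U.hom) (g := g)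
      v t ht.symm
  unfold pr at h5
  rw [LFLC.isFTLC_iff] at h5
  obtain ⟨V₁, y, hy, N, i1, i2, i3, ψ, hψ⟩ := h5 t
  obtain ⟨Q₀, a₀, b₀, q₀, hq1, hq2⟩ := Cover.exists_common V₁ ((EtCoh.bc g).obj U) y z
    (hy.trans hz2.symm)
  have hs : ∀ s, ∃ n, Van ((EtModW.pull Λ g).obj F) (res ((EtModW.pull Λ g).obj F) b₀
      (eta g F U (σ s)) - res ((EtModW.pull Λ g).obj F) a₀ (ψ n)) q₀ := fun s => by
    have := (surjAt_res_iff (F := (EtModW.pull Λ g).obj F) a₀ q₀ ψ).2 (hψ _).2
    obtain ⟨n, hn⟩ := this Q₀ (𝟙 _) q₀ rfl (res ((EtModW.pull Λ g).obj F) b₀ (eta g F U (σ s)))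
    refine ⟨n, ?_⟩
    rwa [res_id] at hn
  choose l hl using hs
  obtain ⟨Q, k, q, hq, hk⟩ := exists_common_finite (ι := S) q₀
    (fun s V g' => res ((EtModW.pull Λ g).obj F) g' (res ((EtModW.pull Λ g).obj F) b₀
      (eta g F U (σ s)) - res ((EtModW.pull Λ g).obj F) a₀ (ψ (l s))) = 0)
    (fun s V W g' k' h => by rw [res_comp, h, map_zero])
    (fun s => by
      obtain ⟨V, g', v, hv, hg⟩ := hl s
      exact ⟨V, g', v, hv, hg⟩)
  refine ⟨T, g, h1, h2, h4, N, i1, i2, i3, V₁, ψ, hψ, Q, k ≫ a₀, k ≫ b₀, q, l, ?_, fun s => ?_⟩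
  · have : (k ≫ b₀).left q = z := by
      rw [← hq2, ← hq]
      rfl
    rw [this]
    exact hz1
  · have := hk s
    rw [map_sub, sub_eq_zero, ← res_comp, ← res_comp] at this
    exact this

section Chart

variable {T : Scheme.{u}} {g : T ⟶ X} {U : X.Etale} {N : Type (u + 1)} [AddCommGroup N]
  [Module Λ N]
  {V₁ : T.Etale} {ψ : N →ₗ[Λ] EtModW.sect Λ ((EtModW.pull Λ g).obj F) V₁}
  (hψ : ∀ y, InjAt ((EtModW.pull Λ g).obj F) ψ y ∧ SurjAt ((EtModW.pull Λ g).obj F) ψ y)
  {Q : T.Etale} {a : Q ⟶ V₁} {b : Q ⟶ (EtCoh.bc g).obj U}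

include hψ in
theorem van_iff_chart {s : EtModW.sect Λ F U} {n : N}
    (h : res ((EtModW.pull Λ g).obj F) b (eta g F U s) =
      res ((EtModW.pull Λ g).obj F) a (ψ n))
    (q : Q.left) : Van F s (fstBc g U (b.left q)) ↔ n = 0 := by
  rw [← van_eta_iff, ← van_res_iff, h, van_res_iff]
  exact ⟨fun h => (hψ _).1 n h, fun h => van_zero_of_eq (by rw [h, map_zero]) _⟩

variable {M : Type*} [AddCommGroup M] [Module Λ M] {φ : M →ₗ[Λ] EtModW.sect Λ F U}

/-- Extend a chart from generators to the whole module. -/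
theorem extend_chart {S : Set M} (hS : Submodule.span Λ S = ⊤) {l : S → N}
    (h : ∀ m : S, res ((EtModW.pull Λ g).obj F) b (eta g F U (φ m)) =
      res ((EtModW.pull Λ g).obj F) a (ψ (l m))) (m : M) :
    ∃ n, res ((EtModW.pull Λ g).obj F) b (eta g F U (φ m)) =
      res ((EtModW.pull Λ g).obj F) a (ψ n) := by
  have hm : m ∈ Submodule.span Λ S := by rw [hS]; trivial
  induction hm using Submodule.span_induction with
  | mem x hx => exact ⟨l ⟨x, hx⟩, h ⟨x, hx⟩⟩
  | zero => exact ⟨0, by simp only [map_zero]⟩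
  | add x y _ _ hx hy =>
    obtain ⟨n, hn⟩ := hx
    obtain ⟨n', hn'⟩ := hy
    exact ⟨n + n', by simp only [map_add, hn, hn']⟩
  | smul c x _ hx =>
    obtain ⟨n, hn⟩ := hx
    exact ⟨c • n, by simp only [map_smul, hn]⟩

variable {l : M → N}
  (h : ∀ m, res ((EtModW.pull Λ g).obj F) b (eta g F U (φ m)) =
    res ((EtModW.pull Λ g).obj F) a (ψ (l m)))

include hψ h in
theorem injAt_iff_chart (q : Q.left) :
    InjAt F φ (fstBc g U (b.left q)) ↔ ∀ m, l m = 0 → m = 0 :=
  forall_congr' fun m => by rw [van_iff_chart hψ (h m) q]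

include hψ h in
theorem surjAt_iff_chart (q : Q.left) :
    SurjAt F φ (fstBc g U (b.left q)) ↔ Function.Surjective l := by
  rw [← surjAt_eta_iff, ← surjAt_res_iff]
  constructor
  · intro hs n
    obtain ⟨m, hm⟩ := hs Q (𝟙 Q) q rfl (res ((EtModW.pull Λ g).obj F) a (ψ n))
    refine ⟨m, ?_⟩
    rw [res_id] at hm
    change Van _ (res ((EtModW.pull Λ g).obj F) a (ψ n) -
      res ((EtModW.pull Λ g).obj F) b (eta g F U (φ m))) q at hm
    rw [h m, ← map_sub, ← map_sub, van_res_iff] at hm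
    exact (sub_eq_zero.1 ((hψ _).1 _ hm)).symm
  · intro hs R k r hr t
    obtain ⟨n, hn⟩ := (surjAt_res_iff (F := (EtModW.pull Λ g).obj F) a q ψ).2 (hψ _).2 R k r hr t
    obtain ⟨m, rfl⟩ := hs n
    refine ⟨m, ?_⟩
    change Van _ (t - res ((EtModW.pull Λ g).obj F) k (res ((EtModW.pull Λ g).obj F) b
      (eta g F U (φ m)))) r
    rw [h m]
    exact hn

end Chart

/-- A subset of an étale `U` which is locally constant along the charts is locally
constructible. -/
theorem isLocallyConstructible_of_chart (hF : EtModW.IsConstructible Λ F) (U : X.Etale)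
    {S : Type*} [Finite S] (σ : S → EtModW.sect Λ F U) (E : Set U.left)
    (hE : ∀ (T : Scheme.{u}) (g : T ⟶ X) (_ : IsImmersion g) (N : Type (u + 1))
      (_ : AddCommGroup N) (_ : Module Λ N) (_ : Module.Finite Λ N)
      (V₁ : T.Etale) (ψ : N →ₗ[Λ] EtModW.sect Λ ((EtModW.pull Λ g).obj F) V₁)
      (_ : ∀ y, InjAt ((EtModW.pull Λ g).obj F) ψ y ∧ SurjAt ((EtModW.pull Λ g).obj F) ψ y)
      (Q : T.Etale) (a : Q ⟶ V₁) (b : Q ⟶ (EtCoh.bc g).obj U) (l : S → N)
      (_ : ∀ s, res ((EtModW.pull Λ g).obj F) b (eta g F U (σ s)) =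
        res ((EtModW.pull Λ g).obj F) a (ψ (l s))) (q q' : Q.left),
        fstBc g U (b.left q) ∈ E → fstBc g U (b.left q') ∈ E) :
    IsLocallyConstructible E := by
  intro x
  obtain ⟨W, hW, hxW, -⟩ : ∃ W : X.Opens, IsAffineOpen W ∧ U.hom x ∈ W ∧ W ≤ ⊤ :=
    exists_isAffineOpen_mem_and_subset (X := X) (U := (⊤ : X.Opens)) (x := U.hom x) (by trivial)
  obtain ⟨V, hV, hxV, hVW⟩ : ∃ V : U.left.Opens, IsAffineOpen V ∧ x ∈ V ∧ V ≤ U.hom ⁻¹ᵁ W :=
    exists_isAffineOpen_mem_and_subset (X := U.left) (U := U.hom ⁻¹ᵁ W) (x := x) hxW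
  refine ⟨V, V.isOpen.mem_nhds hxV, V.isOpen, ?_⟩
  have : IsAffine V.toScheme := hV
  change IsConstructible (V.ι ⁻¹' E)
  refine Ega43.ConsCrit.isConstructible_of_forall_exists (X := V.toScheme) _ fun c => ?_
  obtain ⟨T, g, h1, -, h2, N, i1, i2, i3, V₁, ψ, hψ, Q, a, b, q, l, hq, hl⟩ :=
    exists_chart hF U (V.ι c) W hW (hVW c.2) σ
  have hqV : fstBc g U (b.left q) ∈ V := by rw [hq]; exact c.2
  obtain ⟨N₀, hN1, hN2, hN3⟩ := exists_constructible_nbhd g U Q b q W hW h2 V hV hVW hqV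
  have hc : (⟨fstBc g U (b.left q), hqV⟩ : V.toScheme) = c := Subtype.ext hq
  rw [hc] at hN2
  refine ⟨N₀, hN1, hN2, ?_⟩
  by_cases hcE : V.ι c ∈ E
  · have : N₀ ∩ V.ι ⁻¹' E = N₀ := by
      rw [Set.inter_eq_left]
      intro d hd
      obtain ⟨q', hq'⟩ := hN3 d hd
      change V.ι d ∈ E
      rw [← hq']
      refine hE T g h1 N i1 i2 i3 V₁ ψ hψ Q a b l hl q q' ?_
      rw [hq]
      exact hcE
    rw [this]
    exact hN1
  · have : N₀ ∩ V.ι ⁻¹' E = ∅ := by
      rw [Set.eq_empty_iff_forall_notMem]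
      rintro d ⟨hd, hdE⟩
      obtain ⟨q', hq'⟩ := hN3 d hd
      apply hcE
      have : fstBc g U (b.left q') ∈ E := by rw [hq']; exact hdE
      have h3 := hE T g h1 N i1 i2 i3 V₁ ψ hψ Q a b l hl q' q this
      rw [hq] at h3
      exact h3
    rw [this]
    exact IsConstructible.empty

section Loci

variable (hF : EtModW.IsConstructible Λ F) (U : X.Etale)

include hF in
/-- The vanishing locus of a section of a constructible sheaf is locally constructible. -/
theorem isLocallyConstructible_van (s : EtModW.sect Λ F U) :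
    IsLocallyConstructible {c | Van F s c} := by
  refine isLocallyConstructible_of_chart hF U (S := Unit) (fun _ => s) _ ?_
  intro T g _ N _ _ _ V₁ ψ hψ Q a b l hl q q' h
  exact (van_iff_chart hψ (hl ()) q').2 ((van_iff_chart hψ (hl ()) q).1 h)

variable {M : Type*} [AddCommGroup M] [Module Λ M] [Module.Finite Λ M]
  (φ : M →ₗ[Λ] EtModW.sect Λ F U)

include hF in
theorem isLocallyConstructible_injAt : IsLocallyConstructible {c | InjAt F φ c} := by
  obtain ⟨S, hS⟩ := Module.Finite.fg_top (R := Λ) (M := M)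
  refine isLocallyConstructible_of_chart hF U (S := (S : Set M)) (fun s => φ s) _ ?_
  intro T g _ N _ _ _ V₁ ψ hψ Q a b l hl q q' h
  choose l' hl' using fun m : M => extend_chart hS hl m
  exact (injAt_iff_chart hψ hl' q').2 ((injAt_iff_chart hψ hl' q).1 h)

include hF in
theorem isLocallyConstructible_surjAt : IsLocallyConstructible {c | SurjAt F φ c} := by
  obtain ⟨S, hS⟩ := Module.Finite.fg_top (R := Λ) (M := M)
  refine isLocallyConstructible_of_chart hF U (S := (S : Set M)) (fun s => φ s) _ ?_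
  intro T g _ N _ _ _ V₁ ψ hψ Q a b l hl q q' h
  choose l' hl' using fun m : M => extend_chart hS hl m
  exact (surjAt_iff_chart hψ hl' q').2 ((surjAt_iff_chart hψ hl' q).1 h)

include hF in
/-- The locus where `M → F_u` is bijective is locally constructible. -/
theorem isLocallyConstructible_good :
    IsLocallyConstructible {c | InjAt F φ c ∧ SurjAt F φ c} :=
  (isLocallyConstructible_injAt hF U φ).inter (isLocallyConstructible_surjAt hF U φ)

end Loci

end Groth.Agent.Etcore.LLocus
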