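import Groth.Agent.Etcore.LFreeGen

/-!
# Constructible sheaves of `Λ`-modules are quotients of finite sums of `Λ[U]`

* `exists_generators`: on a quasi-compact quasi-separated scheme a constructible sheaf (Noetherian `Λ`)
  is generated by finitely many sections over affine objects of the étale site.
* `exists_epi_biproduct`: it is a quotient of a finite direct sum of `Λ[U]`, `U` affine.
-/

set_option autoImplicit false
universe u

open CategoryTheory CategoryTheory.Limits AlgebraicGeometry Opposite Topology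

namespace Groth.Agent.Etcore.LPres

open Groth.Agent.Etbase Groth.Agent.Etcore Groth.Agent.EtpbcA Groth.Agent.Etcore.LVan
open Groth.Agent.Etcore.LFree Groth.Agent.Etcore.LPull Groth.Agent.Etcore.LFreeGerm
open Groth.Agent.Etcore.LFreePull Groth.Agent.Etcore.LFreeGen

variable {Λ : Type (u + 1)} [CommRing Λ] {X : Scheme.{u}}

/-- The family of sections `s` generates `F` locally. -/
def Generates {F : EtModW.Mod Λ X} {ι : Type*} (U : ι → X.Etale)
    (s : ∀ i, EtModW.sect Λ F (U i)) : Prop :=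
  ∀ (V : X.Etale) (t : EtModW.sect Λ F V) (v : V.left), ∃ (W : X.Etale) (g : W ⟶ V)
      (w : W.left), g.left w = v ∧ res F g t ∈
        Submodule.span Λ {y | ∃ (i : ι) (a : W ⟶ U i), y = res F a (s i)}

/-- Local generators from a module of sections surjective on the germ. -/
theorem mem_span_of_surjAt {F : EtModW.Mod Λ X} {U : X.Etale} {M : Type (u + 1)} [AddCommGroup M]
    [Module Λ M] (φ : M →ₗ[Λ] EtModW.sect Λ F U) {S : Set M} (hS : Submodule.span Λ S = ⊤)
    {c : U.left} (hc : SurjAt F φ c) {V : X.Etale} (t : EtModW.sect Λ F V) (v : V.left)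
    (hv : V.hom v = U.hom c) :
    ∃ (W : X.Etale) (g : W ⟶ V) (w : W.left), g.left w = v ∧ res F g t ∈
      Submodule.span Λ {y | ∃ (m : S) (a : W ⟶ U), y = res F a (φ m)} := by
  obtain ⟨m, W, a, b, w, ha, hb, e⟩ := hc.exists_of_sect t v hv
  refine ⟨W, a, w, ha, ?_⟩
  rw [e]
  have hm : m ∈ Submodule.span Λ S := by rw [hS]; trivial
  have h1 : (res F b).comp φ m ∈ Submodule.map ((res F b).comp φ) (Submodule.span Λ S) :=
    ⟨m, hm, rfl⟩
  rw [Submodule.map_span] at h1
  refine Submodule.span_mono ?_ h1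
  rintro _ ⟨m', hm', rfl⟩
  exact ⟨⟨m', hm'⟩, b, rfl⟩

/-- Local data: an affine étale `V`, finitely many sections over `V` and a constructible subset of `X`
over which they generate. -/
theorem exists_local_generators [IsNoetherianRing Λ] [CompactSpace X] [QuasiSeparatedSpace X]
    {F : EtModW.Mod Λ X} (hF : EtModW.IsConstructible Λ F) (x : X) :
    ∃ (C : Set X) (_ : IsConstructible C) (_ : x ∈ C) (U : X.Etale) (_ : IsAffine U.left) (n : ℕ)
      (s : Fin n → EtModW.sect Λ F U),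
      ∀ (V : X.Etale) (t : EtModW.sect Λ F V) (v : V.left), V.hom v ∈ C →
        ∃ (W : X.Etale) (g : W ⟶ V) (w : W.left), g.left w = v ∧ res F g t ∈
          Submodule.span Λ {y | ∃ (i : Fin n) (a : W ⟶ U), y = res F a (s i)} := by
  obtain ⟨U₀, u₀, hu₀, M, i1, i2, i3, φ₀, h₀⟩ := LSpread.exists_good F hF x
  obtain ⟨U, g, u, hU, hu, -⟩ := exists_affine_nhd U₀ u₀
  let φ : M →ₗ[Λ] EtModW.sect Λ F U := resHom g φ₀
  have h1 : SurjAt F φ u := by
    rw [surjAt_res_iff, hu]
    exact h₀.2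
  let D : Set U.left := {c | SurjAt F φ c}
  have hD : IsLocallyConstructible D := LLocus.isLocallyConstructible_surjAt hF U φ
  have hD' : IsConstructible D := hD.isConstructible
  have iqc : QuasiCompact U.hom := quasiCompact_of_compactSpace (X := U.left) (Y := X) U.hom
  obtain ⟨n, σ, hσ⟩ := Module.Finite.exists_fin (R := Λ) (M := M)
  refine ⟨U.hom '' D, Scheme.Hom.isConstructible_image (X := U.left) (Y := X) U.hom hD',
    ⟨u, h1, ?_⟩, U, hU, n, fun i => φ (σ i), ?_⟩
  · rw [← hu₀, ← hu]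
    exact (Cover.hom_apply g u).symm
  · rintro V t v ⟨c, hc, hcv⟩
    obtain ⟨W, k, w, hw, h⟩ := mem_span_of_surjAt φ hσ hc t v hcv.symm
    refine ⟨W, k, w, hw, Submodule.span_mono ?_ h⟩
    rintro _ ⟨⟨_, i, rfl⟩, a, rfl⟩
    exact ⟨i, a, rfl⟩

/-- Constructible sheaves are generated by finitely many sections over affine objects. -/
theorem exists_generators [IsNoetherianRing Λ] [CompactSpace X] [QuasiSeparatedSpace X]
    {F : EtModW.Mod Λ X} (hF : EtModW.IsConstructible Λ F) :
    ∃ (n : ℕ) (U : Fin n → X.Etale) (_ : ∀ i, IsAffine (U i).left)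
      (s : ∀ i, EtModW.sect Λ F (U i)), Generates U s := by
  choose C hC hxC U hU n s hs using fun x : X => exists_local_generators hF x
  obtain ⟨t, ht⟩ := ConstrTop.finite_subcover C hC (by
    rw [Set.eq_univ_iff_forall]
    intro x
    exact Set.mem_iUnion.2 ⟨x, hxC x⟩)
  let ι := Σ x : t, Fin (n x)
  obtain ⟨m, ⟨e⟩⟩ := Finite.exists_equiv_fin ι
  refine ⟨m, fun i => U (e.symm i).1, fun i => hU _, fun i => s (e.symm i).1 (e.symm i).2, ?_⟩
  intro V y v
  have h1 := ht.symm ▸ Set.mem_univ (V.hom v)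
  obtain ⟨x, hx⟩ := Set.mem_iUnion.1 h1
  obtain ⟨hxt, hvx⟩ := Set.mem_iUnion.1 hx
  obtain ⟨W, g, w, hw, h⟩ := hs x V y v hvx
  refine ⟨W, g, w, hw, Submodule.span_mono ?_ h⟩
  rintro _ ⟨i, a, rfl⟩
  obtain ⟨j, hj⟩ := e.symm.surjective ⟨⟨x, hxt⟩, i⟩
  have key : ∀ (p : ι) (hp : p = ⟨⟨x, hxt⟩, i⟩), ∃ b : W ⟶ U p.1,
      res F a (s x i) = res F b (s p.1 p.2) := by
    rintro _ rfl
    exact ⟨a, rfl⟩
  obtain ⟨b, hb⟩ := key _ hj
  exact ⟨j, b, hb⟩

attribute [local instance] CategoryTheory.Abelian.hasFiniteBiproducts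

/-- The map from a finite direct sum of `Λ[U i]` attached to sections. -/
noncomputable def sumDesc {n : ℕ} {F : EtModW.Mod Λ X} (U : Fin n → X.Etale)
    (s : ∀ i, EtModW.sect Λ F (U i)) : (⨁ fun i => LM Λ (U i)) ⟶ F :=
  biproduct.desc fun i => desc (s i)

theorem ι_sumDesc {n : ℕ} {F : EtModW.Mod Λ X} (U : Fin n → X.Etale)
    (s : ∀ i, EtModW.sect Λ F (U i)) (i : Fin n) :
    biproduct.ι (fun i => LM Λ (U i)) i ≫ sumDesc U s = desc (s i) :=
  biproduct.ι_desc (fun i => desc (s i)) i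

theorem epi_sumDesc {n : ℕ} {F : EtModW.Mod Λ X} (U : Fin n → X.Etale)
    (s : ∀ i, EtModW.sect Λ F (U i)) (h : Generates U s) : Epi (sumDesc U s) :=
  epi_of_factors (sumDesc U s) U s (fun i => ⟨_, ι_sumDesc U s i⟩) h

/-- A constructible sheaf on a quasi-compact quasi-separated scheme is a quotient of a finite direct sum
of `Λ[U]`, `U` affine. -/
theorem exists_epi_biproduct [IsNoetherianRing Λ] [CompactSpace X] [QuasiSeparatedSpace X]
    {F : EtModW.Mod Λ X} (hF : EtModW.IsConstructible Λ F) :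
    ∃ (n : ℕ) (U : Fin n → X.Etale) (_ : ∀ i, IsAffine (U i).left)
      (p : (⨁ fun i => LM Λ (U i)) ⟶ F), Epi p := by
  obtain ⟨n, U, hU, s, hs⟩ := exists_generators hF
  exact ⟨n, U, hU, sumDesc U s, epi_sumDesc U s hs⟩

end Groth.Agent.Etcore.LPres
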