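import Groth.Agent.Etcore.RpushLoc
import Groth.Agent.Etcore.LimBC0
import Groth.Agent.Etcore.HpullComp

/-!
# Vanishing of higher direct images and limits

`HZ f F n z` : all classes in `H^n(X ×_Y Z, F)` die étale locally on `Z`, for `z : Z ⟶ Y`.

* `isZero_Rpush_iff_hz`: for a cartesian square `R^{n+1} f'_* (g'⁻¹ F) = 0` iff `HZ f F (n + 1) u` for all étale
  `Y'`-schemes `u : U ⟶ Y' ⟶ Y`.
* `isZero_Rpush_of_limit`: if `R^{n+1}` of the base change of `f` to all stages of a cofiltered system with affine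
  transition maps kills `F` then so does the base change to the limit (from surjectivity of
  `colim H^{n+1}(T_i, F) ⟶ H^{n+1}(T, F)`, passed as the hypothesis `LimSurj`).
-/

set_option autoImplicit false
universe u
open CategoryTheory CategoryTheory.Limits AlgebraicGeometry Opposite Abelian
open scoped Groth.Agent.Etcore.EtInst
open Groth.Agent.Etcore.EtInst

namespace Groth.Agent.Etcore.LimBC1

open Groth.Agent.Etcore.HQ Groth.Agent.Etcore.RpushLoc Groth.Agent.Etcore.PullCoh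
  Groth.Agent.Etcore.HpullCalc
open Groth.Agent.Etcore.LimBC0 (mZ mZ_fst mZ_snd mZ_mZ eU eU_hom_fst eU_hom_snd eU_inv_fst eU_inv_snd
  eU_bc)

attribute [local instance] pfl

section HQ

variable {X : Scheme.{u}} (F : EtCoh.Ab X)

theorem res_eq_hpVia {Z Z' : Scheme.{u}} {q : Z ⟶ X} {q' : Z' ⟶ X} (k : Z' ⟶ Z) (h : k ≫ q = q')
    (n : ℕ) (x : HQ F q n) : res F k h n x = hpVia k q q' h F n x := by
  subst h
  have e : th k q (k ≫ q) rfl F = (EtCore.pullComp k q).inv.app F := theta_rfl_hom_app k q F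
  rw [res_apply, hpVia_apply, HHmap_comp, pullCongr_rfl_hom_app, HHmap_id, e]

theorem res_bijective {Z Z' : Scheme.{u}} {q : Z ⟶ X} {q' : Z' ⟶ X} (k : Z' ⟶ Z) [IsIso k]
    (h : k ≫ q = q') (n : ℕ) : Function.Bijective (res F k h n) := by
  have h1 : ⇑(res F k h n) = ⇑(hpVia k q q' h F n) := funext fun x => res_eq_hpVia F k h n x
  rw [h1]
  exact (bijective_hpVia_iff k q q' h F n).2 (bijective_hp_of_isIso k _ n)

theorem res_eq_zero_iff {Z Z' : Scheme.{u}} {q : Z ⟶ X} {q' : Z' ⟶ X} (k : Z' ⟶ Z) [IsIso k]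
    (h : k ≫ q = q') (n : ℕ) (x : HQ F q n) : res F k h n x = 0 ↔ x = 0 :=
  ⟨fun e => (res_bijective F k h n).1 (e.trans (map_zero _).symm), fun e => by rw [e, map_zero]⟩

/-- Comparison of classes with coefficients in `(p⁻¹ F)` and in `F`. -/
noncomputable def cmp {Z : Scheme.{u}} (p : Z ⟶ X) {T : Scheme.{u}} (q : T ⟶ Z) {r : T ⟶ X}
    (h : q ≫ p = r) (n : ℕ) : HQ ((EtCoh.pull p).obj F) q n →+ HQ F r n :=
  HHmap (th q p r h F) n

theorem cmp_bijective {Z : Scheme.{u}} (p : Z ⟶ X) {T : Scheme.{u}} (q : T ⟶ Z) {r : T ⟶ X}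
    (h : q ≫ p = r) (n : ℕ) : Function.Bijective (cmp F p q h n) :=
  HHmap_bijective _ n

theorem cmp_eq_zero_iff {Z : Scheme.{u}} (p : Z ⟶ X) {T : Scheme.{u}} (q : T ⟶ Z) {r : T ⟶ X}
    (h : q ≫ p = r) (n : ℕ) (x : HQ ((EtCoh.pull p).obj F) q n) : cmp F p q h n x = 0 ↔ x = 0 :=
  ⟨fun e => (cmp_bijective F p q h n).1 (e.trans (map_zero _).symm), fun e => by rw [e, map_zero]⟩

theorem res_cmp {Z : Scheme.{u}} (p : Z ⟶ X) {T T' : Scheme.{u}} (q : T ⟶ Z) {r : T ⟶ X}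
    (h : q ≫ p = r) (q' : T' ⟶ Z) {r' : T' ⟶ X} (h' : q' ≫ p = r') (k : T' ⟶ T) (hk : k ≫ q = q')
    (hk' : k ≫ r = r') (n : ℕ) (x : HQ ((EtCoh.pull p).obj F) q n) :
    res F k hk' n (cmp F p q h n x) = cmp F p q' h' n (res ((EtCoh.pull p).obj F) k hk n x) := by
  rw [res_apply, res_apply, cmp, cmp, hp_map, ← HHmap_comp, ← HHmap_comp,
    th_assoc k q p q' r r' hk h hk' h' F]

/-- `cmp` followed by `res`. -/
noncomputable def resCmp {Z : Scheme.{u}} (p : Z ⟶ X) {T T' : Scheme.{u}} (q : T ⟶ Z) {r : T ⟶ X}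
    (h : q ≫ p = r) (k : T' ⟶ T) {r' : T' ⟶ X} (hk : k ≫ r = r') (n : ℕ) :
    HQ ((EtCoh.pull p).obj F) q n →+ HQ F r' n :=
  (res F k hk n).comp (cmp F p q h n)

theorem resCmp_apply {Z : Scheme.{u}} (p : Z ⟶ X) {T T' : Scheme.{u}} (q : T ⟶ Z) {r : T ⟶ X}
    (h : q ≫ p = r) (k : T' ⟶ T) {r' : T' ⟶ X} (hk : k ≫ r = r') (n : ℕ)
    (x : HQ ((EtCoh.pull p).obj F) q n) :
    resCmp F p q h k hk n x = res F k hk n (cmp F p q h n x) := by
  rw [resCmp, AddMonoidHom.comp_apply]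

theorem resCmp_bijective {Z : Scheme.{u}} (p : Z ⟶ X) {T T' : Scheme.{u}} (q : T ⟶ Z) {r : T ⟶ X}
    (h : q ≫ p = r) (k : T' ⟶ T) [IsIso k] {r' : T' ⟶ X} (hk : k ≫ r = r') (n : ℕ) :
    Function.Bijective (resCmp F p q h k hk n) := by
  have h1 : ⇑(resCmp F p q h k hk n) = ⇑(res F k hk n) ∘ ⇑(cmp F p q h n) :=
    funext fun x => resCmp_apply F p q h k hk n x
  rw [h1]
  exact (res_bijective F k hk n).comp (cmp_bijective F p q h n)

theorem resCmp_eq_zero_iff {Z : Scheme.{u}} (p : Z ⟶ X) {T T' : Scheme.{u}} (q : T ⟶ Z) {r : T ⟶ X}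
    (h : q ≫ p = r) (k : T' ⟶ T) [IsIso k] {r' : T' ⟶ X} (hk : k ≫ r = r') (n : ℕ)
    (x : HQ ((EtCoh.pull p).obj F) q n) : resCmp F p q h k hk n x = 0 ↔ x = 0 :=
  ⟨fun e => (resCmp_bijective F p q h k hk n).1 (e.trans (map_zero _).symm),
    fun e => by rw [e, map_zero]⟩

/-- Restriction of comparison classes. -/
theorem res_resCmp {Z : Scheme.{u}} (p : Z ⟶ X) {T T' S S' : Scheme.{u}} (q : T ⟶ Z) {r : T ⟶ X}
    (h : q ≫ p = r) (k : S ⟶ T) {s : S ⟶ X} (hk : k ≫ r = s)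
    (q' : T' ⟶ Z) {r' : T' ⟶ X} (h' : q' ≫ p = r') (k' : S' ⟶ T') {s' : S' ⟶ X} (hk' : k' ≫ r' = s')
    (a : T' ⟶ T) (ha : a ≫ q = q') (b : S' ⟶ S) (hb : b ≫ s = s') (e : b ≫ k = k' ≫ a) (n : ℕ)
    (x : HQ ((EtCoh.pull p).obj F) q n) :
    res F b hb n (resCmp F p q h k hk n x) =
      resCmp F p q' h' k' hk' n (res ((EtCoh.pull p).obj F) a ha n x) := by
  have e1 : a ≫ r = r' := by rw [← h, ← h', ← ha, Category.assoc]
  have e2 : (b ≫ k) ≫ r = s' := by rw [Category.assoc, hk, hb]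
  rw [resCmp_apply, resCmp_apply, res_res F k hk b hb (b ≫ k) rfl e2 n,
    ← res_cmp F p q h q' h' a ha e1 n x, res_res F a e1 k' hk' (b ≫ k) e.symm e2 n]

end HQ

section HZ

variable {X Y : Scheme.{u}} (f : X ⟶ Y) (F : EtCoh.Ab X) (n : ℕ)

/-- All classes in `H^n(X ×_Y Z, F)` die étale locally on `Z`. -/
structure HZ {Z : Scheme.{u}} (z : Z ⟶ Y) : Prop where
  out : ∀ (ξ : HQ F (pullback.fst f z) n) (x : Z), ∃ (W : Scheme.{u}) (a : W ⟶ Z) (_ : Etale a) (y : W)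
    (w : W ⟶ Y) (h : a ≫ z = w), a y = x ∧ res F (mZ f a h) (mZ_fst f a h) n ξ = 0

variable {f F n}

/-- `HZ` is étale local. -/
theorem HZ.of_local {Z : Scheme.{u}} {z : Z ⟶ Y}
    (H : ∀ x : Z, ∃ (W : Scheme.{u}) (a : W ⟶ Z) (_ : Etale a) (y : W) (w : W ⟶ Y) (_ : a ≫ z = w),
      a y = x ∧ HZ f F n w) : HZ f F n z := by
  refine ⟨fun ξ x => ?_⟩
  obtain ⟨W, a, ha, y, w, hw, hy, hW⟩ := H x
  obtain ⟨W', a', ha', y', w', hw', hy', h⟩ := hW.out (res F (mZ f a hw) (mZ_fst f a hw) n ξ) y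
  have hw'' : (a' ≫ a) ≫ z = w' := by rw [Category.assoc, hw, hw']
  refine ⟨W', a' ≫ a, inferInstance, y', w', hw'', ?_, ?_⟩
  · rw [Scheme.Hom.comp_apply, hy', hy]
  · rw [← h]
    exact (res_res F _ _ _ _ _ (mZ_mZ f a hw a' hw' _ _ rfl) _ n ξ).symm

end HZ

section Iso

variable {X Y X' Y' : Scheme.{u}} {f : X ⟶ Y} {g : Y' ⟶ Y} {f' : X' ⟶ Y'} {g' : X' ⟶ X}
  (hsq : IsPullback g' f' f g) (F : EtCoh.Ab X) (n : ℕ)

/-- The comparison `X ×_Y U ⟶ X' ×_{Y'} U`. -/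
noncomputable def eP (U : Y'.Etale) (u : U.left ⟶ Y) (hu : U.hom ≫ g = u) :
    pullback f u ⟶ ((EtCoh.bc f').obj U).left := (eU hsq U u hu).hom

instance (U : Y'.Etale) (u : U.left ⟶ Y) (hu : U.hom ≫ g = u) : IsIso (eP hsq U u hu) :=
  inferInstanceAs (IsIso (eU hsq U u hu).hom)

theorem eP_pr (U : Y'.Etale) (u : U.left ⟶ Y) (hu : U.hom ≫ g = u) :
    eP hsq U u hu ≫ pr f' U ≫ g' = pullback.fst f u := eU_hom_fst hsq U u hu

theorem eP_mm {U W : Y'.Etale} (a : W ⟶ U) (u : U.left ⟶ Y) (hu : U.hom ≫ g = u) (w : W.left ⟶ Y)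
    (hw : W.hom ≫ g = w) (h : a.left ≫ u = w) :
    mZ f a.left h ≫ eP hsq U u hu = eP hsq W w hw ≫ mm f' a :=
  (eU_bc hsq a u hu w hw h).symm

include hsq in
/-- The vanishing criterion `RpushLoc.LocZero` for a base change of `f`, in terms of `HZ` for `f`. -/
theorem hz_of_locZero (H : LocZero f' ((EtCoh.pull g').obj F) n)
      (U : Y'.Etale) (u : U.left ⟶ Y) (hu : U.hom ≫ g = u) : HZ f F n u := by
  refine ⟨fun ξ x => ?_⟩
  obtain ⟨ξ', hξ'⟩ := (resCmp_bijective F g' (pr f' U) rfl (eP hsq U u hu) (eP_pr hsq U u hu) n).2 ξ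
  obtain ⟨V', k, v', hv', h0⟩ := H U ξ' x
  obtain ⟨w, hw⟩ : ∃ w : V'.left ⟶ Y, V'.hom ≫ g = w := ⟨_, rfl⟩
  have h : k.left ≫ u = w := by rw [← hw, ← hu, ← Category.assoc, EtpbcB.Big.et_w]
  refine ⟨V'.left, k.left, inferInstance, v', w, h, hv', ?_⟩
  have h2 := res_resCmp F g' (pr f' U) rfl (eP hsq U u hu) (eP_pr hsq U u hu)
    (pr f' V') rfl (eP hsq V' w hw) (eP_pr hsq V' w hw) (mm f' k) (mm_pr f' k)
    (mZ f k.left h) (mZ_fst f k.left h) (eP_mm hsq k u hu w hw h) n ξ'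
  rw [h0, map_zero, hξ'] at h2
  exact h2

include hsq in
theorem locZero_of_hz (H : ∀ (U : Y'.Etale) (u : U.left ⟶ Y), U.hom ≫ g = u → HZ f F n u) :
    LocZero f' ((EtCoh.pull g').obj F) n := by
  intro V ξ v
  obtain ⟨u, hu⟩ : ∃ u : V.left ⟶ Y, V.hom ≫ g = u := ⟨_, rfl⟩
  obtain ⟨W, a, ha, y, w, h, hy, h0⟩ :=
    (H V u hu).out (resCmp F g' (pr f' V) rfl (eP hsq V u hu) (eP_pr hsq V u hu) n ξ) v
  let V' : Y'.Etale := Scheme.Etale.mk (a ≫ V.hom)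
  have hw : V'.hom ≫ g = w := by rw [← h, ← hu]; exact Category.assoc _ _ _
  let k : V' ⟶ V := EtpbcB.Big.etHom a rfl
  refine ⟨V', k, y, hy, ?_⟩
  have h1 := res_resCmp F g' (pr f' V) rfl (eP hsq V u hu) (eP_pr hsq V u hu)
    (pr f' V') rfl (eP hsq V' w hw) (eP_pr hsq V' w hw) (mm f' k) (mm_pr f' k)
    (mZ f k.left h) (mZ_fst f k.left h) (eP_mm hsq k u hu w hw h) n ξ
  exact (resCmp_eq_zero_iff F g' (pr f' V') rfl (eP hsq V' w hw) (eP_pr hsq V' w hw) n _).1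
    (h1.symm.trans h0)

include hsq in
/-- Vanishing of the higher direct image of a base change in terms of `HZ`. -/
theorem isZero_Rpush_iff_hz :
    IsZero ((EtCoh.Rpush f' (n + 1)).obj ((EtCoh.pull g').obj F)) ↔
      ∀ (U : Y'.Etale) (u : U.left ⟶ Y), U.hom ≫ g = u → HZ f F (n + 1) u :=
  (isZero_Rpush_iff f' ((EtCoh.pull g').obj F) n).trans
    ⟨fun H => hz_of_locZero hsq F (n + 1) H, fun H => locZero_of_hz hsq F (n + 1) H⟩

end Iso

section Limit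

/-- `colim_j H^n(D_j, G) ⟶ H^n(lim D_j, G)` is surjective for cofiltered systems of qcqs schemes with affine
transition maps. -/
structure LimSurj (n : ℕ) : Prop where
  out : ∀ {I : Type u} [SmallCategory I] [IsCofiltered I] (D : I ⥤ Scheme.{u})
    [∀ {i j} (f : i ⟶ j), IsAffineHom (D.map f)] [∀ i, CompactSpace (D.obj i)]
    [∀ i, QuasiSeparatedSpace (D.obj i)] (c : Cone D) (_ : IsLimit c) {X : Scheme.{u}}
    (t : ∀ j, D.obj j ⟶ X) (_ : ∀ {i j} (f : i ⟶ j), D.map f ≫ t j = t i) (q : c.pt ⟶ X)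
    (hq : ∀ j, c.π.app j ≫ t j = q) (G : EtCoh.Ab X) (ξ : HQ G q n),
    ∃ (j : I) (ξj : HQ G (t j) n), res G (c.π.app j) (hq j) n ξj = ξ

variable {K : Type u} [SmallCategory K] [IsCofiltered K] {T : K ⥤ Scheme.{u}}
  [∀ {a b : K} (φ : a ⟶ b), IsAffineHom (T.map φ)] [∀ a, CompactSpace (T.obj a)]
  [∀ a, QuasiSeparatedSpace (T.obj a)] {c : Cone T} (hc : IsLimit c)
  {X Y : Scheme.{u}} {f : X ⟶ Y} [QuasiCompact f] [QuasiSeparated f] {F : EtCoh.Ab X}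
  (τ : ∀ a, T.obj a ⟶ Y) (hτ : ∀ ⦃a b : K⦄ (h : a ⟶ b), T.map h ≫ τ b = τ a)
  {t : c.pt ⟶ Y} (ht : ∀ a, c.π.app a ≫ τ a = t) {n : ℕ}

include hc hτ in
theorem exists_stage (hL : LimSurj.{u} n) (ξ : HQ F (pullback.fst f t) n) :
    ∃ (j : K) (ξj : HQ F (pullback.fst f (τ j)) n),
      res F (mZ f (c.π.app j) (ht j)) (mZ_fst f (c.π.app j) (ht j)) n ξj = ξ := by
  have i1 : ∀ {a b : K} (φ : a ⟶ b), IsAffineHom ((PullbackSys.sys T τ hτ f).map φ) := fun φ =>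
    PullbackSys.isAffineHom_mapp T τ hτ f (fun _ _ _ => inferInstance) φ
  have i2 : ∀ a, CompactSpace ((PullbackSys.sys T τ hτ f).obj a) :=
    fun a => PullbackSys.compactSpace_obj T τ hτ f a
  have i3 : ∀ a, QuasiSeparatedSpace ((PullbackSys.sys T τ hτ f).obj a) :=
    fun a => PullbackSys.quasiSeparatedSpace_obj T τ hτ f a
  exact hL.out (PullbackSys.sys T τ hτ f) (PullbackSys.cone T τ hτ f c t ht)
    (PullbackSys.isLimitCone T τ hτ f c t ht hc) (fun a => pullback.fst f (τ a))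
    (fun φ => PullbackSys.mapp_fst T τ hτ f φ) (pullback.fst f t)
    (fun a => PullbackSys.proj_fst T τ f c t ht a) F ξ

include hc hτ ht in
theorem hz_limit (hL : LimSurj.{u} n) (H : ∀ a, HZ f F n (τ a)) : HZ f F n t := by
  refine ⟨fun ξ x => ?_⟩
  obtain ⟨j, ξj, hj⟩ := exists_stage hc τ hτ ht hL ξ
  obtain ⟨W, a, ha, y, w, hw, hy, h⟩ := (H j).out ξj (c.π.app j x)
  obtain ⟨p, hp1, hp2⟩ := Scheme.Pullback.exists_preimage_pullback (f := a) (g := c.π.app j) y x hy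
  obtain ⟨w', hw'⟩ : ∃ w' : pullback a (c.π.app j) ⟶ Y, pullback.fst a (c.π.app j) ≫ w = w' := ⟨_, rfl⟩
  have h1 : pullback.snd a (c.π.app j) ≫ t = w' := by
    rw [← ht j, ← hw', ← hw, ← Category.assoc, ← pullback.condition, Category.assoc]
  have h2 : (pullback.snd a (c.π.app j) ≫ c.π.app j) ≫ τ j = w' := by
    rw [Category.assoc, ht j, h1]
  refine ⟨pullback a (c.π.app j), pullback.snd _ _, inferInstance, p, w', h1, hp2, ?_⟩
  have e1 := res_res F (mZ f (c.π.app j) (ht j)) (mZ_fst f (c.π.app j) (ht j))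
    (mZ f (pullback.snd a (c.π.app j)) h1) (mZ_fst f _ h1) (mZ f _ h2)
    (mZ_mZ f (c.π.app j) (ht j) (pullback.snd a (c.π.app j)) h1 _ h2 rfl) (mZ_fst f _ h2) n ξj
  have e2 := res_res F (mZ f a hw) (mZ_fst f a hw)
    (mZ f (pullback.fst a (c.π.app j)) hw') (mZ_fst f _ hw') (mZ f _ h2)
    (mZ_mZ f a hw (pullback.fst a (c.π.app j)) hw' _ h2 pullback.condition) (mZ_fst f _ h2) n ξj
  rw [← hj, e1, ← e2, h, map_zero]

end Limit

section Main

open Groth.Agent.Ega43.LimDesc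

variable {I : Type u} [SmallCategory I] [IsCofiltered I] {D : I ⥤ Scheme.{u}}
  [∀ {a b : I} (φ : a ⟶ b), IsAffineHom (D.map φ)] {c : Cone D} (hc : IsLimit c)
  {X Y : Scheme.{u}} {f : X ⟶ Y} [QuasiCompact f] [QuasiSeparated f] {F : EtCoh.Ab X}
  (τ : ∀ a, D.obj a ⟶ Y) (hτ : ∀ ⦃a b : I⦄ (h : a ⟶ b), D.map h ≫ τ b = τ a)
  {t : c.pt ⟶ Y} (ht : ∀ a, c.π.app a ≫ τ a = t) {n : ℕ} (hL : LimSurj.{u} (n + 1))

include hc hτ ht hL in
/-- If `R^{n+1}` of the base change of `f` to all stages of a cofiltered system of `Y`-schemes with affine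
transition maps kills `F`, then all étale schemes over the limit satisfy `HZ`. -/
theorem hz_of_limit
    (H : ∀ a, IsZero ((EtCoh.Rpush (pullback.snd f (τ a)) (n + 1)).obj
      ((EtCoh.pull (pullback.fst f (τ a))).obj F)))
    {U : Scheme.{u}} (g : U ⟶ c.pt) [Etale g] (u : U ⟶ Y) (hu : g ≫ t = u) :
    HZ f F (n + 1) u := by
  apply HZ.of_local
  intro x
  obtain ⟨i, W, w, hw, hW, k, hk, z, hkw, hz⟩ :=
    Groth.Agent.Etcore.EtaleDescend.exists_etale_nhd_isOpenImmersion D c hc g x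
  let σ : (bcCone D c w).pt ≅ pullback w (c.π.app i) := pullbackSymmetry (c.π.app i) w
  have hσ : σ.hom ≫ pullback.snd w (c.π.app i) = bcPtFst D c w := pullbackSymmetry_hom_comp_snd _ _
  have ha : ∀ φ : Over i, HZ f F (n + 1) (bcFst D w φ ≫ τ φ.left) := by
    intro φ
    have het : Etale (bcFst D w φ) := inferInstanceAs (Etale (pullback.fst (D.map φ.hom) w))
    exact (isZero_Rpush_iff_hz (IsPullback.of_hasPullback f (τ φ.left)) F n).1 (H φ.left)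
      (Scheme.Etale.mk (bcFst D w φ)) _ rfl
  have hτ' : ∀ ⦃a b : Over i⦄ (h : a ⟶ b), (bc D w).map h ≫ bcFst D w b ≫ τ b.left =
      bcFst D w a ≫ τ a.left := by
    intro a b h
    rw [← Category.assoc, Ega43.LimDesc.bc_map_fst, Category.assoc, hτ]
  have ht' : ∀ a : Over i, (bcCone D c w).π.app a ≫ bcFst D w a ≫ τ a.left = bcPtFst D c w ≫ t := by
    intro a
    rw [← Category.assoc, bcCone_π_fst, Category.assoc, ht]
  refine ⟨(bcCone D c w).pt, σ.hom ≫ k, inferInstance, σ.inv z,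
    bcPtFst D c w ≫ t, ?_, ?_, ?_⟩
  · rw [← hu, Category.assoc, ← Category.assoc k, hkw, ← Category.assoc, hσ]
  · rw [← Scheme.Hom.comp_apply, Iso.inv_hom_id_assoc, hz]
  · exact hz_limit (T := bc D w) (bcIsLimit D c w hc) (fun φ => bcFst D w φ ≫ τ φ.left) hτ' ht' hL ha

include hc hτ ht hL in
/-- If `R^{n+1}` of the base change of `f` to all stages of a cofiltered system of `Y`-schemes with affine
transition maps kills `F`, then so does `R^{n+1}` of the base change to the limit. -/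
theorem isZero_Rpush_of_limit'
    (H : ∀ a, IsZero ((EtCoh.Rpush (pullback.snd f (τ a)) (n + 1)).obj
      ((EtCoh.pull (pullback.fst f (τ a))).obj F)))
    {X' : Scheme.{u}} (f' : X' ⟶ c.pt) (g' : X' ⟶ X) (hsq : IsPullback g' f' f t) :
    IsZero ((EtCoh.Rpush f' (n + 1)).obj ((EtCoh.pull g').obj F)) :=
  (isZero_Rpush_iff_hz hsq F n).2
    (fun U u hu => hz_of_limit hc τ hτ ht hL H U.hom u hu)

end Main

end Groth.Agent.Etcore.LimBC1
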