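import Groth.Agent.Etcore.LimEt
import Groth.Agent.Etcore.HpullViaEq
import Groth.Agent.Etcore.HpullEq
import Mathlib.CategoryTheory.Filtered.Final

/-!
# The limit theorem for étale cohomology, in terms of `EtCoh.H`
-/

set_option autoImplicit false
set_option backward.isDefEq.respectTransparency.types false
universe u

open CategoryTheory CategoryTheory.Limits CategoryTheory.Abelian AlgebraicGeometry Opposite
open scoped Groth.Agent.Etcore.EtInst

namespace Groth.Agent.Etcore.LimEtH

open LimDeg0 EtInst HpullCalc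

variable {I : Type u} [SmallCategory I] [IsCofiltered I] (D : I ⥤ Scheme.{u})
    [∀ {i j} (f : i ⟶ j), IsAffineHom (D.map f)] [∀ i, CompactSpace (D.obj i)]
    [∀ i, QuasiSeparatedSpace (D.obj i)] (c : Cone D) (hc : IsLimit c) {X : Scheme.{u}}
    (t : ∀ i, D.obj i ⟶ X) (ht : ∀ {x y : I} (f : x ⟶ y), D.map f ≫ t y = t x)
    (q : c.pt ⟶ X) (hq : ∀ j, c.π.app j ≫ t j = q)
    (G : EtCoh.Ab X) (n : ℕ)

include hc ht in
theorem surj_hpVia [∀ j, PreservesFiniteLimits (EtCoh.pull (c.π.app j))]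
    (ξ : HH c.pt ((EtCoh.pull q).obj G) n) :
    ∃ (j : I) (x : HH (D.obj j) ((EtCoh.pull (t j)).obj G) n),
      hpVia (c.π.app j) (t j) q (hq j) G n x = ξ :=
  LimEt.exists_hpVia_eq (D := D) (S := c.pt) (fun i => c.π.app i) (fun f => c.w f) hc t ht hq G n ξ

include hc ht in
theorem inj_hpVia [∀ j, PreservesFiniteLimits (EtCoh.pull (c.π.app j))]
    [∀ {i j : I} (f : i ⟶ j), PreservesFiniteLimits (EtCoh.pull (D.map f))] (j : I)
    (x : HH (D.obj j) ((EtCoh.pull (t j)).obj G) n)
    (hx : hpVia (c.π.app j) (t j) q (hq j) G n x = 0) :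
    ∃ (k : I) (f : k ⟶ j), HpullCalc.hp (D.map f) _ n x = 0 :=
  LimEt.exists_hp_eq_zero (D := D) (S := c.pt) (fun i => c.π.app i) (fun f => c.w f) hc t ht hq G n
    j x hx

include hc ht in
/-- Every étale cohomology class on the limit is pulled back from a finite stage. -/
theorem surj [∀ j, PreservesFiniteLimits (EtCoh.pull (c.π.app j))]
    (ξ : EtCoh.H c.pt ((EtCoh.pull q).obj G) n) :
    ∃ (j : I) (x : EtCoh.H (D.obj j) ((EtCoh.pull (t j)).obj G) n),
      EtCore.HpullVia (c.π.app j) (t j) q (hq j) G n x = ξ :=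
  surj_hpVia D c hc t ht q hq G n ξ

include hc ht in
/-- An étale cohomology class at a finite stage which dies on the limit dies at a finite stage. -/
theorem inj [∀ j, PreservesFiniteLimits (EtCoh.pull (c.π.app j))]
    [∀ {i j : I} (f : i ⟶ j), PreservesFiniteLimits (EtCoh.pull (D.map f))] (j : I)
    (x : EtCoh.H (D.obj j) ((EtCoh.pull (t j)).obj G) n)
    (hx : EtCore.HpullVia (c.π.app j) (t j) q (hq j) G n x = 0) :
    ∃ (k : I) (f : k ⟶ j), EtCore.Hpull (D.map f) _ n x = 0 :=
  inj_hpVia D c hc t ht q hq G n j x hx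

end Groth.Agent.Etcore.LimEtH
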