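import Mathlib.CategoryTheory.Sites.SheafCohomology.Basic
import Mathlib.CategoryTheory.Sites.LocallySurjective
import Mathlib.CategoryTheory.Sites.EpiMono
import Mathlib.Algebra.Homology.DerivedCategory.Ext.ExactSequences

/-!
# The free abelian sheaf on an object, in an arbitrary universe

For a site `(C, J)` and abelian sheaves valued in `AddCommGrpCat.{w}` with `w ≥ v`:
* `Z J U`, its canonical section `gen J U`, `Zmap J h`;
* `IsGen p`: the pair `(P, p ∈ P(U))` corepresents `F ↦ F(U)`;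
* `isGen_gen`, `IsGen.desc`, `IsGen.hom_ext`;
* `exists_cover_kill`: positive degree classes in `Ext (P) F` die locally.
-/

set_option autoImplicit false
universe w' w v u

open CategoryTheory CategoryTheory.Abelian CategoryTheory.Limits Opposite

namespace Groth.Agent.Etcore.ZU

variable {C : Type u} [Category.{v} C] {J : GrothendieckTopology C}

section Gen

/-- The pair `(P, p)`, `p ∈ P(U)`, corepresents the functor of sections over `U`. -/
def IsGen {P : Sheaf J AddCommGrpCat.{w}} {U : C} (p : P.obj.obj (op U)) : Prop :=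
  ∀ F : Sheaf J AddCommGrpCat.{w}, Function.Bijective (fun φ : P ⟶ F => φ.hom.app (op U) p)

variable {P : Sheaf J AddCommGrpCat.{w}} {U : C} {p : P.obj.obj (op U)}

theorem IsGen.hom_ext (hp : IsGen p) {F : Sheaf J AddCommGrpCat.{w}} {a b : P ⟶ F}
    (h : a.hom.app (op U) p = b.hom.app (op U) p) : a = b := (hp F).1 h

/-- The morphism attached to a section. -/
noncomputable def IsGen.desc (hp : IsGen p) {F : Sheaf J AddCommGrpCat.{w}}
    (s : F.obj.obj (op U)) : P ⟶ F := ((hp F).2 s).choose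

@[simp]
theorem IsGen.desc_app (hp : IsGen p) {F : Sheaf J AddCommGrpCat.{w}} (s : F.obj.obj (op U)) :
    (hp.desc s).hom.app (op U) p = s := ((hp F).2 s).choose_spec

theorem IsGen.desc_eq (hp : IsGen p) {F : Sheaf J AddCommGrpCat.{w}} (φ : P ⟶ F) :
    hp.desc (φ.hom.app (op U) p) = φ := hp.hom_ext (hp.desc_app _)

theorem IsGen.desc_comp (hp : IsGen p) {F G : Sheaf J AddCommGrpCat.{w}} (s : F.obj.obj (op U))
    (a : F ⟶ G) : hp.desc s ≫ a = hp.desc (a.hom.app (op U) s) := by
  apply hp.hom_ext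
  rw [hp.desc_app]
  exact congrArg (a.hom.app (op U)) (hp.desc_app s)

/-- Two corepresenting pairs for the same object are isomorphic. -/
noncomputable def IsGen.iso (hp : IsGen p) {Q : Sheaf J AddCommGrpCat.{w}} {q : Q.obj.obj (op U)}
    (hq : IsGen q) : P ≅ Q where
  hom := hp.desc q
  inv := hq.desc p
  hom_inv_id := by
    rw [hp.desc_comp, hq.desc_app]
    exact hp.desc_eq (𝟙 P)
  inv_hom_id := by
    rw [hq.desc_comp, hp.desc_app]
    exact hq.desc_eq (𝟙 Q)

/-- Hom as an additive equivalence. -/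
noncomputable def IsGen.homEquiv (hp : IsGen p) (F : Sheaf J AddCommGrpCat.{w}) :
    (P ⟶ F) ≃+ F.obj.obj (op U) where
  toFun φ := φ.hom.app (op U) p
  invFun s := hp.desc s
  left_inv φ := hp.desc_eq φ
  right_inv s := hp.desc_app s
  map_add' _ _ := rfl

end Gen

section Free

variable [HasSheafify J AddCommGrpCat.{max w v}]

variable (J) in
/-- The free abelian sheaf on an object of the site. -/
noncomputable def Z (U : C) : Sheaf J AddCommGrpCat.{max w v} :=
  (presheafToSheaf J AddCommGrpCat.{max w v}).obj (uliftYoneda.{w}.obj U ⋙ AddCommGrpCat.free)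

variable (J) in
/-- Functoriality of the free abelian sheaf. -/
noncomputable def Zmap {U V : C} (h : U ⟶ V) : Z.{w} J U ⟶ Z.{w} J V :=
  (presheafToSheaf J AddCommGrpCat.{max w v}).map
    (Functor.whiskerRight (uliftYoneda.{w}.map h) AddCommGrpCat.free)

instance Zmap_mono {U V : C} (h : U ⟶ V) [Mono h] : Mono (Zmap.{w} J h) := by
  have : Mono (Functor.whiskerRight (uliftYoneda.{w}.map h) AddCommGrpCat.free) := by
    have : ∀ W, Mono ((Functor.whiskerRight (uliftYoneda.{w}.map h)
        AddCommGrpCat.free).app W) := by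
      intro W
      rw [Functor.whiskerRight_app]
      infer_instance
    exact NatTrans.mono_of_mono_app _
  have : PreservesFiniteLimits (presheafToSheaf J AddCommGrpCat.{max w v}) := inferInstance
  exact (presheafToSheaf J AddCommGrpCat.{max w v}).map_mono _

variable (J) in
/-- The canonical section of the free abelian sheaf. -/
noncomputable def gen (U : C) : (Z.{w} J U).obj.obj (op U) :=
  (toSheafify J (uliftYoneda.{w}.obj U ⋙ AddCommGrpCat.free)).app (op U)
    (FreeAbelianGroup.of (ULift.up (𝟙 U)))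

theorem isGen_gen (U : C) : IsGen (gen.{w} J U) := by
  intro F
  let e1 : (Z.{w} J U ⟶ F) ≃ (uliftYoneda.{w}.obj U ⋙ AddCommGrpCat.free ⟶ F.obj) :=
    (sheafificationAdjunction J AddCommGrpCat.{max w v}).homEquiv _ _
  let e2 : (uliftYoneda.{w}.obj U ⋙ AddCommGrpCat.free ⟶ F.obj) ≃
      (uliftYoneda.{w}.obj U ⟶ F.obj ⋙ forget AddCommGrpCat) :=
    (AddCommGrpCat.adj.whiskerRight Cᵒᵖ).homEquiv _ _
  let e3 : (uliftYoneda.{w}.obj U ⟶ F.obj ⋙ forget AddCommGrpCat) ≃ F.obj.obj (op U) :=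
    uliftYonedaEquiv
  have : (fun φ : Z.{w} J U ⟶ F => φ.hom.app (op U) (gen.{w} J U)) = (e1.trans (e2.trans e3)) := by
    ext f
    rfl
  rw [this]
  exact Equiv.bijective _

theorem Zmap_gen {U V : C} (h : U ⟶ V) :
    (Zmap.{w} J h).hom.app (op U) (gen.{w} J U) = (Z.{w} J V).obj.map h.op (gen.{w} J V) := by
  have h1 := toSheafify_naturality J
    (Functor.whiskerRight (uliftYoneda.{w}.map h) AddCommGrpCat.free)
  have h2 := congr_arg (fun α => α.app (op U) (FreeAbelianGroup.of (ULift.up (𝟙 U)))) h1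
  have h3 := (toSheafify J (uliftYoneda.{w}.obj V ⋙ AddCommGrpCat.free)).naturality h.op
  have h4 := ConcreteCategory.congr_hom h3 (FreeAbelianGroup.of (ULift.up (𝟙 V)))
  refine h2.symm.trans (Eq.trans ?_ h4)
  change (toSheafify J (uliftYoneda.{w}.obj V ⋙ AddCommGrpCat.free)).app (op U)
      (FreeAbelianGroup.map (fun g : ULift.{w} (U ⟶ U) => ULift.up (g.down ≫ h))
        (FreeAbelianGroup.of (ULift.up (𝟙 U)))) =
    (toSheafify J (uliftYoneda.{w}.obj V ⋙ AddCommGrpCat.free)).app (op U)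
      (FreeAbelianGroup.map (fun g : ULift.{w} (V ⟶ V) => ULift.up (h ≫ g.down))
        (FreeAbelianGroup.of (ULift.up (𝟙 V))))
  rw [FreeAbelianGroup.map_of_apply, FreeAbelianGroup.map_of_apply, Category.id_comp,
    Category.comp_id]

theorem Zmap_comp {U V W : C} (h : U ⟶ V) (k : V ⟶ W) :
    Zmap.{w} J (h ≫ k) = Zmap.{w} J h ≫ Zmap.{w} J k := by
  apply (isGen_gen U).hom_ext
  rw [Zmap_gen]
  change _ = (Zmap.{w} J k).hom.app (op U) ((Zmap.{w} J h).hom.app (op U) (gen.{w} J U))
  rw [Zmap_gen]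
  have h3 := ConcreteCategory.congr_hom ((Zmap.{w} J k).hom.naturality h.op) (gen.{w} J V)
  refine Eq.trans ?_ h3.symm
  change _ = (Z.{w} J W).obj.map h.op ((Zmap.{w} J k).hom.app (op V) (gen.{w} J V))
  rw [Zmap_gen, op_comp, Functor.map_comp]
  rfl

/-- The morphism `Z U ⟶ F` attached to a section composed with `Zmap`. -/
theorem Zmap_desc {U V : C} (h : U ⟶ V) {F : Sheaf J AddCommGrpCat.{max w v}}
    (s : F.obj.obj (op V)) :
    Zmap.{w} J h ≫ (isGen_gen V).desc s = (isGen_gen U).desc (F.obj.map h.op s) := by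
  apply (isGen_gen U).hom_ext
  rw [(isGen_gen U).desc_app]
  change ((isGen_gen V).desc s).hom.app (op U) ((Zmap.{w} J h).hom.app (op U) (gen.{w} J U)) = _
  rw [Zmap_gen]
  have h3 := ConcreteCategory.congr_hom (((isGen_gen V).desc s).hom.naturality h.op) (gen.{w} J V)
  refine h3.trans ?_
  exact congrArg (F.obj.map h.op) ((isGen_gen V).desc_app s)

end Free

section Kill

variable [HasSheafify J AddCommGrpCat.{max w v}]
  [J.WEqualsLocallyBijective AddCommGrpCat.{max w v}]

/-- A map `Z_U ⟶ Q` lifts locally through an epimorphism `I ⟶ Q`. -/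
theorem exists_cover_factor {I Q : Sheaf J AddCommGrpCat.{max w v}} (p : I ⟶ Q) [Epi p] {U : C}
    (g : Z.{w} J U ⟶ Q) :
    ∃ S ∈ J U, ∀ ⦃V : C⦄ (f : V ⟶ U), S f → ∃ h : Z.{w} J V ⟶ I, Zmap.{w} J f ≫ g = h ≫ p := by
  have hp : Sheaf.IsLocallySurjective p := by
    rw [Sheaf.isLocallySurjective_iff_epi']
    infer_instance
  refine ⟨_, Presheaf.imageSieve_mem J p.hom (g.hom.app (op U) (gen J U)), fun V f hf => ?_⟩
  obtain ⟨t, ht⟩ := hf
  refine ⟨(isGen_gen V).desc t, ?_⟩
  apply (isGen_gen V).hom_ext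
  rw [(isGen_gen V).desc_comp, (isGen_gen V).desc_app]
  change g.hom.app (op V) ((Zmap.{w} J f).hom.app (op V) (gen.{w} J V)) = _
  rw [Zmap_gen]
  have h3 := ConcreteCategory.congr_hom (g.hom.naturality f.op) (gen.{w} J U)
  exact h3.trans ht.symm

variable [HasExt.{w'} (Sheaf J AddCommGrpCat.{max w v})]
  [EnoughInjectives (Sheaf J AddCommGrpCat.{max w v})]

/-- Every positive-degree class in `Ext (Z_U) F` dies on a covering. -/
theorem exists_cover_comp_eq_zero (n : ℕ) : ∀ (F : Sheaf J AddCommGrpCat.{max w v}) (U : C)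
    (ξ : Ext.{w'} (Z.{w} J U) F (n + 1)),
    ∃ S ∈ J U, ∀ ⦃V : C⦄ (f : V ⟶ U), S f →
      (Ext.mk₀ (Zmap.{w} J f)).comp ξ (zero_add (n + 1)) = 0 := by
  induction n with
  | zero =>
    intro F U ξ
    let S : ShortComplex (Sheaf J AddCommGrpCat.{max w v}) :=
      ShortComplex.mk (Injective.ι F) (Limits.cokernel.π (Injective.ι F))
        (Limits.cokernel.condition _)
    have hS : S.ShortExact :=
      { exact := ShortComplex.exact_cokernel _ }
    obtain ⟨x, hx⟩ := Ext.covariant_sequence_exact₁ _ hS ξ (Ext.eq_zero_of_injective _)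
      (n₀ := 0) (by rfl)
    obtain ⟨g, rfl⟩ := Ext.addEquiv₀.symm.surjective x
    obtain ⟨T, hT, hT'⟩ := exists_cover_factor S.g g
    refine ⟨T, hT, fun V f hf => ?_⟩
    obtain ⟨h, hh⟩ := hT' f hf
    rw [← hx, Ext.addEquiv₀_symm_apply, Ext.mk₀_comp_mk₀_assoc, hh, ← Ext.mk₀_comp_mk₀_assoc,
      hS.comp_extClass, Ext.comp_zero]
  | succ n ih =>
    intro F U ξ
    let S : ShortComplex (Sheaf J AddCommGrpCat.{max w v}) :=
      ShortComplex.mk (Injective.ι F) (Limits.cokernel.π (Injective.ι F))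
        (Limits.cokernel.condition _)
    have hS : S.ShortExact :=
      { exact := ShortComplex.exact_cokernel _ }
    obtain ⟨x, hx⟩ := Ext.covariant_sequence_exact₁ _ hS ξ (Ext.eq_zero_of_injective _)
      (n₀ := n + 1) (by rfl)
    obtain ⟨T, hT, hT'⟩ := ih S.X₃ U x
    refine ⟨T, hT, fun V f hf => ?_⟩
    rw [← hx, ← Ext.comp_assoc _ _ _ (zero_add _) _ (by lia), hT' f hf, Ext.zero_comp]

end Kill

end Groth.Agent.Etcore.ZU
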