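import Groth.Agent.Etcore.LocSec
import Groth.Agent.Etcore.ZU
import Groth.Agent.Etcore.ExtAdj
import Groth.Agent.Etcore.FastInst

/-!
# Localization of étale cohomology

* `one X` : the canonical section of `const X ℤ`; `isGen_one`.
* `extPull f hq t p` : `Ext P G n →+ Ext Q (f⁻¹ G) n` for `(Q, q)` a corepresenting pair,
  `p ∈ P(V)`, `t : W ⟶ V ×_Y X`.
* `HpullVia_extPull`, `Hpull_extPull`.
-/

set_option autoImplicit false
universe u
open CategoryTheory CategoryTheory.Limits CategoryTheory.Abelian AlgebraicGeometry Opposite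

namespace Groth.Agent.Etcore.Loc

open Groth.Agent.Etcore.LocSec Groth.Agent.Etcore.ZU Groth.Agent.Etcore.ExtAdj
open scoped Groth.Agent.Etcore.FastInst

section General

universe w w' v v' u1 u1'
variable {C : Type u1} [Category.{v} C] [Abelian C]
variable {D : Type u1'} [Category.{v'} D] [Abelian D]
variable (T : C ⥤ D) [T.Additive] [PreservesFiniteLimits T] [PreservesFiniteColimits T]
  [HasExt.{w} C] [HasExt.{w'} D]

/-- The map `Ext P G n → Ext Q (T G) n` given by `c : Q ⟶ T P`. -/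
noncomputable def extVia {P : C} {Q : D} (c : Q ⟶ T.obj P) (G : C) (n : ℕ) :
    Ext.{w} P G n →+ Ext.{w'} Q (T.obj G) n where
  toFun e := (Ext.mk₀ c).comp (e.mapExactFunctor T) (zero_add n)
  map_zero' := by simp
  map_add' := by intro x y; simp

theorem extVia_apply {P : C} {Q : D} (c : Q ⟶ T.obj P) (G : C) (n : ℕ) (e : Ext.{w} P G n) :
    extVia T c G n e = (Ext.mk₀ c).comp (e.mapExactFunctor T) (zero_add n) := rfl

theorem extVia_mk₀ {P : C} {Q : D} (c : Q ⟶ T.obj P) (G : C) (φ : P ⟶ G) :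
    extVia T c G 0 (Ext.mk₀ φ) = Ext.mk₀ (c ≫ T.map φ) := by
  rw [extVia_apply, Ext.mapExactFunctor_mk₀, Ext.mk₀_comp_mk₀]

theorem extVia_comp {P : C} {Q : D} (c : Q ⟶ T.obj P) {G G' : C} {n m k : ℕ} (h : n + m = k)
    (e : Ext.{w} P G n) (y : Ext.{w} G G' m) :
    extVia T c G' k (e.comp y h) = (extVia T c G n e).comp (y.mapExactFunctor T) h := by
  rw [extVia_apply, extVia_apply, Ext.mapExactFunctor_comp, Ext.comp_assoc _ _ _ _ _ (by lia)]

theorem extVia_precomp {P P' : C} {Q Q' : D} (c : Q ⟶ T.obj P) (c' : Q' ⟶ T.obj P')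
    (a : P' ⟶ P) (b : Q' ⟶ Q) (h : b ≫ c = c' ≫ T.map a) (G : C) (n : ℕ) (e : Ext.{w} P G n) :
    extVia T c' G n ((Ext.mk₀ a).comp e (zero_add n)) =
      (Ext.mk₀ b).comp (extVia T c G n e) (zero_add n) := by
  rw [extVia_apply, extVia_apply, Ext.mapExactFunctor_comp, Ext.mapExactFunctor_mk₀,
    Ext.mk₀_comp_mk₀_assoc, Ext.mk₀_comp_mk₀_assoc, h]

/-- If `T` is exact and preserves injectives and `c : Q ⟶ T P` induces bijections on `Hom`, then
it induces bijections on `Ext`. -/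
theorem extVia_bijective [EnoughInjectives C] [T.PreservesInjectiveObjects] {P : C} {Q : D}
    (c : Q ⟶ T.obj P) (h0 : ∀ G : C, Function.Bijective (fun φ : P ⟶ G => c ≫ T.map φ))
    (G : C) (n : ℕ) : Function.Bijective (extVia T c G n) := by
  induction n generalizing G with
  | zero =>
    have : (extVia T c G 0 : Ext.{w} P G 0 → Ext.{w'} Q (T.obj G) 0) =
        Ext.mk₀ ∘ (fun φ : P ⟶ G => c ≫ T.map φ) ∘ (Ext.homEquiv₀ : Ext.{w} P G 0 ≃ (P ⟶ G)) := by
      ext e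
      obtain ⟨φ, rfl⟩ := (Ext.mk₀_bijective P G).2 e
      change extVia T c G 0 (Ext.mk₀ φ) = Ext.mk₀ (c ≫ T.map (Ext.homEquiv₀ (Ext.mk₀ φ)))
      rw [extVia_mk₀]
      congr 3
      exact ((Ext.homEquiv₀ : Ext.{w} P G 0 ≃ (P ⟶ G)).apply_symm_apply φ).symm
    rw [this]
    exact (Ext.mk₀_bijective _ _).comp ((h0 G).comp (Equiv.bijective _))
  | succ n hn =>
    let I : InjectivePresentation G := Classical.arbitrary _
    let S := ShortComplex.mk _ _ (cokernel.condition I.f)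
    have hI0 : Injective S.X₂ := I.injective
    have hI : Injective (S.map T).X₂ :=
      Functor.PreservesInjectiveObjects.injective_obj I.injective
    have hS : S.ShortExact := { exact := ShortComplex.exact_cokernel I.f }
    have e1 : ∀ (x : Ext.{w} P S.X₂ n), extVia T c S.X₃ n (x.comp (Ext.mk₀ S.g) (add_zero n)) =
        (extVia T c S.X₂ n x).comp (Ext.mk₀ (S.map T).g) (add_zero n) := by
      intro x
      rw [extVia_comp, Ext.mapExactFunctor_mk₀]
      rfl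
    have e2 : ∀ (x : Ext.{w} P S.X₃ n), extVia T c S.X₁ (n + 1) (x.comp hS.extClass rfl) =
        (extVia T c S.X₃ n x).comp (hS.map_of_exact T).extClass rfl := by
      intro x
      rw [extVia_comp, Ext.mapExactFunctor_extClass]
      rfl
    constructor
    · rw [injective_iff_map_eq_zero]
      intro x hx
      obtain ⟨y, rfl⟩ := Ext.covariant_sequence_exact₁ P hS x
        (Ext.eq_zero_of_injective _) (rfl : n + 1 = n + 1)
      have hy := (e2 y).symm.trans hx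
      obtain ⟨z, hz⟩ := Ext.covariant_sequence_exact₃ Q (hS.map_of_exact T)
        (extVia T c S.X₃ n y) rfl hy
      obtain ⟨z', rfl⟩ := (hn S.X₂).2 z
      have : y = z'.comp (Ext.mk₀ S.g) (add_zero n) := by
        apply (hn S.X₃).1
        rw [e1]
        exact hz.symm
      rw [this, Ext.comp_assoc_of_second_deg_zero, hS.comp_extClass, Ext.comp_zero]
    · intro y
      obtain ⟨z, hz⟩ := Ext.covariant_sequence_exact₁ Q (hS.map_of_exact T) y
        (Ext.eq_zero_of_injective _) (rfl : n + 1 = n + 1)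
      obtain ⟨z', rfl⟩ := (hn S.X₃).2 z
      exact ⟨z'.comp hS.extClass rfl, (e2 z').trans hz⟩

end General

variable {X Y Z : Scheme.{u}}

/-- The canonical section `1` of the constant sheaf `ℤ`. -/
noncomputable def one (X : Scheme.{u}) : EtCoh.sect (EtCoh.const X ℤ) (EtCoh.top X) :=
  (EtCore.constAdj X).unit.app (AddCommGrpCat.of (ULift.{u + 1} ℤ)) (ULift.up 1)

theorem isGen_one (X : Scheme.{u}) : IsGen (one X) := by
  intro F
  let e1 : (EtCoh.const X ℤ ⟶ F) ≃ (AddCommGrpCat.of (ULift.{u + 1} ℤ) ⟶ (EtCore.gsec X).obj F) :=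
    (EtCore.constAdj X).homEquiv _ _
  let e2 := AddCommGrpCat.uliftZMultiplesAddEquiv ((EtCore.gsec X).obj F)
  have : (fun φ : EtCoh.const X ℤ ⟶ F => φ.hom.app (op (EtCoh.top X)) (one X)) = e2 ∘ e1 := by
    ext φ
    have h := (EtCore.constAdj X).homEquiv_unit (X := AddCommGrpCat.of (ULift.{u + 1} ℤ))
      (Y := F) (f := φ)
    change _ = e2 ((EtCore.constAdj X).homEquiv _ _ φ)
    rw [h]
    rfl
  rw [this]
  exact e2.bijective.comp e1.bijective

theorem hext {Q F : EtCoh.Ab X} {W : X.Etale} {q : EtCoh.sect Q W} (hq : IsGen q) {a b : Q ⟶ F}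
    (h : app a W q = app b W q) : a = b := hq.hom_ext h

/-- The morphism attached to a section (typed with `EtCoh.sect`). -/
noncomputable def ofSec {Q F : EtCoh.Ab X} {W : X.Etale} {q : EtCoh.sect Q W} (hq : IsGen q)
    (s : EtCoh.sect F W) : Q ⟶ F := hq.desc s

theorem app_ofSec {Q F : EtCoh.Ab X} {W : X.Etale} {q : EtCoh.sect Q W} (hq : IsGen q)
    (s : EtCoh.sect F W) : app (ofSec hq s) W q = s := hq.desc_app s

theorem ofSec_app {Q F : EtCoh.Ab X} {W : X.Etale} {q : EtCoh.sect Q W} (hq : IsGen q)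
    (a : Q ⟶ F) : ofSec hq (app a W q) = a := hext hq (app_ofSec hq _)

theorem ofSec_comp {Q F G : EtCoh.Ab X} {W : X.Etale} {q : EtCoh.sect Q W} (hq : IsGen q)
    (s : EtCoh.sect F W) (a : F ⟶ G) : ofSec hq s ≫ a = ofSec hq (app a W s) := by
  apply hext hq
  rw [app_comp, app_ofSec, app_ofSec]

section Ext

variable {P : EtCoh.Ab Y} {Q : EtCoh.Ab X} {V : Y.Etale} {W : X.Etale}
  {q : EtCoh.sect Q W} (hq : IsGen q)

/-- The morphism `Q ⟶ f⁻¹ P`. -/
noncomputable def cmap (f : X ⟶ Y) (t : W ⟶ (EtCoh.bc f).obj V) (p : EtCoh.sect P V) :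
    Q ⟶ (EtCoh.pull f).obj P := ofSec hq (secPull f t P p)

theorem app_cmap (f : X ⟶ Y) (t : W ⟶ (EtCoh.bc f).obj V) (p : EtCoh.sect P V) :
    app (cmap hq f t p) W q = secPull f t P p := app_ofSec hq _

theorem cmap_map (f : X ⟶ Y) (t : W ⟶ (EtCoh.bc f).obj V) (p : EtCoh.sect P V)
    {G : EtCoh.Ab Y} (φ : P ⟶ G) :
    cmap hq f t p ≫ (EtCoh.pull f).map φ = ofSec hq (secPull f t G (app φ V p)) := by
  apply hext hq
  rw [app_comp, app_cmap, secPull_map, app_ofSec]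

/-- Pullback of cohomology classes relative to a morphism `t : W ⟶ V ×_Y X`. -/
noncomputable def extPull (f : X ⟶ Y) (t : W ⟶ (EtCoh.bc f).obj V) (p : EtCoh.sect P V)
    (G : EtCoh.Ab Y) (n : ℕ) : Ext P G n →+ Ext Q ((EtCoh.pull f).obj G) n :=
  extVia (EtCoh.pull f) (cmap hq f t p) G n

theorem extPull_apply (f : X ⟶ Y) (t : W ⟶ (EtCoh.bc f).obj V) (p : EtCoh.sect P V)
    (G : EtCoh.Ab Y) (n : ℕ) (e : Ext P G n) :
    extPull hq f t p G n e = (Ext.mk₀ (cmap hq f t p)).comp (e.mapExactFunctor (EtCoh.pull f))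
      (zero_add n) := rfl

theorem extPull_mk₀ (f : X ⟶ Y) (t : W ⟶ (EtCoh.bc f).obj V) (p : EtCoh.sect P V)
    (G : EtCoh.Ab Y) (φ : P ⟶ G) :
    extPull hq f t p G 0 (Ext.mk₀ φ) = Ext.mk₀ (ofSec hq (secPull f t G (app φ V p))) := by
  rw [extPull, extVia_mk₀, cmap_map]

theorem extPull_comp (f : X ⟶ Y) (t : W ⟶ (EtCoh.bc f).obj V) (p : EtCoh.sect P V)
    {G G' : EtCoh.Ab Y} {n m k : ℕ} (h : n + m = k) (e : Ext P G n) (y : Ext G G' m) :
    extPull hq f t p G' k (e.comp y h) =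
      (extPull hq f t p G n e).comp (y.mapExactFunctor (EtCoh.pull f)) h :=
  extVia_comp _ _ h e y

theorem precomp_aux (f : X ⟶ Y) {P' : EtCoh.Ab Y} {Q' : EtCoh.Ab X} {V' : Y.Etale}
    {W' : X.Etale} {q' : EtCoh.sect Q' W'} (hq' : IsGen q')
    (t : W ⟶ (EtCoh.bc f).obj V) (t' : W' ⟶ (EtCoh.bc f).obj V')
    (p : EtCoh.sect P V) (p' : EtCoh.sect P' V')
    (v : V' ⟶ V) (a : P' ⟶ P) (ha : app a V' p' = res P v p)
    (w : W' ⟶ W) (b : Q' ⟶ Q) (hb : app b W' q' = res Q w q)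
    (ht : t' ≫ (EtCoh.bc f).map v = w ≫ t) :
    b ≫ cmap hq f t p = cmap hq' f t' p' ≫ (EtCoh.pull f).map a := by
  apply hext hq'
  rw [app_comp, hb, ← res_app, app_cmap, cmap_map, app_ofSec, ha, ← secPull_bc, ht,
    secPull_res]

/-- Precomposition. -/
theorem extPull_precomp (f : X ⟶ Y) {P' : EtCoh.Ab Y} {Q' : EtCoh.Ab X} {V' : Y.Etale}
    {W' : X.Etale} {q' : EtCoh.sect Q' W'} (hq' : IsGen q')
    (t : W ⟶ (EtCoh.bc f).obj V) (t' : W' ⟶ (EtCoh.bc f).obj V')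
    (p : EtCoh.sect P V) (p' : EtCoh.sect P' V')
    (v : V' ⟶ V) (a : P' ⟶ P) (ha : app a V' p' = res P v p)
    (w : W' ⟶ W) (b : Q' ⟶ Q) (hb : app b W' q' = res Q w q)
    (ht : t' ≫ (EtCoh.bc f).map v = w ≫ t)
    (G : EtCoh.Ab Y) (n : ℕ) (e : Ext P G n) :
    extPull hq' f t' p' G n ((Ext.mk₀ a).comp e (zero_add n)) =
      (Ext.mk₀ b).comp (extPull hq f t p G n e) (zero_add n) :=
  extVia_precomp _ _ _ _ _ (precomp_aux hq f hq' t t' p p' v a ha w b hb ht) G n e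

end Ext

theorem pullConst_one (f : X ⟶ Y) :
    app (EtCore.pullConst f ℤ).inv (EtCoh.top X) (one X) =
      secPull f (EtCore.bcTopIso f).inv (EtCoh.const Y ℤ) (one Y) := by
  have h := Adjunction.unit_leftAdjointUniq_hom_app
    (((EtCore.constAdj Y).comp (EtCoh.pullPushAdj f)).ofNatIsoRight (EtCore.pushGsecIso f))
    (EtCore.constAdj X) (AddCommGrpCat.of (ULift.{u + 1} ℤ))
  have h1 := ConcreteCategory.congr_hom h (ULift.up 1)
  have h2 : app (EtCore.pullConst f ℤ).hom (EtCoh.top X)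
      (secPull f (EtCore.bcTopIso f).inv (EtCoh.const Y ℤ) (one Y)) = one X := by
    refine Eq.trans ?_ h1
    rfl
  rw [← h2, ← app_comp]
  erw [Iso.hom_inv_id]
  rfl

theorem pullConst_inv (f : X ⟶ Y) :
    (EtCore.pullConst f ℤ).inv = cmap (isGen_one X) f (EtCore.bcTopIso f).inv (one Y) := by
  apply hext (isGen_one X)
  rw [pullConst_one, app_cmap]

/-- The pullback map on cohomology (fast form of `EtCore.Hpull`). -/
noncomputable def HP (f : X ⟶ Y) (G : EtCoh.Ab Y) (n : ℕ) :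
    Ext (EtCoh.const Y ℤ) G n →+ Ext (EtCoh.const X ℤ) ((EtCoh.pull f).obj G) n :=
  extPull (isGen_one X) f (EtCore.bcTopIso f).inv (one Y) G n

/-- The comparison `f⁻¹ t⁻¹ ⟶ f₀⁻¹`. -/
noncomputable def theta (f : X ⟶ Y) (t : Y ⟶ Z) {f₀ : X ⟶ Z} (w : f ≫ t = f₀) :
    EtCoh.pull t ⋙ EtCoh.pull f ≅ EtCoh.pull f₀ :=
  (EtCore.pullComp f t).symm ≪≫ EtCore.pullCongr w

/-- The relative pullback map on cohomology (fast form of `EtCore.HpullVia`). -/
noncomputable def HPV (f : X ⟶ Y) (t : Y ⟶ Z) {f₀ : X ⟶ Z} (w : f ≫ t = f₀) (G : EtCoh.Ab Z)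
    (n : ℕ) : Ext (EtCoh.const Y ℤ) ((EtCoh.pull t).obj G) n →+
      Ext (EtCoh.const X ℤ) ((EtCoh.pull f₀).obj G) n :=
  ((Ext.mk₀ ((theta f t w).hom.app G)).postcomp _ (add_zero n)).comp
    (HP f ((EtCoh.pull t).obj G) n)

theorem HPV_apply (f : X ⟶ Y) (t : Y ⟶ Z) {f₀ : X ⟶ Z} (w : f ≫ t = f₀) (G : EtCoh.Ab Z)
    (n : ℕ) (x : Ext (EtCoh.const Y ℤ) ((EtCoh.pull t).obj G) n) :
    HPV f t w G n x = (HP f ((EtCoh.pull t).obj G) n x).comp
      (Ext.mk₀ ((theta f t w).hom.app G)) (add_zero n) := rfl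

theorem theta_hom_eq (f : X ⟶ Y) (t : Y ⟶ Z) {f₀ : X ⟶ Z} (w : f ≫ t = f₀) :
    (theta f t w).hom = (EtCore.pullComp f t).inv ≫ (EtCore.pullCongr w).hom := rfl

theorem theta_app_aux (f : X ⟶ Y) (t : Y ⟶ Z) {f₀ : X ⟶ Z} (w : f ≫ t = f₀)
    (P : EtCoh.Ab Z) : ((EtCore.pullComp f t).inv ≫ (EtCore.pullCongr w).hom).app P =
      (EtCore.pullComp f t).inv.app P ≫ (EtCore.pullCongr w).hom.app P := NatTrans.comp_app _ _ _

theorem theta_hom_app (f : X ⟶ Y) (t : Y ⟶ Z) {f₀ : X ⟶ Z} (w : f ≫ t = f₀)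
    (P : EtCoh.Ab Z) : (theta f t w).hom.app P =
      (EtCore.pullComp f t).inv.app P ≫ (EtCore.pullCongr w).hom.app P := by
  rw [theta_hom_eq, theta_app_aux]

theorem pullComp_inv_secPull (g : X ⟶ Y) (f : Y ⟶ Z)
    {P : EtCoh.Ab Z} {V : Z.Etale} (p : EtCoh.sect P V) {W : Y.Etale} {R : X.Etale}
    (t : W ⟶ (EtCoh.bc f).obj V) (r : R ⟶ (EtCoh.bc g).obj W) :
    app ((EtCore.pullComp g f).inv.app P) _ (secPull g r _ (secPull f t P p)) =
      secPull (g ≫ f) (r ≫ (EtCoh.bc g).map t ≫ (kap g f V).hom) P p := by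
  rw [secPull_secPull, ← app_comp ((EtCore.pullComp g f).hom.app P), Iso.hom_inv_id_app, app_id]

theorem theta_secPull (g : X ⟶ Y) (f : Y ⟶ Z) {f₀ : X ⟶ Z} (w : g ≫ f = f₀)
    {P : EtCoh.Ab Z} {V : Z.Etale} (p : EtCoh.sect P V) {W : Y.Etale} {R : X.Etale}
    (t : W ⟶ (EtCoh.bc f).obj V) (r : R ⟶ (EtCoh.bc g).obj W) :
    app ((theta g f w).hom.app P) _ (secPull g r _ (secPull f t P p)) =
      secPull f₀ (r ≫ (EtCoh.bc g).map t ≫ (kap g f V).hom ≫ eqToHom (by rw [w])) P p := by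
  have e := secPull_congr w (r ≫ (EtCoh.bc g).map t ≫ (kap g f V).hom) P p
  rw [theta_hom_app, app_comp, pullComp_inv_secPull, e]
  simp only [Category.assoc]

theorem theta_cmap (g : X ⟶ Y) (f : Y ⟶ Z) {f₀ : X ⟶ Z} (w : g ≫ f = f₀)
    {P : EtCoh.Ab Z} {V : Z.Etale} (p : EtCoh.sect P V)
    (t : EtCoh.top Y ⟶ (EtCoh.bc f).obj V) :
    (cmap (isGen_one X) g (EtCore.bcTopIso g).inv (one Y) ≫
      (EtCoh.pull g).map (cmap (isGen_one Y) f t p)) ≫ (theta g f w).hom.app P =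
    cmap (isGen_one X) f₀ ((EtCore.bcTopIso g).inv ≫ (EtCoh.bc g).map t ≫ (kap g f V).hom ≫
        eqToHom (by rw [w])) p := by
  rw [cmap_map, app_cmap, ofSec_comp, theta_secPull, cmap]

theorem HPV_extPull (g : X ⟶ Y) (f : Y ⟶ Z) {f₀ : X ⟶ Z} (w : g ≫ f = f₀)
    {P : EtCoh.Ab Z} {V : Z.Etale} (p : EtCoh.sect P V)
    (t : EtCoh.top Y ⟶ (EtCoh.bc f).obj V)
    (G : EtCoh.Ab Z) (n : ℕ) (e : Ext P G n) :
    HPV g f w G n (extPull (isGen_one Y) f t p G n e) =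
      extPull (isGen_one X) f₀ ((EtCore.bcTopIso g).inv ≫ (EtCoh.bc g).map t ≫ (kap g f V).hom ≫
        eqToHom (by rw [w])) p G n e := by
  have i1 : PreservesFiniteLimits (EtCoh.pull f ⋙ EtCoh.pull g) := comp_preservesFiniteLimits _ _
  have i2 : PreservesFiniteColimits (EtCoh.pull f ⋙ EtCoh.pull g) :=
    comp_preservesFiniteColimits _ _
  rw [HPV_apply, HP, extPull_apply, extPull_apply, Ext.mapExactFunctor_comp,
    Ext.mapExactFunctor_mk₀, ← mapExactFunctor_compFunctor, Ext.mk₀_comp_mk₀_assoc,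
    Ext.comp_assoc_of_third_deg_zero, mapExactFunctor_nat (theta g f w).hom e,
    Ext.mk₀_comp_mk₀_assoc, extPull_apply, theta_cmap]

theorem bcTopIso_inv_eq (f : X ⟶ Y) :
    (EtCore.bcTopIso f).inv = mkSec f (EtCoh.top Y) f (Category.comp_id f) :=
  (EtCore.bcTopIsTerminal f).hom_ext _ _

theorem bc_comp_eq (g : X ⟶ Y) (f : Y ⟶ Z) {f₀ : X ⟶ Z} (w : g ≫ f = f₀) (V : Z.Etale)
    (t : Y ⟶ V.left) (h : t ≫ V.hom = f) (h' : (g ≫ t) ≫ V.hom = f₀) :
    (EtCore.bcTopIso g).inv ≫ (EtCoh.bc g).map (mkSec f V t h) ≫ (kap g f V).hom ≫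
      eqToHom (by rw [w]) = mkSec f₀ V (g ≫ t) h' := by
  subst w
  rw [bcTopIso_inv_eq, eqToHom_refl, Category.comp_id]
  apply bc_hom_ext
  rw [mkSec_left_fst]
  have e1 : (mkSec g (EtCoh.top Y) g (Category.comp_id g) ≫ (EtCoh.bc g).map (mkSec f V t h) ≫
    (kap g f V).hom).left = (mkSec g (EtCoh.top Y) g (Category.comp_id g)).left ≫
      ((EtCoh.bc g).map (mkSec f V t h)).left ≫ (kap g f V).hom.left := rfl
  refine (congrArg (fun k => k ≫ pullback.fst V.hom (g ≫ f)) e1).trans ?_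
  refine ((Category.assoc _ _ _).trans (congrArg (fun k => _ ≫ k) (Category.assoc _ _ _))).trans ?_
  refine (congrArg (fun k => _ ≫ _ ≫ k) (kap_hom_left_fst g f V)).trans ?_
  have e2 := bc_map_left_fst g (mkSec f V t h)
  refine (congrArg (fun k => _ ≫ k) ((Category.assoc _ _ _).symm.trans
    (congrArg (fun k => k ≫ pullback.fst V.hom f) e2))).trans ?_
  refine (congrArg (fun k => _ ≫ k) ((Category.assoc _ _ _).trans
    (congrArg (fun k => _ ≫ k) (mkSec_left_fst f V t h)))).trans ?_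
  exact (Category.assoc _ _ _).symm.trans (congrArg (fun k => k ≫ t)
    (mkSec_left_fst g (EtCoh.top Y) g (Category.comp_id g)))

end Groth.Agent.Etcore.Loc
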