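import Groth.Agent.Etcore.Loc
import Groth.Agent.Etcore.ShriekExact

/-!
# Localization of étale cohomology along étale morphisms

For `j : U ⟶ X` étale, `W : U.Etale`, `V : X.Etale` and `t : W ⟶ V ×_X U` such that the composite
`W.left ⟶ V.left` is an isomorphism, the map `extPull` is bijective in all degrees.
-/

set_option autoImplicit false
universe u
open CategoryTheory CategoryTheory.Limits CategoryTheory.Abelian AlgebraicGeometry Opposite

namespace Groth.Agent.Etcore.LocEt

open Groth.Agent.Etcore.LocSec Groth.Agent.Etcore.ZU Groth.Agent.Etcore.ExtAdj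
open Groth.Agent.Etcore.Loc Groth.Agent.Sga4h.EtaleRes
open scoped Groth.Agent.Etcore.FastInst

variable {U X : Scheme.{u}}

/-- `pull j` preserves injectives for `j` étale. -/
theorem injective_pull (j : U ⟶ X) [AlgebraicGeometry.Etale j] (I : EtCoh.Ab X) [Injective I] :
    Injective ((EtCoh.pull j).obj I) := by
  have := jCont j
  have h1 : Injective ((EtShriek.restrAlong j).obj I) := by
    have : (EtShriek.extZero j).PreservesMonomorphisms := inferInstance
    exact Injective.injective_of_adjoint (EtShriek.extZeroAdj j) I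
  exact Injective.of_iso ((pullIsoRestr j).app I).symm h1

instance preservesInjective_pull (j : U ⟶ X) [AlgebraicGeometry.Etale j] :
    (EtCoh.pull j).PreservesInjectiveObjects where
  injective_obj {I} hI := injective_pull j I

/-- The morphism `j_! W ⟶ V` adjoint to `t : W ⟶ V ×_X U`. -/
noncomputable def adjt (j : U ⟶ X) [AlgebraicGeometry.Etale j] {V : X.Etale} {W : U.Etale}
    (t : W ⟶ (EtCoh.bc j).obj V) : (EtShriek.compEtale j).obj W ⟶ V :=
  (EtShriek.compEtale j).map t ≫ (compBcAdj j).counit.app V

theorem secPull_restr (j : U ⟶ X) [AlgebraicGeometry.Etale j] [EtShriek.JCont j] {V : X.Etale}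
    {W : U.Etale} (t : W ⟶ (EtCoh.bc j).obj V) (G : EtCoh.Ab X) (s : EtCoh.sect G V) :
    app ((pullIsoRestr j).hom.app G) W (secPull j t G s) = res G (adjt j t) s := by
  have h := ConcreteCategory.congr_hom (unit_app_comp j G (op V)) s
  have h1 : app ((pullIsoRestr j).hom.app G) _ (un j G V s) =
    res G ((compBcAdj j).counit.app V) s := h
  rw [secPull_apply, ← res_app, h1]
  have h2 := res_res G ((EtShriek.compEtale j).map t) ((compBcAdj j).counit.app V) s
  exact h2

theorem app_bijective {F G : EtCoh.Ab U} (e : F ⟶ G) [IsIso e] (W : U.Etale) :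
    Function.Bijective (app e W) := by
  refine Function.bijective_iff_has_inverse.2 ⟨app (inv e) W, fun s => ?_, fun s => ?_⟩
  · rw [← app_comp, IsIso.hom_inv_id, app_id]
  · rw [← app_comp, IsIso.inv_hom_id, app_id]

theorem res_bijective (G : EtCoh.Ab U) {V W : U.Etale} (e : V ⟶ W) [IsIso e] :
    Function.Bijective (res G e) := by
  refine Function.bijective_iff_has_inverse.2 ⟨res G (inv e), fun s => ?_, fun s => ?_⟩
  · rw [res_res, IsIso.inv_hom_id, res_id]
  · rw [res_res, IsIso.hom_inv_id, res_id]

theorem secPull_bijective (j : U ⟶ X) [AlgebraicGeometry.Etale j] {V : X.Etale} {W : U.Etale}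
    (t : W ⟶ (EtCoh.bc j).obj V) [IsIso (adjt j t)] (G : EtCoh.Ab X) :
    Function.Bijective (secPull j t G) := by
  have := jCont j
  have h1 : Function.Bijective (app ((pullIsoRestr j).hom.app G) W ∘ secPull j t G) := by
    have : app ((pullIsoRestr j).hom.app G) W ∘ secPull j t G = res G (adjt j t) := by
      ext s
      exact secPull_restr j t G s
    rw [this]
    exact res_bijective G (adjt j t)
  exact (Function.Bijective.of_comp_iff' (app_bijective ((pullIsoRestr j).hom.app G) W) _).1 h1

/-- Localization: `Ext^n_X(P, G) ≃ Ext^n_U(Q, G|_U)` for generating pairs. -/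
theorem extPull_bijective (j : U ⟶ X) [AlgebraicGeometry.Etale j] {P : EtCoh.Ab X}
    {Q : EtCoh.Ab U} {V : X.Etale} {W : U.Etale} {q : EtCoh.sect Q W} (hq : IsGen q)
    {p : EtCoh.sect P V} (hp : IsGen p)
    (t : W ⟶ (EtCoh.bc j).obj V) [IsIso (adjt j t)] (G : EtCoh.Ab X) (n : ℕ) :
    Function.Bijective (extPull hq j t p G n) := by
  apply extVia_bijective
  intro G
  have e : (fun φ : P ⟶ G => cmap hq j t p ≫ (EtCoh.pull j).map φ) =
      (fun s : EtCoh.sect ((EtCoh.pull j).obj G) W => ofSec hq s) ∘ secPull j t G ∘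
        (fun φ : P ⟶ G => app φ V p) := by
    ext1 φ
    exact cmap_map hq j t p φ
  rw [e]
  refine Function.Bijective.comp ?_ ((secPull_bijective j t G).comp (hp G))
  refine Function.bijective_iff_has_inverse.2 ⟨fun φ => app φ W q, fun s => ?_, fun φ => ?_⟩
  · exact app_ofSec hq s
  · exact ofSec_app hq φ

end Groth.Agent.Etcore.LocEt
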