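import Groth.Agent.Etcore.LocEt

/-!
# The localization isomorphism `Ext^n_X(Z_V, F) ≃ H^n(V, F|_V)` for `V → X` étale

* `toConst V : Z V ⟶ const X ℤ`;
* `locMap V F n : Ext (Z V) F n →+ Ext (const V.left ℤ) (V.hom⁻¹ F) n`, bijective;
* `HP_eq_locMap`: pullback of classes from `X` to `V` is precomposition with `toConst V`;
* `HPV_locMap`: pullback of classes along `g : V' ⟶ V` is precomposition with `Zmap g`;
* `exists_cover_HPV_eq_zero`: positive degree classes die on an étale covering.
-/

set_option autoImplicit false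
universe u
open CategoryTheory CategoryTheory.Limits CategoryTheory.Abelian AlgebraicGeometry Opposite

namespace Groth.Agent.Etcore.LocMap

open Groth.Agent.Etcore.LocSec Groth.Agent.Etcore.ZU Groth.Agent.Etcore.ExtAdj
open Groth.Agent.Etcore.Loc Groth.Agent.Sga4h.EtaleRes Groth.Agent.Etcore.LocEt
open scoped Groth.Agent.Etcore.FastInst

variable {X Y : Scheme.{u}}

/-- The free abelian sheaf `Z_V` on an étale `X`-scheme `V`. -/
noncomputable def ZE (V : X.Etale) : EtCoh.Ab X := Z.{u + 1} X.smallEtaleTopology V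

/-- The canonical section of `Z_V`. -/
noncomputable def genE (V : X.Etale) : EtCoh.sect (ZE V) V := gen.{u + 1} X.smallEtaleTopology V

theorem isGen_genE (V : X.Etale) : IsGen (genE V) := isGen_gen V

/-- Functoriality of `Z_V`. -/
noncomputable def zmap {V V' : X.Etale} (g : V' ⟶ V) : ZE V' ⟶ ZE V :=
  Zmap.{u + 1} X.smallEtaleTopology g

theorem app_zmap {V V' : X.Etale} (g : V' ⟶ V) :
    app (zmap g) V' (genE V') = res (ZE V) g (genE V) := Zmap_gen g

theorem zmap_comp {V V' V'' : X.Etale} (g : V' ⟶ V) (h : V'' ⟶ V') :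
    zmap (h ≫ g) = zmap h ≫ zmap g := Zmap_comp h g

instance zmap_mono {V V' : X.Etale} (g : V' ⟶ V) [Mono g] : Mono (zmap g) :=
  Zmap_mono g

/-- The unique morphism to the terminal object. -/
noncomputable def toTop (V : X.Etale) : V ⟶ EtCoh.top X := (EtCore.topIsTerminal X).from V

/-- The morphism `Z_V ⟶ ℤ_X`. -/
noncomputable def toConst (V : X.Etale) : ZE V ⟶ EtCoh.const X ℤ :=
  ofSec (isGen_genE V) (res _ (toTop V) (one X))

theorem app_toConst (V : X.Etale) : app (toConst V) V (genE V) = res _ (toTop V) (one X) :=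
  app_ofSec _ _

theorem zmap_toConst {V V' : X.Etale} (g : V' ⟶ V) : zmap g ≫ toConst V = toConst V' := by
  apply hext (isGen_genE V')
  rw [app_comp, app_zmap, ← res_app, app_toConst, app_toConst, res_res,
    (EtCore.topIsTerminal X).hom_ext (g ≫ toTop V) (toTop V')]

/-- The morphism `V ⟶ V ×_X V` in the étale site of `V`. -/
noncomputable def diag (V : X.Etale) : EtCoh.top V.left ⟶ (EtCoh.bc V.hom).obj V :=
  mkSec V.hom V (𝟙 V.left) (Category.id_comp V.hom)

set_option backward.isDefEq.respectTransparency.types false in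
theorem isIso_adjt_of_left (j : Y ⟶ X) [AlgebraicGeometry.Etale j] {V : X.Etale} {W : Y.Etale}
    (t : W ⟶ (EtCoh.bc j).obj V) (h : IsIso (t.left ≫ pullback.fst V.hom j)) :
    IsIso (adjt j t) := by
  have h1 : IsIso ((Scheme.Etale.forget X ⋙ Over.forget X).map (adjt j t)) := h
  exact isIso_of_reflects_iso (adjt j t) (Scheme.Etale.forget X ⋙ Over.forget X)

instance isIso_adjt_diag (V : X.Etale) : IsIso (adjt V.hom (diag V)) := by
  apply isIso_adjt_of_left
  rw [diag, mkSec_left_fst]
  exact inferInstanceAs (IsIso (𝟙 (V.left : Scheme.{u})))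

/-- The localization map `Ext^n_X(Z_V, F) → H^n(V, F|_V)`. -/
noncomputable def locMap (V : X.Etale) (F : EtCoh.Ab X) (n : ℕ) :
    Ext (ZE V) F n →+ Ext (EtCoh.const V.left ℤ) ((EtCoh.pull V.hom).obj F) n :=
  extPull (isGen_one V.left) V.hom (diag V) (genE V) F n

theorem locMap_bijective (V : X.Etale) (F : EtCoh.Ab X) (n : ℕ) :
    Function.Bijective (locMap V F n) :=
  extPull_bijective V.hom (isGen_one V.left) (isGen_genE V) (diag V) F n

/-- Pulling back a class from `X` to `V`. -/
theorem HP_eq_locMap (V : X.Etale) (F : EtCoh.Ab X) (n : ℕ) (x : Ext (EtCoh.const X ℤ) F n) :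
    HP V.hom F n x = locMap V F n ((Ext.mk₀ (toConst V)).comp x (zero_add n)) := by
  have h := extPull_precomp (isGen_one V.left) V.hom (isGen_one V.left)
    (EtCore.bcTopIso V.hom).inv (diag V) (one X) (genE V) (toTop V) (toConst V)
    (app_toConst V) (𝟙 _) (𝟙 _) (by rw [app_id, res_id])
    ((EtCore.bcTopIsTerminal V.hom).hom_ext _ _) F n x
  rw [locMap, h, Ext.mk₀_id_comp]
  rfl

theorem w_left {V V' : X.Etale} (g : V' ⟶ V) : g.left ≫ V.hom = V'.hom :=
  MorphismProperty.Over.w g

set_option backward.isDefEq.respectTransparency.types false in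
theorem diag_bc {V V' : X.Etale} (g : V' ⟶ V) (w : g.left ≫ V.hom = V'.hom) :
    diag V' ≫ (EtCoh.bc V'.hom).map g = mkSec V'.hom V g.left w := by
  have h := mkSec_bc V'.hom (𝟙 V'.left) (Category.id_comp V'.hom) g
    ((congrArg (fun k => k ≫ V.hom) (Category.id_comp g.left)).trans w)
  rw [diag, h]
  congr 1

set_option backward.isDefEq.respectTransparency.types false in
theorem bc_diag {V V' : X.Etale} (g : V' ⟶ V) (w : g.left ≫ V.hom = V'.hom) :
    (EtCore.bcTopIso g.left).inv ≫ (EtCoh.bc g.left).map (diag V) ≫ (kap g.left V.hom V).hom ≫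
      eqToHom (by rw [w]) = mkSec V'.hom V g.left w := by
  have h := bc_comp_eq g.left V.hom w V (𝟙 V.left) (Category.id_comp V.hom)
    ((congrArg (fun k => k ≫ V.hom) (Category.comp_id g.left)).trans w)
  rw [diag, h]
  congr 1

/-- Pulling back a class from `V` to `V'`. -/
theorem HPV_locMap {V V' : X.Etale} (g : V' ⟶ V) (w : g.left ≫ V.hom = V'.hom)
    (F : EtCoh.Ab X) (n : ℕ) (y : Ext (ZE V) F n) :
    HPV g.left V.hom w F n (locMap V F n y) =
      locMap V' F n ((Ext.mk₀ (zmap g)).comp y (zero_add n)) := by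
  have h := extPull_precomp (isGen_one V'.left) V'.hom (isGen_one V'.left)
    (mkSec V'.hom V g.left w) (diag V') (genE V) (genE V') g (zmap g)
    (app_zmap g) (𝟙 _) (𝟙 _) (by rw [app_id, res_id])
    (by
      rw [Category.id_comp]
      exact diag_bc g w) F n y
  rw [locMap, locMap, HPV_extPull, h, Ext.mk₀_id_comp, bc_diag g w]

end Groth.Agent.Etcore.LocMap
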