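import Groth.Prelude.Def_EtCore
import Groth.Agent.Sga4h.EtaleRes

/-!
# Pullback of sections of abelian étale sheaves

* `secPull f t G : G(V) →+ (f⁻¹G)(W)` for `f : X ⟶ Y`, `t : W ⟶ V ×_Y X` in `X.Etale`;
* naturality in `G`, `t`, `V`; composition `secPull_secPull` (along `EtCore.pullComp`);
* `mkSec f V t h : top X ⟶ bc f V` for `t : X ⟶ V.left` over `Y`.
-/

set_option autoImplicit false
universe u
open CategoryTheory CategoryTheory.Limits AlgebraicGeometry Opposite

namespace Groth.Agent.Etcore.LocSec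

variable {X Y Z : Scheme.{u}}

/-- Restriction of sections. -/
noncomputable def res (F : EtCoh.Ab X) {U V : X.Etale} (h : U ⟶ V) :
    EtCoh.sect F V →+ EtCoh.sect F U := (F.obj.map h.op).hom

theorem res_apply (F : EtCoh.Ab X) {U V : X.Etale} (h : U ⟶ V) (s : EtCoh.sect F V) :
    res F h s = F.obj.map h.op s := rfl

theorem res_id (F : EtCoh.Ab X) {U : X.Etale} (s : EtCoh.sect F U) : res F (𝟙 U) s = s := by
  rw [res_apply, op_id, F.obj.map_id]; rfl

theorem res_res (F : EtCoh.Ab X) {U V W : X.Etale} (h : U ⟶ V) (k : V ⟶ W)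
    (s : EtCoh.sect F W) : res F h (res F k s) = res F (h ≫ k) s := by
  rw [res_apply, res_apply, res_apply, op_comp, F.obj.map_comp]; rfl

/-- Action of a morphism of sheaves on sections. -/
noncomputable def app {F G : EtCoh.Ab X} (a : F ⟶ G) (V : X.Etale) :
    EtCoh.sect F V →+ EtCoh.sect G V := (a.hom.app (op V)).hom

theorem app_apply {F G : EtCoh.Ab X} (a : F ⟶ G) (V : X.Etale) (s : EtCoh.sect F V) :
    app a V s = a.hom.app (op V) s := rfl

theorem app_comp {F G H : EtCoh.Ab X} (a : F ⟶ G) (b : G ⟶ H) (V : X.Etale)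
    (s : EtCoh.sect F V) : app (a ≫ b) V s = app b V (app a V s) := rfl

theorem app_id {F : EtCoh.Ab X} (V : X.Etale) (s : EtCoh.sect F V) : app (𝟙 F) V s = s := rfl

theorem res_app {F G : EtCoh.Ab X} (a : F ⟶ G) {U V : X.Etale} (h : U ⟶ V)
    (s : EtCoh.sect F V) : res G h (app a V s) = app a U (res F h s) :=
  (ConcreteCategory.congr_hom (a.hom.naturality h.op) s).symm

/-- The unit on sections. -/
noncomputable def un (f : X ⟶ Y) (G : EtCoh.Ab Y) (V : Y.Etale) :
    EtCoh.sect G V →+ EtCoh.sect ((EtCoh.pull f).obj G) ((EtCoh.bc f).obj V) :=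
  (((EtCoh.pullPushAdj f).unit.app G).hom.app (op V)).hom

theorem un_apply (f : X ⟶ Y) (G : EtCoh.Ab Y) (V : Y.Etale) (s : EtCoh.sect G V) :
    un f G V s = ((EtCoh.pullPushAdj f).unit.app G).hom.app (op V) s := rfl

theorem un_nat (f : X ⟶ Y) {G G' : EtCoh.Ab Y} (a : G ⟶ G') (V : Y.Etale)
    (s : EtCoh.sect G V) :
    un f G' V (app a V s) = app ((EtCoh.pull f).map a) ((EtCoh.bc f).obj V) (un f G V s) := by
  have h1 := congrArg (fun k => k.hom.app (op V)) ((EtCoh.pullPushAdj f).unit.naturality a)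
  exact ConcreteCategory.congr_hom h1 s

theorem un_res (f : X ⟶ Y) (G : EtCoh.Ab Y) {V V' : Y.Etale} (v : V ⟶ V')
    (s : EtCoh.sect G V') :
    un f G V (res G v s) = res ((EtCoh.pull f).obj G) ((EtCoh.bc f).map v) (un f G V' s) :=
  ConcreteCategory.congr_hom (((EtCoh.pullPushAdj f).unit.app G).hom.naturality v.op) s

/-- Pullback of sections: `G(V) → (f⁻¹ G)(W)` for `t : W ⟶ V ×_Y X`. -/
noncomputable def secPull (f : X ⟶ Y) {V : Y.Etale} {W : X.Etale} (t : W ⟶ (EtCoh.bc f).obj V)
    (G : EtCoh.Ab Y) : EtCoh.sect G V →+ EtCoh.sect ((EtCoh.pull f).obj G) W :=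
  (res ((EtCoh.pull f).obj G) t).comp (un f G V)

theorem secPull_apply (f : X ⟶ Y) {V : Y.Etale} {W : X.Etale} (t : W ⟶ (EtCoh.bc f).obj V)
    (G : EtCoh.Ab Y) (s : EtCoh.sect G V) :
    secPull f t G s = res ((EtCoh.pull f).obj G) t (un f G V s) := rfl

theorem secPull_map (f : X ⟶ Y) {V : Y.Etale} {W : X.Etale} (t : W ⟶ (EtCoh.bc f).obj V)
    {G G' : EtCoh.Ab Y} (a : G ⟶ G') (s : EtCoh.sect G V) :
    app ((EtCoh.pull f).map a) W (secPull f t G s) = secPull f t G' (app a V s) := by
  rw [secPull_apply, secPull_apply, un_nat, res_app]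

theorem secPull_res (f : X ⟶ Y) {V : Y.Etale} {W W' : X.Etale} (t' : W' ⟶ W)
    (t : W ⟶ (EtCoh.bc f).obj V) (G : EtCoh.Ab Y) (s : EtCoh.sect G V) :
    secPull f (t' ≫ t) G s = res ((EtCoh.pull f).obj G) t' (secPull f t G s) := by
  rw [secPull_apply, secPull_apply, res_res]

theorem secPull_bc (f : X ⟶ Y) {V V' : Y.Etale} {W : X.Etale} (t : W ⟶ (EtCoh.bc f).obj V)
    (v : V ⟶ V') (G : EtCoh.Ab Y) (s : EtCoh.sect G V') :
    secPull f (t ≫ (EtCoh.bc f).map v) G s = secPull f t G (res G v s) := by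
  rw [secPull_apply, secPull_apply, un_res, res_res]

/-- The canonical isomorphism `(V ×_Y X) ×_X Z ≅ V ×_Y Z`. -/
noncomputable def kap (g : Z ⟶ X) (f : X ⟶ Y) (V : Y.Etale) :
    (EtCoh.bc g).obj ((EtCoh.bc f).obj V) ≅ (EtCoh.bc (g ≫ f)).obj V :=
  ((MorphismProperty.Over.pullbackComp (P := EtCoh.etaleMP) (Q := ⊤) g f).symm).app V

set_option backward.isDefEq.respectTransparency.types false in
theorem un_comp (g : Z ⟶ X) (f : X ⟶ Y) (G : EtCoh.Ab Y) (V : Y.Etale) (s : EtCoh.sect G V) :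
    app ((EtCore.pullComp g f).hom.app G) _ (un (g ≫ f) G V s) =
      res ((EtCoh.pull g).obj ((EtCoh.pull f).obj G)) (kap g f V).inv
        (un g ((EtCoh.pull f).obj G) _ (un f G V s)) := by
  have h := Adjunction.unit_leftAdjointUniq_hom_app (EtCoh.pullPushAdj (g ≫ f))
    (((EtCoh.pullPushAdj f).comp (EtCoh.pullPushAdj g)).ofNatIsoRight (EtCoh.pushComp f g)) G
  have h1 := congrArg (fun k => k.hom.app (op V)) h
  have h2 := ConcreteCategory.congr_hom h1 s
  refine Eq.trans h2 ?_
  rfl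

/-- Pullback of sections is compatible with composition of morphisms. -/
theorem secPull_secPull (g : Z ⟶ X) (f : X ⟶ Y) {V : Y.Etale} {W : X.Etale} {R : Z.Etale}
    (t : W ⟶ (EtCoh.bc f).obj V) (r : R ⟶ (EtCoh.bc g).obj W) (G : EtCoh.Ab Y)
    (s : EtCoh.sect G V) :
    secPull g r ((EtCoh.pull f).obj G) (secPull f t G s) =
      app ((EtCore.pullComp g f).hom.app G) R
      (secPull (g ≫ f) (r ≫ (EtCoh.bc g).map t ≫ (kap g f V).hom) G s) := by
  have h1 := un_comp g f G V s
  rw [secPull_apply (g ≫ f), ← res_app]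
  erw [h1]
  rw [secPull_apply, secPull_apply, un_res]
  erw [res_res, res_res]
  congr 2
  rw [Category.assoc, Category.assoc, Iso.hom_inv_id, Category.comp_id]

/-- Transport of `secPull` along an equality of morphisms. -/
theorem secPull_congr {f f' : X ⟶ Y} (h : f = f') {V : Y.Etale} {W : X.Etale}
    (t : W ⟶ (EtCoh.bc f).obj V) (G : EtCoh.Ab Y) (s : EtCoh.sect G V) :
    app ((EtCore.pullCongr h).hom.app G) W (secPull f t G s) =
      secPull f' (t ≫ eqToHom (by rw [h])) G s := by
  subst h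
  rw [eqToHom_refl, Category.comp_id]
  rfl

set_option backward.isDefEq.respectTransparency.types false in
/-- The morphism `X ⟶ V ×_Y X` of étale `X`-schemes given by a lift `t : X ⟶ V` of `f`. -/
noncomputable def mkSec (f : X ⟶ Y) (V : Y.Etale) (t : X ⟶ V.left) (h : t ≫ V.hom = f) :
    EtCoh.top X ⟶ (EtCoh.bc f).obj V :=
  MorphismProperty.Over.homMk (pullback.lift t (𝟙 X) (h.trans (Category.id_comp f).symm))
    (pullback.lift_snd _ _ _)

set_option backward.isDefEq.respectTransparency.types false in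
theorem mkSec_left_fst (f : X ⟶ Y) (V : Y.Etale) (t : X ⟶ V.left) (h : t ≫ V.hom = f) :
    (mkSec f V t h).left ≫ pullback.fst V.hom f = t :=
  pullback.lift_fst _ _ _

set_option backward.isDefEq.respectTransparency.types false in
theorem bc_hom_ext {f : X ⟶ Y} {V : Y.Etale} {W : X.Etale} {a b : W ⟶ (EtCoh.bc f).obj V}
    (h : a.left ≫ pullback.fst V.hom f = b.left ≫ pullback.fst V.hom f) : a = b := by
  apply MorphismProperty.Over.Hom.ext
  refine pullback.hom_ext h ?_
  have ha : a.left ≫ pullback.snd V.hom f = W.hom := MorphismProperty.Over.w a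
  have hb : b.left ≫ pullback.snd V.hom f = W.hom := MorphismProperty.Over.w b
  exact ha.trans hb.symm

set_option backward.isDefEq.respectTransparency.types false in
theorem eqToHom_left_fst {f f' : X ⟶ Y} (h : f = f') (V : Y.Etale)
    (e : (EtCoh.bc f).obj V = (EtCoh.bc f').obj V) :
    (eqToHom e).left ≫ pullback.fst V.hom f' = pullback.fst V.hom f := by
  subst h
  exact Category.id_comp _

set_option backward.isDefEq.respectTransparency.types false in
theorem kap_hom_left_fst (g : Z ⟶ X) (f : X ⟶ Y) (V : Y.Etale) :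
    (kap g f V).hom.left ≫ pullback.fst V.hom (g ≫ f) =
      pullback.fst (pullback.snd V.hom f) g ≫ pullback.fst V.hom f := by
  have h : (kap g f V).inv.left ≫ pullback.fst (pullback.snd V.hom f) g ≫
      pullback.fst V.hom f = pullback.fst V.hom (g ≫ f) :=
    MorphismProperty.Over.pullbackComp_left_fst_fst g f V
  have h2 : (kap g f V).hom.left ≫ (kap g f V).inv.left = 𝟙 _ := by
    have := congrArg (fun k => k.left) (kap g f V).hom_inv_id
    exact this
  rw [← h, ← Category.assoc]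
  erw [h2, Category.id_comp]

set_option backward.isDefEq.respectTransparency.types false in
theorem bc_map_left_fst (f : X ⟶ Y) {V V' : Y.Etale} (v : V ⟶ V') :
    ((EtCoh.bc f).map v).left ≫ pullback.fst V'.hom f = pullback.fst V.hom f ≫ v.left :=
  pullback.lift_fst _ _ _

set_option backward.isDefEq.respectTransparency.types false in
theorem mkSec_bc (f : X ⟶ Y) {V V' : Y.Etale} (t : X ⟶ V.left) (h : t ≫ V.hom = f)
    (v : V ⟶ V') (h' : (t ≫ v.left) ≫ V'.hom = f) :
    mkSec f V t h ≫ (EtCoh.bc f).map v = mkSec f V' (t ≫ v.left) h' := by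
  apply bc_hom_ext
  rw [mkSec_left_fst]
  have e : (mkSec f V t h ≫ (EtCoh.bc f).map v).left =
    (mkSec f V t h).left ≫ ((EtCoh.bc f).map v).left := rfl
  rw [e, Category.assoc]
  refine (congrArg (fun k => (mkSec f V t h).left ≫ k) (bc_map_left_fst f v)).trans ?_
  refine (Category.assoc _ _ _).symm.trans ?_
  exact congrArg (fun k => k ≫ v.left) (mkSec_left_fst f V t h)

end Groth.Agent.Etcore.LocSec
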