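import Mathlib.AlgebraicGeometry.AffineScheme
import Mathlib.AlgebraicGeometry.FunctionField
import Mathlib.RingTheory.Filtration
import Mathlib.RingTheory.Localization.FractionRing
import Mathlib.RingTheory.Localization.Away.Basic

/-!
# Units near a point where the ideal is generated by one element

`B` a Noetherian domain, `t ≠ 0` with `(t)` maximal (or just prime): every unit of `B[1/(t s₀)]` is, after
shrinking, of the form `u * t ^ r` with `u` a unit of `B[1/s]`, `s ∉ (t)`.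
-/

set_option autoImplicit false
universe u

open AlgebraicGeometry CategoryTheory

namespace Groth.Agent.Etcore.LocUnif752

section Algebra

variable {B : Type*} [CommRing B] [IsDomain B] [IsNoetherianRing B]

/-- Every nonzero element is `t ^ i * a'` with `a' ∉ (t)`. -/
theorem exists_pow_mul (t : B) (ht1 : ¬ IsUnit t) (a : B) (ha : a ≠ 0) :
    ∃ (i : ℕ) (a' : B), a = t ^ i * a' ∧ a' ∉ Ideal.span {t} := by
  have hne : Ideal.span {t} ≠ ⊤ := by rwa [Ne, Ideal.span_singleton_eq_top]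
  have hinf := Ideal.iInf_pow_eq_bot_of_isDomain (Ideal.span {t}) hne
  have : ∃ n : ℕ, a ∉ Ideal.span {t} ^ n := by
    by_contra h
    push Not at h
    apply ha
    have : a ∈ (⨅ i : ℕ, Ideal.span {t} ^ i) := by
      rw [Submodule.mem_iInf]; exact h
    rw [hinf] at this
    simpa using this
  classical
  let n := Nat.find this
  have hn : a ∉ Ideal.span {t} ^ n := Nat.find_spec this
  have hn0 : n ≠ 0 := by
    intro h0
    rw [h0] at hn
    simp at hn
  obtain ⟨i, hi⟩ := Nat.exists_eq_succ_of_ne_zero hn0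
  have hmem : a ∈ Ideal.span {t} ^ i := by
    by_contra h
    have := Nat.find_min' this h
    omega
  rw [Ideal.span_singleton_pow, Ideal.mem_span_singleton] at hmem
  obtain ⟨a', rfl⟩ := hmem
  refine ⟨i, a', rfl, fun h => hn ?_⟩
  rw [Ideal.mem_span_singleton] at h
  obtain ⟨c, rfl⟩ := h
  rw [hi, Ideal.span_singleton_pow, Ideal.mem_span_singleton]
  exact ⟨c, by rw [Nat.succ_eq_add_one]; ring⟩

omit [IsNoetherianRing B] [IsDomain B] in
theorem isUnit_algebraMap_of_dvd {a s : B} (h : a ∣ s) (R : Type*) [CommRing R] [Algebra B R]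
    [IsLocalization.Away s R] : IsUnit (algebraMap B R a) :=
  isUnit_of_dvd_unit (map_dvd _ h) (IsLocalization.Away.algebraMap_isUnit s)

/-- (LOCALG, elementary form.)  `f * (t s₀) ^ n = t ^ i * a` in `B[1/(t s₀)]` with `a ∉ (t)`. -/
theorem exists_eq (t : B) (ht : t ≠ 0) (hm : (Ideal.span {t}).IsPrime) (s₀ : B) (hs₀ : s₀ ∉ Ideal.span {t})
    {B₀ : Type*} [CommRing B₀] [Algebra B B₀] [IsLocalization.Away (t * s₀) B₀] (f : B₀ˣ) :
    ∃ (a : B) (_ : a ∉ Ideal.span {t}) (i n : ℕ),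
      (f : B₀) * algebraMap B B₀ (t * s₀) ^ n = algebraMap B B₀ (t ^ i * a) := by
  have ht1 : ¬ IsUnit t := fun h => hm.ne_top (Ideal.span_singleton_eq_top.2 h)
  have hs₀0 : s₀ ≠ 0 := fun h => hs₀ (h ▸ Submodule.zero_mem _)
  have hinj : Function.Injective (algebraMap B B₀) :=
    IsLocalization.injective B₀ (powers_le_nonZeroDivisors_of_noZeroDivisors (mul_ne_zero ht hs₀0))
  obtain ⟨n, a, hfa⟩ := IsLocalization.Away.surj (t * s₀) (f : B₀)
  have ha0 : a ≠ 0 := by
    rintro rfl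
    rw [map_zero] at hfa
    have h1 : IsUnit ((f : B₀) * algebraMap B B₀ (t * s₀) ^ n) :=
      f.isUnit.mul ((IsLocalization.Away.algebraMap_isUnit (S := B₀) (t * s₀)).pow n)
    rw [hfa, isUnit_zero_iff] at h1
    have h2 : algebraMap B B₀ 0 = algebraMap B B₀ 1 := by rw [map_zero, map_one, h1]
    exact zero_ne_one (hinj h2)
  obtain ⟨i, a', rfl, ha'⟩ := exists_pow_mul t ht1 a ha0
  exact ⟨a', ha', i, n, hfa⟩

omit [IsDomain B] [IsNoetherianRing B] in
theorem aux_comm {G : Type*} [CommGroup G] (w y z x : G) : w * y * (z * x) = y * x * (w * z) := by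
  rw [mul_comm w y, mul_assoc, mul_assoc, mul_left_comm x w z, mul_comm x z]

/-- (LOCALG.)  `B` a Noetherian domain, `(t)` prime, `s₀ ∉ (t)`, `f` a unit of `B[1/(t s₀)]`: there are `s ∉ (t)`,
divisible by `s₀`, such that for all models of `B[1/s]` and `B[1/(t s)]` there are a unit `u` of `B[1/s]` and
`r : ℤ` with `f = u * t ^ r` in `B[1/(t s)]`. -/
theorem exists_unit (t : B) (ht : t ≠ 0) (hm : (Ideal.span {t}).IsPrime) (s₀ : B) (hs₀ : s₀ ∉ Ideal.span {t})
    {B₀ : Type*} [CommRing B₀] [Algebra B B₀] [IsLocalization.Away (t * s₀) B₀] (f : B₀ˣ) :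
    ∃ s : B, s ∉ Ideal.span {t} ∧ s₀ ∣ s ∧
      ∀ {Bs : Type u} [CommRing Bs] [Algebra B Bs] [IsLocalization.Away s Bs]
        {Bts : Type u} [CommRing Bts] [Algebra B Bts] [IsLocalization.Away (t * s) Bts]
        (φ : B₀ →+* Bts) (_ : ∀ b, φ (algebraMap B B₀ b) = algebraMap B Bts b)
        (ψ : Bs →+* Bts) (_ : ∀ b, ψ (algebraMap B Bs b) = algebraMap B Bts b),
        ∃ (u : Bsˣ) (τ : Btsˣ) (r : ℤ), (τ : Bts) = algebraMap B Bts t ∧
          Units.map (φ : B₀ →* Bts) f = Units.map (ψ : Bs →* Bts) u * τ ^ r := by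
  obtain ⟨a, ha, i, n, hf⟩ := exists_eq t ht hm s₀ hs₀ f
  refine ⟨s₀ * a, fun h => (hm.mem_or_mem h).elim hs₀ ha, dvd_mul_right _ _, ?_⟩
  intro Bs _ _ _ Bts _ _ _ φ hφ ψ hψ
  let ua : Bsˣ := (isUnit_algebraMap_of_dvd (dvd_mul_left a s₀) Bs).unit
  let us : Bsˣ := (isUnit_algebraMap_of_dvd (dvd_mul_right s₀ a) Bs).unit
  let τ : Btsˣ := (isUnit_algebraMap_of_dvd (dvd_mul_right t (s₀ * a)) Bts).unit
  have hua : (ua : Bs) = algebraMap B Bs a := rfl
  have hus : (us : Bs) = algebraMap B Bs s₀ := rfl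
  have hτ : (τ : Bts) = algebraMap B Bts t := rfl
  refine ⟨ua * (us ^ n)⁻¹, τ, (i : ℤ) - n, hτ, ?_⟩
  have h1 := congrArg φ hf
  rw [map_mul, map_pow, hφ, hφ] at h1
  have h2 : Units.map (φ : B₀ →* Bts) f * (τ * Units.map (ψ : Bs →* Bts) us) ^ n =
      τ ^ i * Units.map (ψ : Bs →* Bts) ua := by
    ext
    simp only [Units.val_mul, Units.val_pow_eq_pow_val, Units.coe_map, MonoidHom.coe_coe, hτ, hua, hus, hψ]
    simpa only [map_mul, map_pow] using h1
  rw [map_mul, map_inv, map_pow, zpow_sub, zpow_natCast, zpow_natCast]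
  have h3 := h2
  rw [mul_pow, ← eq_mul_inv_iff_mul_eq] at h3
  rw [h3, mul_inv]
  exact aux_comm _ _ _ _

end Algebra

section Scheme

variable {X : Scheme.{u}} [IsIntegral X] {W : X.Opens}

/-- (LOCALG, scheme form.)  `X` integral, `W` a nonempty affine open with Noetherian ring of functions, `t ∈ Γ(X, W)`
nonzero with `(t)` prime, `s₀ ∉ (t)` and `f` a unit on `D(t s₀)`: there are `s ∉ (t)`, divisible by `s₀`, a unit `u` on
`D(s)` and `r : ℤ` with `f = u * t ^ r` on `D(t s)`. -/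
theorem exists_unit_basicOpen (hW : IsAffineOpen W) [Nonempty W] [IsNoetherianRing Γ(X, W)] (t : Γ(X, W))
    (ht : t ≠ 0) (hm : (Ideal.span {t}).IsPrime) (s₀ : Γ(X, W)) (hs₀ : s₀ ∉ Ideal.span {t})
    (f : Γ(X, X.basicOpen (t * s₀))ˣ) :
    ∃ (s : Γ(X, W)) (_ : s ∉ Ideal.span {t}) (_ : s₀ ∣ s)
      (h₀ : X.basicOpen (t * s) ≤ X.basicOpen (t * s₀)) (h₁ : X.basicOpen (t * s) ≤ X.basicOpen s)
      (u : Γ(X, X.basicOpen s)ˣ) (τ : Γ(X, X.basicOpen (t * s))ˣ) (r : ℤ),
      (τ : Γ(X, X.basicOpen (t * s))) = X.presheaf.map (homOfLE (X.basicOpen_le (t * s))).op t ∧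
      Units.map (X.presheaf.map (homOfLE h₀).op).hom f =
        Units.map (X.presheaf.map (homOfLE h₁).op).hom u * τ ^ r := by
  have : IsDomain Γ(X, W) := inferInstance
  letI := (X.presheaf.map (homOfLE (X.basicOpen_le (t * s₀))).op).hom.toAlgebra
  haveI : IsLocalization.Away (t * s₀) Γ(X, X.basicOpen (t * s₀)) := hW.isLocalization_basicOpen _
  obtain ⟨s, hs, hdvd, H⟩ := exists_unit.{u} t ht hm s₀ hs₀ f
  have h₀ : X.basicOpen (t * s) ≤ X.basicOpen (t * s₀) := by
    obtain ⟨c, rfl⟩ := hdvd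
    rw [← mul_assoc, X.basicOpen_mul]
    exact inf_le_left
  have h₁ : X.basicOpen (t * s) ≤ X.basicOpen s := by
    rw [X.basicOpen_mul]; exact inf_le_right
  letI := (X.presheaf.map (homOfLE (X.basicOpen_le s)).op).hom.toAlgebra
  haveI : IsLocalization.Away s Γ(X, X.basicOpen s) := hW.isLocalization_basicOpen _
  letI := (X.presheaf.map (homOfLE (X.basicOpen_le (t * s))).op).hom.toAlgebra
  haveI : IsLocalization.Away (t * s) Γ(X, X.basicOpen (t * s)) := hW.isLocalization_basicOpen _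
  obtain ⟨w, τ, r, hτ, he⟩ := H (X.presheaf.map (homOfLE h₀).op).hom (fun b => by
      change (X.presheaf.map _ ≫ X.presheaf.map _).hom b = (X.presheaf.map _).hom b
      rw [← Functor.map_comp]; rfl) (X.presheaf.map (homOfLE h₁).op).hom (fun b => by
      change (X.presheaf.map _ ≫ X.presheaf.map _).hom b = (X.presheaf.map _).hom b
      rw [← Functor.map_comp]; rfl)
  exact ⟨s, hs, hdvd, h₀, h₁, w, τ, r, hτ, he⟩

end Scheme

end Groth.Agent.Etcore.LocUnif752
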