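import Groth.Agent.Etcore.Cover
import Mathlib.CategoryTheory.Sites.LocallyBijective
import Mathlib.Algebra.Category.Grp.Limits
import Mathlib.CategoryTheory.Sites.Whiskering

/-!
Isomorphisms of abelian étale sheaves are detected locally on sections; sections of products.
-/

set_option autoImplicit false
open CategoryTheory CategoryTheory.Limits AlgebraicGeometry Opposite
universe u

namespace Groth.Agent.Etcore.LocalIso

open Etcore.Cover

theorem forget_preservesLimitsOfSize : PreservesLimitsOfSize.{u, u + 1} (forget AddCommGrpCat.{u + 1}) :=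
  preservesLimitsOfSize_shrink.{u + 1, u + 1, u, u + 1} _

instance forget_preservesLimitsOfSize' : PreservesLimitsOfSize.{u, u} (forget AddCommGrpCat.{u + 1}) :=
  preservesLimitsOfSize_shrink.{u, u + 1, u, u + 1} _

instance hasLimitsOfSize : HasLimitsOfSize.{u, u} AddCommGrpCat.{u + 1} :=
  hasLimitsOfSizeShrink.{u, u, u + 1, u + 1} _

instance hasSheafCompose (X : Scheme.{u}) :
    X.smallEtaleTopology.HasSheafCompose (forget AddCommGrpCat.{u + 1}) :=
  letI := forget_preservesLimitsOfSize.{u}
  hasSheafCompose_of_preservesLimitsOfSize.{u, u + 1} _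

/-- Elementwise criterion for an isomorphism of abelian étale sheaves. -/
theorem isIso_of_local {X : Scheme.{u}} {F G : EtCoh.Ab X} (φ : F ⟶ G)
    (hinj : ∀ (U : X.Etale) (s : EtCoh.sect F U), φ.hom.app (op U) s = 0 → ∀ x : U.left,
      ∃ (W : X.Etale) (g : W ⟶ U) (w : W.left), g.left w = x ∧ F.obj.map g.op s = 0)
    (hsurj : ∀ (U : X.Etale) (t : EtCoh.sect G U) (x : U.left),
      ∃ (W : X.Etale) (g : W ⟶ U) (w : W.left) (s : EtCoh.sect F W), g.left w = x ∧
        φ.hom.app (op W) s = G.obj.map g.op t) : IsIso φ := by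
  have hs := hasSheafCompose X
  refine (Sheaf.isLocallyBijective_iff_isIso (J := X.smallEtaleTopology) (A := AddCommGrpCat.{u + 1}) φ).mp ⟨?_, ?_⟩
  · constructor
    intro U x y h
    rw [mem_iff]
    intro u
    have h0 : φ.hom.app (op U.unop) (x - y) = 0 := by
      have := map_sub (φ.hom.app U).hom x y
      refine this.trans ?_
      exact sub_eq_zero.mpr h
    obtain ⟨W, g, w, hw, h1⟩ := hinj U.unop (x - y) h0 u
    refine ⟨W, g, w, ?_, hw⟩
    have h2 := map_sub (F.obj.map g.op).hom x y
    exact sub_eq_zero.mp (h2.symm.trans h1)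
  · constructor
    intro U t
    rw [mem_iff]
    intro u
    obtain ⟨W, g, w, s, hw, h1⟩ := hsurj U t u
    exact ⟨W, g, w, ⟨s, h1⟩, hw⟩

/-- A morphism of abelian étale sheaves is an isomorphism if it is bijective on sections over
enough étale schemes. -/
theorem isIso_of_basis {X : Scheme.{u}} {F G : EtCoh.Ab X} (φ : F ⟶ G)
    (h : ∀ (U : X.Etale) (x : U.left), ∃ (W : X.Etale) (g : W ⟶ U) (w : W.left), g.left w = x ∧
      Function.Bijective (φ.hom.app (op W))) : IsIso φ := by
  apply isIso_of_local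
  · intro U s hs x
    obtain ⟨W, g, w, hw, hb⟩ := h U x
    refine ⟨W, g, w, hw, hb.1 ?_⟩
    rw [map_zero]
    have h1 := NatTrans.naturality_apply φ.hom g.op s
    rw [h1, hs, map_zero]
  · intro U t x
    obtain ⟨W, g, w, hw, hb⟩ := h U x
    obtain ⟨s, hs⟩ := hb.2 (G.obj.map g.op t)
    exact ⟨W, g, w, s, hw, hs⟩

/-- The functor of sections over `V`, with values in types. -/
noncomputable abbrev sectType {X : Scheme.{u}} (V : X.Etale) : EtCoh.Ab X ⥤ Type (u + 1) :=
  sheafToPresheaf _ _ ⋙ (evaluation _ _).obj (op V) ⋙ forget AddCommGrpCat.{u + 1}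

instance sectType_preservesLimits {X : Scheme.{u}} (V : X.Etale) :
    PreservesLimitsOfSize.{u, u} (sectType V) := by
  have h1 : PreservesLimitsOfSize.{u, u} (forget AddCommGrpCat.{u + 1}) := inferInstance
  have h3 : PreservesLimitsOfSize.{u, u} (sheafToPresheaf X.smallEtaleTopology AddCommGrpCat.{u + 1}) :=
    inferInstance
  have h2 : PreservesLimitsOfSize.{u, u} ((evaluation X.Etaleᵒᵖ AddCommGrpCat.{u + 1}).obj (op V)) :=
    ⟨fun {J} _ ↦ inferInstance⟩
  infer_instance

/-- Sections of a product of sheaves. -/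
theorem prod_sect_bijective {X : Scheme.{u}} {ι : Type u} (G : ι → EtCoh.Ab X) (V : X.Etale) :
    Function.Bijective (fun (s : EtCoh.sect (∏ᶜ G) V) (i : ι) ↦
      ((Pi.π G i).hom.app (op V) s : EtCoh.sect (G i) V)) := by
  have hl := isLimitOfPreserves (sectType V) (limit.isLimit (Discrete.functor G))
  have hb := (Types.isLimit_iff_bijective_sectionOfCone _).mp ⟨hl⟩
  constructor
  · intro s t h
    apply hb.1
    ext ⟨i⟩
    exact congrFun h i
  · intro t
    obtain ⟨s, hs⟩ := hb.2 ⟨fun j ↦ t j.as, by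
      rintro ⟨i⟩ ⟨j⟩ ⟨⟨h⟩⟩
      dsimp at h
      subst h
      simp⟩
    refine ⟨s, ?_⟩
    ext i
    exact congrFun (congrArg Subtype.val hs) ⟨i⟩

end Groth.Agent.Etcore.LocalIso
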