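import Groth.Agent.Etcore.AbMV
import Groth.Agent.Etcore.LocMap
import Groth.Agent.Etbase.EtSite

/-!
# The Mayer-Vietoris square of free sheaves of two opens covering a scheme
-/

set_option autoImplicit false
universe u
open CategoryTheory CategoryTheory.Limits CategoryTheory.Abelian AlgebraicGeometry Opposite

namespace Groth.Agent.Etcore.MV

open Groth.Agent.Etcore.LocSec Groth.Agent.Etcore.ZU Groth.Agent.Etcore.ExtAdj
open Groth.Agent.Etcore.Loc Groth.Agent.Etcore.LocEt Groth.Agent.Etcore.LocMap
open Groth.Agent.Etcore.AbMV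
open scoped Groth.Agent.Etcore.FastInst

variable {X : Scheme.{u}}

/-- An open subscheme as an object of the étale site. -/
noncomputable abbrev OE (U : X.Opens) : X.Etale := Scheme.Etale.mk U.ι

set_option backward.isDefEq.respectTransparency.types false in
/-- Inclusion of opens. -/
noncomputable def incl {U V : X.Opens} (h : U ≤ V) : OE U ⟶ OE V :=
  MorphismProperty.Over.homMk (X.homOfLE h) (X.homOfLE_ι h)

theorem incl_left {U V : X.Opens} (h : U ≤ V) : (incl h).left = X.homOfLE h := rfl

set_option backward.isDefEq.respectTransparency.types false in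
theorem hom_OE_ext {U : X.Opens} {W : X.Etale} (a b : W ⟶ OE U) : a = b := by
  apply MorphismProperty.Over.Hom.ext
  have ha : a.left ≫ U.ι = W.hom := MorphismProperty.Over.w a
  have hb : b.left ≫ U.ι = W.hom := MorphismProperty.Over.w b
  exact (cancel_mono U.ι).1 (ha.trans hb.symm)

instance mono_incl {U V : X.Opens} (h : U ≤ V) : Mono (incl h) where
  right_cancellation a b _ := hom_OE_ext a b

set_option backward.isDefEq.respectTransparency.types false in
/-- A morphism to an open subscheme. -/
theorem exists_hom_OE (U : X.Opens) (W : X.Etale) (h : ∀ w : W.left, W.hom w ∈ U) :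
    Nonempty (W ⟶ OE U) := by
  have hr : Set.range W.hom ⊆ Set.range U.ι := by
    rintro _ ⟨w, rfl⟩
    rw [Scheme.Opens.range_ι]
    exact h w
  let l : W.left ⟶ (U : Scheme.{u}) := IsOpenImmersion.lift U.ι W.hom hr
  have hl : l ≫ U.ι = W.hom := IsOpenImmersion.lift_fac _ _ _
  exact ⟨MorphismProperty.Over.homMk l hl⟩

set_option backward.isDefEq.respectTransparency.types false in
theorem mem_of_hom_OE {U : X.Opens} {W : X.Etale} (a : W ⟶ OE U) (w : W.left) : W.hom w ∈ U := by
  have ha : a.left ≫ U.ι = W.hom := MorphismProperty.Over.w a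
  rw [← ha]
  exact (a.left w).2

theorem toTop_left (W : X.Etale) : (toTop W).left = W.hom := by
  have h : (toTop W).left ≫ (EtCoh.top X).hom = W.hom := MorphismProperty.Over.w (toTop W)
  exact (Category.comp_id _).symm.trans h

/-- The two-element family of opens. -/
noncomputable def fam (U V : X.Opens) (b : Bool) : X.Etale := cond b (OE U) (OE V)

theorem fam_mem (U V : X.Opens) (hUV : U ⊔ V = ⊤) :
    Sieve.generate (Presieve.ofArrows (fam U V) (fun b => toTop (fam U V b))) ∈
      X.smallEtaleTopology (EtCoh.top X) := by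
  rw [Groth.Agent.Etbase.EtSite.mem_iff]
  intro x
  have hx : (x : X) ∈ (U ⊔ V : X.Opens) := by rw [hUV]; trivial
  rcases hx with hx | hx
  · refine ⟨OE U, toTop (OE U), (⟨x, hx⟩ : U), ?_, ?_⟩
    · exact Sieve.le_generate _ _ _ (Presieve.ofArrows.mk (f := fun b => toTop (fam U V b)) true)
    · rw [toTop_left]; rfl
  · refine ⟨OE V, toTop (OE V), (⟨x, hx⟩ : V), ?_, ?_⟩
    · exact Sieve.le_generate _ _ _ (Presieve.ofArrows.mk (f := fun b => toTop (fam U V b)) false)
    · rw [toTop_left]; rfl

/-- Sections over `X` from sections over two opens covering `X`. -/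
theorem glue (U V : X.Opens) (hUV : U ⊔ V = ⊤) (F : EtCoh.Ab X)
    (s : EtCoh.sect F (OE U)) (t : EtCoh.sect F (OE V))
    (h : res F (incl (inf_le_left : U ⊓ V ≤ U)) s = res F (incl (inf_le_right : U ⊓ V ≤ V)) t) :
    ∃! r : EtCoh.sect F (EtCoh.top X), res F (toTop (OE U)) r = s ∧ res F (toTop (OE V)) r = t := by
  have hF : Presieve.IsSheaf X.smallEtaleTopology (F.obj ⋙ forget AddCommGrpCat.{u + 1}) :=
    (isSheaf_iff_isSheaf_of_type _ _).1
      ((Presheaf.isSheaf_iff_isSheaf_forget _ _ (forget AddCommGrpCat.{u + 1})).1 F.property)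
  have h1 := (Presieve.isSheafFor_iff_generate _).2 (hF _ (fam_mem U V hUV))
  rw [Presieve.isSheafFor_arrows_iff] at h1
  have aux : ∀ (Z : X.Etale) (a : Z ⟶ OE U) (b : Z ⟶ OE V), res F a s = res F b t := by
    intro Z a b
    obtain ⟨k⟩ := exists_hom_OE (U ⊓ V) Z (fun w => ⟨mem_of_hom_OE a w, mem_of_hom_OE b w⟩)
    rw [hom_OE_ext a (k ≫ incl inf_le_left), hom_OE_ext b (k ≫ incl inf_le_right),
      ← res_res, ← res_res, h]
  let x : ∀ b, (F.obj ⋙ forget AddCommGrpCat.{u + 1}).obj (op (fam U V b)) :=
    fun b => match b with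
      | true => s
      | false => t
  obtain ⟨r, hr, hr'⟩ := h1 x (by
    intro i j Z gi gj _
    match i, j with
    | true, true => exact congrArg (fun k => res F k s) (hom_OE_ext gi gj)
    | false, false => exact congrArg (fun k => res F k t) (hom_OE_ext gi gj)
    | true, false => exact aux Z gi gj
    | false, true => exact (aux Z gj gi).symm)
  refine ⟨r, ⟨hr true, hr false⟩, ?_⟩
  rintro r' ⟨h1, h2⟩
  apply hr'
  intro b
  match b with
  | true => exact h1
  | false => exact h2

/-- The Mayer-Vietoris square of free sheaves. -/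
noncomputable def sq (U V : X.Opens) (hUV : U ⊔ V = ⊤) :
    Sq (EtCoh.const X ℤ) (ZE (OE U)) (ZE (OE V)) (ZE (OE (U ⊓ V))) where
  a := toConst (OE U)
  b := toConst (OE V)
  c := zmap (incl inf_le_left)
  d := zmap (incl inf_le_right)
  w := by rw [zmap_toConst, zmap_toConst]
  inj {I} φ ψ h1 h2 := by
    apply hext (isGen_one X)
    have e1 := congrArg (fun k => app k (OE U) (genE (OE U))) h1
    have e2 := congrArg (fun k => app k (OE V) (genE (OE V))) h2
    rw [app_comp, app_comp, app_toConst, ← res_app, ← res_app] at e1 e2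
    obtain ⟨r, -, hr⟩ := glue U V hUV I (res I (toTop (OE U)) (app φ (EtCoh.top X) (one X)))
      (res I (toTop (OE V)) (app φ (EtCoh.top X) (one X))) (by
        rw [res_res, res_res, (EtCore.topIsTerminal X).hom_ext
          (incl inf_le_left ≫ toTop (OE U)) (incl inf_le_right ≫ toTop (OE V))])
    rw [hr _ ⟨rfl, rfl⟩, hr _ ⟨e1.symm, e2.symm⟩]
  ex {I} α β h := by
    have e := congrArg (fun k => app k (OE (U ⊓ V)) (genE (OE (U ⊓ V)))) h
    rw [app_comp, app_comp, app_zmap, app_zmap, ← res_app, ← res_app] at e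
    obtain ⟨r, ⟨hr1, hr2⟩, -⟩ := glue U V hUV I (app α (OE U) (genE (OE U)))
      (app β (OE V) (genE (OE V))) e
    refine ⟨ofSec (isGen_one X) r, ?_, ?_⟩
    · apply hext (isGen_genE (OE U))
      rw [app_comp, app_toConst, ← res_app, app_ofSec, hr1]
    · apply hext (isGen_genE (OE V))
      rw [app_comp, app_toConst, ← res_app, app_ofSec, hr2]
  mono := inferInstance

end Groth.Agent.Etcore.MV
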