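import Groth.Agent.Etcore.ExtCompare
import Groth.Agent.Etcore.LFreeGen
import Groth.Agent.Etrest.ModAbR
import Groth.Agent.Sga4B.DualShape

/-!
# `Ext` from `Λ[U]` in sheaves of modules and from `ℤ[U]` in abelian sheaves

* `cU U : ℤ[U] ⟶ (Λ[U])^ab`, natural in `U`;
* `ext_ab_injective`: `Ext^{q+1}(ℤ[U], I^ab) = 0` for `I` an injective sheaf of modules;
* `extMap_bijective`: `Ext^q(Λ[U], F) → Ext^q(ℤ[U], F^ab)`, `e ↦ c_U ≫ e^ab`, is bijective.
-/

set_option autoImplicit false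
universe u

open CategoryTheory CategoryTheory.Limits AlgebraicGeometry Opposite CategoryTheory.Abelian

namespace Groth.Agent.Etcore.ModExt

open Groth.Agent.EtpbcA Groth.Agent.Etcore Groth.Agent.Etcore.LVan Groth.Agent.Etcore.LFree
open Groth.Agent.Sga4B.DualShape Groth.Agent.Etrest

variable {Λ : Type (u + 1)} [CommRing Λ] {X : Scheme.{u}}

/-! ### Sections as morphisms from `ℤ[U]` -/

/-- `ℤ[U]`. -/
noncomputable abbrev ZZ (U : X.Etale) : EtCoh.Ab X := EtPBC.extZeroConst U ℤ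

/-- The universal section of `ℤ[U]`. -/
noncomputable def zgen (U : X.Etale) : EtCoh.sect (ZZ U) U := Jshriek.univ U ℤ 1

/-- The morphism `ℤ[U] ⟶ G` attached to a section. -/
noncomputable def zdesc {U : X.Etale} {G : EtCoh.Ab X} (s : EtCoh.sect G U) : ZZ U ⟶ G :=
  Jshriek.lift U (zmultiplesHom _ s)

theorem zdesc_zgen {U : X.Etale} {G : EtCoh.Ab X} (s : EtCoh.sect G U) :
    (zdesc s).hom.app (op U) (zgen U) = s := by
  refine (Jshriek.lift_univ U _ 1).trans ?_
  change (1 : ℤ) • s = s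
  exact one_zsmul s

theorem univ_eq (U : X.Etale) (m : ℤ) : Jshriek.univ U ℤ m = m • zgen U := by
  rw [zgen, ← map_zsmul]
  simp

theorem zhom_ext {U : X.Etale} {G : EtCoh.Ab X} {α β : ZZ U ⟶ G}
    (h : α.hom.app (op U) (zgen U) = β.hom.app (op U) (zgen U)) : α = β := by
  refine Jshriek.hom_ext U (fun m => ?_)
  rw [univ_eq, map_zsmul, map_zsmul, h]

/-! ### Acyclicity -/

/-- Vanishing of a composition with the extension class for a liftable map. -/
theorem mk₀_comp_extClass_of_factor {C : Type*} [Category C] [Abelian C] [HasExt.{u + 1} C]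
    {S : ShortComplex C} (hS : S.ShortExact) {Q : C} (a : Q ⟶ S.X₃) (b : Q ⟶ S.X₂)
    (h : b ≫ S.g = a) : (Ext.mk₀ a).comp hS.extClass (zero_add 1) = 0 := by
  rw [← h, ← Ext.mk₀_comp_mk₀, Ext.comp_assoc_of_second_deg_zero, hS.comp_extClass, Ext.comp_zero]

theorem ext_hsh_one (U : X.Etale) (P : AddCommGrpCat.{u + 1}) (J : EtCoh.Ab X) [Injective J]
    (e : Ext.{u + 1} (ZZ U) ((ModAb.hsh P).obj J) 1) : e = 0 := by
  have hS := ModAb.hsh_shortExact (ModAb.freeSeq_shortExact P) J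
  have hinj : Injective ((ModAb.hsh (ModAb.freeSeq P).X₂).obj J) := ModAb.injective_hsh_free P J
  have hm := (ModAb.freeSeq_shortExact P).mono_f
  obtain ⟨e', he'⟩ := Ext.covariant_sequence_exact₁ (ZZ U) hS e (Ext.eq_zero_of_injective _)
    (rfl : 0 + 1 = 0 + 1)
  obtain ⟨a, rfl⟩ := (Ext.mk₀_bijective _ _).2 e'
  let s : EtCoh.sect ((ModAb.hsh (ModAb.freeSeq P).X₁).obj J) U := a.hom.app (op U) (zgen U)
  have := ModAb.injective_sect J U
  obtain ⟨t, ht⟩ := ModAb.exists_factor (ModAb.freeSeq P).f (B := J.obj.obj (op U)) s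
  have h1 : zdesc (G := (ModAb.hsh (ModAb.freeSeq P).X₂).obj J) t ≫
      ModAb.hshMap (ModAb.freeSeq P).f J = a := by
    apply zhom_ext
    refine Eq.trans ?_ ht
    exact congrArg ((ModAb.hshMap (ModAb.freeSeq P).f J).hom.app (op U)) (zdesc_zgen
      (G := (ModAb.hsh (ModAb.freeSeq P).X₂).obj J) t)
  rw [← he']
  exact mk₀_comp_extClass_of_factor hS a _ h1

theorem ext_hsh (U : X.Etale) (P : AddCommGrpCat.{u + 1}) (J : EtCoh.Ab X) [Injective J] (q : ℕ)
    (e : Ext.{u + 1} (ZZ U) ((ModAb.hsh P).obj J) (q + 1)) : e = 0 := by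
  induction q generalizing P with
  | zero => exact ext_hsh_one U P J e
  | succ q ih =>
    have hS := ModAb.hsh_shortExact (ModAb.freeSeq_shortExact P) J
    have hinj : Injective ((ModAb.hsh (ModAb.freeSeq P).X₂).obj J) := ModAb.injective_hsh_free P J
    obtain ⟨e', he'⟩ := Ext.covariant_sequence_exact₁ (ZZ U) hS e (Ext.eq_zero_of_injective _)
      (rfl : (q + 1) + 1 = (q + 1) + 1)
    rw [← he', ih _ e', Ext.zero_comp]
    rfl

/-- The underlying abelian sheaf of an injective sheaf of modules has no higher cohomology. -/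
theorem ext_ab_injective (U : X.Etale) (I : EtModW.Mod Λ X) [Injective I] (q : ℕ)
    (e : Ext.{u + 1} (ZZ U) (ab I) (q + 1)) : e = 0 := by
  let J : EtCoh.Ab X := Injective.under ((ModAb.ab Λ X).obj I)
  let j : (ModAb.ab Λ X).obj I ⟶ J := Injective.ι _
  let i : I ⟶ (ModAb.coindSh Λ X).obj J := (ModAb.coindShAdj Λ X).homEquiv _ _ j
  have hi : Mono i := by
    have h : (ModAb.ab Λ X).map i ≫ (ModAb.coindShAdj Λ X).counit.app J = j := by
      have := (ModAb.coindShAdj Λ X).homEquiv_counit (g := i)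
      rw [← this]
      exact ((ModAb.coindShAdj Λ X).homEquiv _ _).symm_apply_apply j
    have h2 : Mono ((ModAb.ab Λ X).map i) := by
      have : Mono ((ModAb.ab Λ X).map i ≫ (ModAb.coindShAdj Λ X).counit.app J) := by
        rw [h]
        infer_instance
      exact mono_of_mono _ ((ModAb.coindShAdj Λ X).counit.app J)
    exact (ModAb.ab Λ X).mono_of_mono_map h2
  let r : (ModAb.coindSh Λ X).obj J ⟶ I := Injective.factorThru (𝟙 I) i
  have hr : i ≫ r = 𝟙 I := Injective.comp_factorThru _ _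
  let K : EtCoh.Ab X := (ModAb.hsh (AddCommGrpCat.of Λ)).obj J
  let a : (ModAb.ab Λ X).obj I ⟶ K := (ModAb.ab Λ X).map i ≫ (ModAb.abCoindIso Λ J).hom
  let b : K ⟶ (ModAb.ab Λ X).obj I := (ModAb.abCoindIso Λ J).inv ≫ (ModAb.ab Λ X).map r
  have hab : a ≫ b = 𝟙 _ := by
    simp only [a, b, Category.assoc, Iso.hom_inv_id_assoc, ← Functor.map_comp, hr]
    exact (ModAb.ab Λ X).map_id I
  have h1 : (e.comp (Ext.mk₀ a) (add_zero _)) = 0 := ext_hsh U (AddCommGrpCat.of Λ) J q _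
  have h2 : e.comp (Ext.mk₀ (𝟙 ((ModAb.ab Λ X).obj I))) (add_zero _) = 0 := by
    rw [← hab, ← Ext.mk₀_comp_mk₀, ← Ext.comp_assoc_of_third_deg_zero, h1, Ext.zero_comp]
  rwa [Ext.comp_mk₀_id] at h2

/-! ### The comparison -/

/-- The map `ℤ[U] ⟶ (Λ[U])^ab`. -/
noncomputable def cZ (U : X.Etale) : ZZ U ⟶ ab (LM Λ U) := zdesc (toAb (LM Λ U) (gen Λ U))

theorem cZ_zgen (U : X.Etale) :
    (cZ (Λ := Λ) U).hom.app (op U) (zgen U) = toAb (LM Λ U) (gen Λ U) := zdesc_zgen _

theorem cZ_comp (U : X.Etale) {F : EtModW.Mod Λ X} (α : LM Λ U ⟶ F) :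
    cZ U ≫ abMap α = zdesc (toAb F (ev α U (gen Λ U))) := by
  apply zhom_ext
  rw [zdesc_zgen]
  exact congrArg ((abMap α).hom.app (op U)) (cZ_zgen U)

theorem cZ_bijective (U : X.Etale) (F : EtModW.Mod Λ X) :
    Function.Bijective (fun α : LM Λ U ⟶ F => cZ U ≫ (EtModD.forgetToAb Λ X).map α) := by
  constructor
  · intro α β h
    change cZ U ≫ abMap α = cZ U ≫ abMap β at h
    rw [cZ_comp, cZ_comp] at h
    apply hom_ext
    have := congrArg (fun γ => γ.hom.app (op U) (zgen U)) h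
    simp only [zdesc_zgen] at this
    exact this
  · intro β
    refine ⟨desc (β.hom.app (op U) (zgen U)), ?_⟩
    change cZ U ≫ abMap _ = β
    rw [cZ_comp]
    apply zhom_ext
    rw [zdesc_zgen, desc_gen]
    rfl

noncomputable instance : (EtModD.forgetToAb Λ X).Additive :=
  inferInstanceAs (ModAb.ab Λ X).Additive

noncomputable instance : PreservesFiniteLimits (EtModD.forgetToAb Λ X) :=
  inferInstanceAs (PreservesFiniteLimits (ModAb.ab Λ X))

noncomputable instance : PreservesFiniteColimits (EtModD.forgetToAb Λ X) :=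
  inferInstanceAs (PreservesFiniteColimits (ModAb.ab Λ X))

/-- The comparison `Ext^q(Λ[U], F) → Ext^q(ℤ[U], F^ab)`. -/
noncomputable def extMap (U : X.Etale) (F : EtModW.Mod Λ X) (q : ℕ) :
    Ext.{u + 1} (LM Λ U) F q →+ Ext.{u + 1} (ZZ U) (ab F) q :=
  ExtCompare.cmp (EtModD.forgetToAb Λ X) (cZ U) F q

theorem extMap_bijective (U : X.Etale) (F : EtModW.Mod Λ X) (q : ℕ) :
    Function.Bijective (extMap U F q) :=
  ExtCompare.cmp_bijective (EtModD.forgetToAb Λ X) (cZ U) (fun F => cZ_bijective U F)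
    (fun I _ q e => ext_ab_injective U I q e) F q

theorem extMap_apply {U : X.Etale} {F : EtModW.Mod Λ X} {q : ℕ} (e : Ext.{u + 1} (LM Λ U) F q) :
    extMap U F q e = (Ext.mk₀ (cZ U)).comp (e.mapExactFunctor (EtModD.forgetToAb Λ X))
      (zero_add q) := rfl

/-- `extMap` as an isomorphism. -/
noncomputable def extEquiv (U : X.Etale) (F : EtModW.Mod Λ X) (q : ℕ) :
    Ext.{u + 1} (LM Λ U) F q ≃+ Ext.{u + 1} (ZZ U) (ab F) q :=
  AddEquiv.ofBijective (extMap U F q) (extMap_bijective U F q)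

theorem extMap_comp {U : X.Etale} {F G : EtModW.Mod Λ X} {q r s : ℕ}
    (e : Ext.{u + 1} (LM Λ U) F q) (e' : Ext.{u + 1} F G r) (h : q + r = s) :
    extMap U G s (e.comp e' h) = (extMap U F q e).comp
      (e'.mapExactFunctor (EtModD.forgetToAb Λ X)) h :=
  ExtCompare.cmp_comp (EtModD.forgetToAb Λ X) (cZ U) e e' h

theorem extMap_comp_mk₀ {U : X.Etale} {F G : EtModW.Mod Λ X} {q : ℕ}
    (e : Ext.{u + 1} (LM Λ U) F q) (f : F ⟶ G) :
    extMap U G q (e.comp (Ext.mk₀ f) (add_zero q)) =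
      (extMap U F q e).comp (Ext.mk₀ (abMap f)) (add_zero q) :=
  ExtCompare.cmp_comp_mk₀ (EtModD.forgetToAb Λ X) (cZ U) e f

/-- The section of `ℤ[U]` over `V` attached to `g : V ⟶ U`, and `jMap`. -/
theorem jMap_zgen {U V : X.Etale} (g : V ⟶ U) :
    (jMap ℤ g).hom.app (op V) (zgen V) = (ZZ U).obj.map g.op (zgen U) := jMap_univ ℤ g 1

theorem jMap_zdesc {U V : X.Etale} (g : V ⟶ U) {G : EtCoh.Ab X} (s : EtCoh.sect G U) :
    jMap ℤ g ≫ zdesc s = zdesc (G.obj.map g.op s) := by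
  apply zhom_ext
  rw [zdesc_zgen]
  have h1 : (zdesc s).hom.app (op V) ((ZZ U).obj.map g.op (zgen U)) =
      G.obj.map g.op ((zdesc s).hom.app (op U) (zgen U)) :=
    (ConsVan.res_naturality (zdesc s) g (zgen U)).symm
  refine Eq.trans ?_ (h1.trans (congrArg (G.obj.map g.op) (zdesc_zgen s)))
  exact congrArg ((zdesc s).hom.app (op V)) (jMap_zgen g)

/-- Naturality of `cZ` in `U`. -/
theorem cZ_nat {U V : X.Etale} (g : V ⟶ U) :
    jMap ℤ g ≫ cZ (Λ := Λ) U = cZ V ≫ abMap (map g) := by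
  rw [cZ_comp, cZ, jMap_zdesc, map_gen]
  rfl

/-- Naturality of `extMap` in `U`. -/
theorem extMap_precomp {U V : X.Etale} (g : V ⟶ U) {F : EtModW.Mod Λ X} {q : ℕ}
    (e : Ext.{u + 1} (LM Λ U) F q) :
    extMap V F q ((Ext.mk₀ (map g)).comp e (zero_add q)) =
      (Ext.mk₀ (jMap ℤ g)).comp (extMap U F q e) (zero_add q) := by
  rw [extMap_apply, extMap_apply, Ext.mapExactFunctor_comp, Ext.mapExactFunctor_mk₀,
    ← Ext.comp_assoc_of_second_deg_zero, ← Ext.comp_assoc_of_second_deg_zero, Ext.mk₀_comp_mk₀,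
    Ext.mk₀_comp_mk₀, cZ_nat]

/-! ### The underlying abelian sheaf of `Λ[U]` -/

section isoAb

variable {M : Type} [AddCommGroup M] (e : M ≃+ Λ)

/-- The map `u_! M ⟶ (Λ[U])^ab` attached to `e : M ≃+ Λ`. -/
noncomputable def isoAbHom (U : X.Etale) : EtPBC.extZeroConst U M ⟶ ab (LM Λ U) :=
  Jshriek.lift U ({ toFun := fun m => toAb (LM Λ U) (e m • gen Λ U)
                    map_zero' := by rw [_root_.map_zero, zero_smul]; rfl
                    map_add' := fun m m' => by rw [_root_.map_add, add_smul]; rfl } :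
    M →+ EtCoh.sect (ab (LM Λ U)) U)

theorem isoAbHom_univ (U : X.Etale) (m : M) :
    (isoAbHom e U).hom.app (op U) (Jshriek.univ U M m) = toAb (LM Λ U) (e m • gen Λ U) :=
  Jshriek.lift_univ U _ m

/-- Morphisms from `(Λ[U])^ab` are determined by the values on the multiples of `gen`. -/
theorem abLM_hom_ext {U : X.Etale} {G : EtCoh.Ab X} {α β : ab (LM Λ U) ⟶ G}
    (h : ∀ x : Λ, α.hom.app (op U) (toAb (LM Λ U) (x • gen Λ U)) =
      β.hom.app (op U) (toAb (LM Λ U) (x • gen Λ U))) : α = β := by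
  apply Sheaf.hom_ext
  ext V t
  rw [← sub_eq_zero]
  refine ConsVan.eq_zero_of_van (F := G) _ fun x => ?_
  obtain ⟨W, g, w, c, hw, hc⟩ := exists_sec U (V := V.unop) t x
  subst hw
  apply ConsVan.Van.of_res
  apply ConsVan.van_zero_of_eq
  have key : ∀ γ : ab (LM Λ U) ⟶ G, ConsVan.res G g (γ.hom.app V t) =
      c.sum fun h a => ConsVan.res G h (γ.hom.app (op U) (toAb (LM Λ U) (a • gen Λ U))) := by
    intro γ
    have h1 : ConsVan.res G g (γ.hom.app V t) = γ.hom.app (op W)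
        (ConsVan.res (ab (LM Λ U)) g t) := ConsVan.res_naturality γ g t
    have h2 : ConsVan.res (ab (LM Λ U)) g t = toAb (LM Λ U)
        (c.sum fun h a => a • res (LM Λ U) h (gen Λ U)) := by
      rw [← sec_eq_sum, ← hc]
      rfl
    rw [h1, h2]
    have h3 : toAb (LM Λ U) (c.sum fun h a => a • res (LM Λ U) h (gen Λ U)) =
        c.sum fun h a => toAb (LM Λ U) (a • res (LM Λ U) h (gen Λ U)) := rfl
    rw [h3, Finsupp.sum, map_sum, Finsupp.sum]
    refine Finset.sum_congr rfl fun h _ => ?_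
    have h4 : toAb (LM Λ U) (c h • res (LM Λ U) h (gen Λ U)) =
        ConsVan.res (ab (LM Λ U)) h (toAb (LM Λ U) (c h • gen Λ U)) := by
      rw [res_toAb, map_smul]
    rw [h4]
    exact (ConsVan.res_naturality γ h _).symm
  rw [map_sub, sub_eq_zero, key α, key β]
  refine Finset.sum_congr rfl fun k _ => ?_
  change ConsVan.res G k _ = ConsVan.res G k _
  rw [h]

/-- Morphisms from `(Λ[U])^ab` with given values on the multiples of `gen`. -/
theorem exists_abLM_hom {U : X.Etale} {G : EtCoh.Ab X} (φ : Λ →+ EtCoh.sect G U) :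
    ∃ β : ab (LM Λ U) ⟶ G, ∀ x : Λ, β.hom.app (op U) (toAb (LM Λ U) (x • gen Λ U)) = φ x := by
  let s : EtModW.sect Λ ((ModAb.coindSh Λ X).obj G) U := φ
  let β : ab (LM Λ U) ⟶ G := ((ModAb.coindShAdj Λ X).homEquiv _ _).symm (desc s)
  refine ⟨β, fun x => ?_⟩
  have h1 : β = (ModAb.ab Λ X).map (desc s) ≫ (ModAb.coindShAdj Λ X).counit.app G :=
    (ModAb.coindShAdj Λ X).homEquiv_counit _ _ _
  rw [h1]
  change ((ModAb.coindShAdj Λ X).counit.app G).hom.app (op U) (ev (desc s) U (x • gen Λ U)) = φ x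
  rw [map_smul, desc_gen]
  change φ (x * 1) = φ x
  rw [mul_one]

instance isIso_isoAbHom (U : X.Etale) : IsIso (isoAbHom e U) := by
  rw [isIso_iff_coyoneda_map_bijective]
  intro G
  constructor
  · intro α β h
    apply abLM_hom_ext
    intro x
    have h1 := congrArg (fun γ => γ.hom.app (op U) (Jshriek.univ U M (e.symm x))) h
    change α.hom.app (op U) ((isoAbHom e U).hom.app (op U) _) =
      β.hom.app (op U) ((isoAbHom e U).hom.app (op U) _) at h1
    rw [isoAbHom_univ, e.apply_symm_apply] at h1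
    exact h1
  · intro γ
    obtain ⟨β, hβ⟩ := exists_abLM_hom (Λ := Λ) (U := U) (G := G)
      (((γ.hom.app (op U)).hom.comp (Jshriek.univ U M)).comp e.symm.toAddMonoidHom)
    refine ⟨β, Jshriek.hom_ext U fun m => ?_⟩
    change β.hom.app (op U) ((isoAbHom e U).hom.app (op U) _) = _
    rw [isoAbHom_univ, hβ]
    change γ.hom.app (op U) (Jshriek.univ U M (e.symm (e m))) = _
    rw [e.symm_apply_apply]

/-- `u_! M ≅ (Λ[U])^ab`. -/
noncomputable def isoAb (U : X.Etale) : EtPBC.extZeroConst U M ≅ ab (LM Λ U) :=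
  asIso (isoAbHom e U)

theorem isoAbHom_nat {U V : X.Etale} (g : V ⟶ U) :
    jMap M g ≫ isoAbHom e U = isoAbHom e V ≫ abMap (map g) := by
  refine Jshriek.hom_ext V fun m => ?_
  change (isoAbHom e U).hom.app (op V) ((jMap M g).hom.app (op V) _) =
    (abMap (map g)).hom.app (op V) ((isoAbHom e V).hom.app (op V) _)
  rw [isoAbHom_univ, jMap_univ]
  have h1 : (isoAbHom e U).hom.app (op V) ((EtPBC.extZeroConst U M).obj.map g.op
      (Jshriek.univ U M m)) = (ab (LM Λ U)).obj.map g.op ((isoAbHom e U).hom.app (op U)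
        (Jshriek.univ U M m)) := (ConsVan.res_naturality (isoAbHom e U) g _).symm
  rw [h1, isoAbHom_univ]
  change res (LM Λ U) g (e m • gen Λ U) = ev (map g) V (e m • gen Λ V)
  rw [map_smul, map_smul, map_gen]

/-- `u_! M ≅ (Λ[U])^ab`, naturally in `U`. -/
noncomputable def isoAbF : JF X M ≅ LMF Λ X ⋙ EtModD.forgetToAb Λ X :=
  NatIso.ofComponents (fun U => isoAb e U) (fun g => isoAbHom_nat e g)

end isoAb

end Groth.Agent.Etcore.ModExt
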