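import Groth.Agent.Etcore.MVbc
import Groth.Agent.Etcore.HpVia

/-!
# Gluing etale cohomology classes (Mayer-Vietoris)

* `glue`: for open immersions `j : U ⟶ X`, `k : V ⟶ X` covering `X` and `W = U ∩ V`, classes on `U`
  and `V` which agree on `W` come from a class on `X` (all degrees).
* `glue_sup`: the same for opens `A`, `B` of `Y` and a class on `A ⊔ B`; `res`: restriction maps.
* `glue_star`: `U` and finitely many `N i` covering `Y` with `N i ⊓ N j ≤ U` for `i ≠ j`.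
-/

set_option autoImplicit false
set_option backward.isDefEq.respectTransparency false
set_option backward.isDefEq.respectTransparency.types false
open CategoryTheory CategoryTheory.Limits AlgebraicGeometry Opposite CategoryTheory.Abelian
universe u

namespace Groth.Agent.Etcore.MvGlue352

open Groth.Agent.Etcore.ShriekBasic Groth.Agent.Etcore.MVShriek Groth.Agent.Etcore.MVEt
open Groth.Agent.Etcore.PullCoh Groth.Agent.Etcore.MVbc
open scoped Groth.Agent.Etcore.EtInst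
open Groth.Agent.Etcore.EtInst Groth.Agent.Etcore.HpullCalc Groth.Agent.Etcore.HpVia

section Abs

universe w v t₁ t₂ t₃
variable {C : Type u} [Category.{v} C] [Abelian C] [HasExt.{w} C]

/-- abstract gluing -/
theorem glue_abs {Pw Pj Pk Z F : C} (ca : Pw ⟶ Pj) (cb : Pw ⟶ Pk) (cj : Pj ⟶ Z) (ck : Pk ⟶ Z)
    (hz : biprod.lift ca (-cb) ≫ biprod.desc cj ck = 0)
    (hS : (ShortComplex.mk _ _ hz).ShortExact)
    (n : ℕ) (x : Ext.{w} Pj F n) (y : Ext.{w} Pk F n)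
    (h : (Ext.mk₀ ca).comp x (zero_add n) = (Ext.mk₀ cb).comp y (zero_add n)) :
    ∃ e : Ext.{w} Z F n, (Ext.mk₀ cj).comp e (zero_add n) = x ∧
      (Ext.mk₀ ck).comp e (zero_add n) = y := by
  obtain ⟨δ, -, -, h3, -⟩ := MVExtAbs.exists_δ (F := F) ca cb cj ck hz hS
    (Hw := fun n => Ext.{w} Pw F n) (Hj := fun n => Ext.{w} Pj F n) (Hk := fun n => Ext.{w} Pk F n)
    (fun n => AddEquiv.refl _) (fun n => AddEquiv.refl _) (fun n => AddEquiv.refl _)
    (fun n => (Ext.mk₀ cj).precomp F (zero_add n)) (fun n => (Ext.mk₀ ck).precomp F (zero_add n))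
    (fun _ _ => rfl) (fun _ _ => rfl)
    (fun n => (Ext.mk₀ ca).precomp F (zero_add n)) (fun n => (Ext.mk₀ cb).precomp F (zero_add n))
    (fun _ _ => rfl) (fun _ _ => rfl)
  have h4 : (x, y) ∈ ((((Ext.mk₀ ca).precomp F (zero_add n)).comp (AddMonoidHom.fst _ _) -
      ((Ext.mk₀ cb).precomp F (zero_add n)).comp (AddMonoidHom.snd _ _) :
        Ext.{w} Pj F n × Ext.{w} Pk F n →+ Ext.{w} Pw F n)).ker := by
    rw [AddMonoidHom.mem_ker, AddMonoidHom.sub_apply, sub_eq_zero]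
    exact h
  rw [h3 n] at h4
  obtain ⟨e, he⟩ := h4
  exact ⟨e, congrArg Prod.fst he, congrArg Prod.snd he⟩

end Abs

section StarAbs

universe w₂
variable {Y : Scheme.{u}} {H : Y.Opens → Type w₂} (r : ∀ {A B : Y.Opens}, A ≤ B → H B → H A)
  (rr : ∀ {A B C : Y.Opens} (h : A ≤ B) (h' : B ≤ C) (h'' : A ≤ C) (x : H C),
    r h (r h' x) = r h'' x)
  (rs : ∀ {A : Y.Opens} (h : A ≤ A) (x : H A), r h x = x)
  (gl : ∀ {A B W : Y.Opens} (hA : A ≤ W) (hB : B ≤ W) (_ : W ≤ A ⊔ B) (x : H A) (y : H B)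
    (_ : r (inf_le_left : A ⊓ B ≤ A) x = r (inf_le_right : A ⊓ B ≤ B) y),
    ∃ c : H W, r hA c = x ∧ r hB c = y)

include rr rs gl in
/-- abstract star shaped gluing -/
theorem star_abs {ι : Type*} [DecidableEq ι] (U : Y.Opens) (N : ι → Y.Opens)
    (hN : ∀ i j, i ≠ j → N i ⊓ N j ≤ U) (a : H U) (b : ∀ i, H (N i))
    (hab : ∀ i, r (inf_le_left : U ⊓ N i ≤ U) a = r (inf_le_right : U ⊓ N i ≤ N i) (b i))
    (s : Finset ι) : ∀ (W : Y.Opens) (_ : W = U ⊔ ⨆ i ∈ s, N i) (hU : U ≤ W)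
    (hNi : ∀ i ∈ s, N i ≤ W),
    ∃ c : H W, r hU c = a ∧ ∀ i (hi : i ∈ s), r (hNi i hi) c = b i := by
  induction s using Finset.induction_on with
  | empty =>
    intro W hW hU hNi
    have hW' : W ≤ U := by rw [hW]; simp
    refine ⟨r hW' a, ?_, fun i hi => absurd hi (Finset.notMem_empty i)⟩
    rw [rr hU hW' le_rfl a, rs]
  | insert i₀ s hi₀ ih =>
    intro W hW hU hNi
    obtain ⟨c, hc1, hc2⟩ := ih (U ⊔ ⨆ i ∈ s, N i) rfl le_sup_left
      (fun i hi => le_sup_of_le_right (le_iSup₂_of_le i hi le_rfl))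
    have hWs : (U ⊔ ⨆ i ∈ s, N i) ≤ W := by
      rw [hW]
      refine sup_le le_sup_left (le_sup_of_le_right ?_)
      exact iSup₂_le fun i hi => le_iSup₂_of_le i (Finset.mem_insert_of_mem hi) le_rfl
    have hW2 : W ≤ (U ⊔ ⨆ i ∈ s, N i) ⊔ N i₀ := by
      rw [hW]
      refine sup_le (le_sup_of_le_left le_sup_left) (iSup₂_le fun i hi => ?_)
      rcases Finset.mem_insert.1 hi with rfl | hi
      · exact le_sup_right
      · exact le_sup_of_le_left (le_sup_of_le_right (le_iSup₂_of_le i hi le_rfl))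
    have hinf : (U ⊔ ⨆ i ∈ s, N i) ⊓ N i₀ ≤ U ⊓ N i₀ := by
      refine le_inf ?_ inf_le_right
      rw [inf_sup_right, iSup₂_inf_eq]
      refine sup_le inf_le_left (iSup₂_le fun i hi => hN i i₀ ?_)
      rintro rfl
      exact hi₀ hi
    have hcomp : r (inf_le_left : (U ⊔ ⨆ i ∈ s, N i) ⊓ N i₀ ≤ (U ⊔ ⨆ i ∈ s, N i)) c =
        r (inf_le_right : (U ⊔ ⨆ i ∈ s, N i) ⊓ N i₀ ≤ N i₀) (b i₀) := by
      have e1 := rr (hinf.trans inf_le_left) le_sup_left inf_le_left c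
      have e2 := rr hinf inf_le_left (hinf.trans inf_le_left) a
      have e3 := rr hinf inf_le_right inf_le_right (b i₀)
      rw [hc1] at e1
      rw [hab i₀] at e2
      rw [← e1, ← e2, e3]
    obtain ⟨d, hd1, hd2⟩ := gl hWs (hNi i₀ (Finset.mem_insert_self _ _)) hW2 c (b i₀) hcomp
    refine ⟨d, ?_, fun i hi => ?_⟩
    · rw [← hc1, ← hd1, rr le_sup_left hWs hU d]
    · rcases Finset.mem_insert.1 hi with rfl | hi'
      · exact hd2
      · rw [← hc2 i hi', ← hd1, rr _ hWs (hNi i hi) d]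

end StarAbs

section Glue

variable {X U V W : Scheme.{u}}

theorem hp_eq_psi (j : U ⟶ X) [IsOpenImmersion j] [PreservesFiniteLimits (EtCoh.pull j)]
    (F : EtCoh.Ab X) (n : ℕ) (e : HH X F n) :
    hp j F n e = psi j F n ((Ext.mk₀ (c j (EtCoh.const X ℤ))).comp e (zero_add n)) := by
  rw [psi, hp_eq_extMap, ExtMap.extMap_mk₀_comp (EtCoh.pull j) (EtCore.pullConst j ℤ).inv (uj j)
    (c j (EtCoh.const X ℤ)) (𝟙 _) ((Category.id_comp _).trans (uj_c j).symm) F n e, Ext.mk₀_id_comp]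

theorem hpVia_psi (a : W ⟶ U) (j : U ⟶ X) (w : W ⟶ X) (hw : a ≫ j = w) [IsOpenImmersion j]
    [IsOpenImmersion w] [PreservesFiniteLimits (EtCoh.pull j)]
    [PreservesFiniteLimits (EtCoh.pull w)] [PreservesFiniteLimits (EtCoh.pull a)]
    (hjw : Set.range w ⊆ Set.range j) (F : EtCoh.Ab X) (n : ℕ)
    (e : Ext.{u + 1} (P j (EtCoh.const X ℤ)) F n) :
    hpVia a j w hw F n (psi j F n e) =
      psi w F n ((Ext.mk₀ (ca j w hjw (EtCoh.const X ℤ))).comp e (zero_add n)) := by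
  have h := Groth.Agent.Etcore.MVViaAbs.via (EtCoh.pull j) (EtCoh.pull a) (EtCoh.pull w)
    (theta a j w hw).hom (uj j)
    (EtCore.pullConst a ℤ).inv (uj w)
    (ca j w hjw (EtCoh.const X ℤ))
    ((Category.assoc _ _ _).trans (MVEt.key a j w hw hjw)) e
  rw [hpVia_eq]
  exact h

/-- classes on two opens which agree on the intersection glue -/
theorem glue (j : U ⟶ X) (k : V ⟶ X) (w : W ⟶ X) (a : W ⟶ U) (b : W ⟶ V)
    (ha : a ≫ j = w) (hb : b ≫ k = w) [IsOpenImmersion j] [IsOpenImmersion k] [IsOpenImmersion w]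
    [PreservesFiniteLimits (EtCoh.pull j)] [PreservesFiniteLimits (EtCoh.pull k)]
    [PreservesFiniteLimits (EtCoh.pull a)] [PreservesFiniteLimits (EtCoh.pull b)]
    (hjk : Set.range w = Set.range j ∩ Set.range k)
    (hcov : Set.range j ∪ Set.range k = Set.univ)
    (F : EtCoh.Ab X) (n : ℕ) (x : HH U ((EtCoh.pull j).obj F) n)
    (y : HH V ((EtCoh.pull k).obj F) n)
    (h : hpVia a j w ha F n x = hpVia b k w hb F n y) :
    ∃ c : HH X F n, hp j F n c = x ∧ hp k F n c = y := by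
  have iw := pfl w
  obtain ⟨x', rfl⟩ := (psi_bijective j F n).2 x
  obtain ⟨y', rfl⟩ := (psi_bijective k F n).2 y
  rw [hpVia_psi a j w ha (hj_of j k w hjk), hpVia_psi b k w hb (hk_of j k w hjk)] at h
  obtain ⟨e, he1, he2⟩ := glue_abs (ca j w (hj_of j k w hjk) (EtCoh.const X ℤ))
    (ca k w (hk_of j k w hjk) (EtCoh.const X ℤ)) (c j (EtCoh.const X ℤ)) (c k (EtCoh.const X ℤ))
    _ (shortExact_mv j k w hjk (EtCoh.const X ℤ) hcov) n x' y' ((psi_bijective w F n).1 h)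
  refine ⟨e, ?_, ?_⟩
  · rw [hp_eq_psi, he1]
  · rw [hp_eq_psi, he2]

end Glue

section Opens

variable {Y : Scheme.{u}} (F : EtCoh.Ab Y) (n : ℕ)

/-- cohomology of an open subscheme -/
noncomputable abbrev HO (A : Y.Opens) : Type (u + 1) := HH (A : Scheme.{u}) ((EtCoh.pull A.ι).obj F) n

/-- restriction of classes between open subschemes -/
noncomputable def res {A B : Y.Opens} (h : A ≤ B) : HO F n B →+ HO F n A :=
  haveI := pfl (Y.homOfLE h)
  hpVia (Y.homOfLE h) B.ι A.ι (Y.homOfLE_ι h) F n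

theorem res_eq {A B : Y.Opens} (h : A ≤ B) [PreservesFiniteLimits (EtCoh.pull (Y.homOfLE h))] :
    res F n h = hpVia (Y.homOfLE h) B.ι A.ι (Y.homOfLE_ι h) F n := rfl

theorem res_res {A B C : Y.Opens} (h : A ≤ B) (h' : B ≤ C) (h'' : A ≤ C) (x : HO F n C) :
    res F n h (res F n h' x) = res F n h'' x := by
  have i1 := pfl (Y.homOfLE h)
  have i2 := pfl (Y.homOfLE h')
  have i3 := pfl (Y.homOfLE h'')
  exact hpVia_hpVia (Y.homOfLE h) (Y.homOfLE h') C.ι (Y.homOfLE h'') B.ι A.ι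
    (Scheme.homOfLE_homOfLE _ h h') _ _ _ F n x

theorem isIso_homOfLE {A : Y.Opens} (h : A ≤ A) : IsIso (Y.homOfLE h) := by
  have h1 : Y.homOfLE h = 𝟙 _ := Scheme.homOfLE_rfl _ _
  rw [h1]
  infer_instance

theorem res_injective_self {A : Y.Opens} (h : A ≤ A) : Function.Injective (res F n h) := by
  have i1 := pfl (Y.homOfLE h)
  have := isIso_homOfLE h
  have h2 := hp_bijective_of_isIso (Y.homOfLE h) ((EtCoh.pull A.ι).obj F) n
  rw [res_eq]
  exact ((bijective_hpVia_iff (Y.homOfLE h) A.ι A.ι (Y.homOfLE_ι h) F n).2 h2).1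

theorem res_self {A : Y.Opens} (h : A ≤ A) (x : HO F n A) : res F n h x = x :=
  res_injective_self F n h (res_res F n h h h x)

theorem res_hp {A B : Y.Opens} (h : A ≤ B) (x : HH Y F n)
    [PreservesFiniteLimits (EtCoh.pull A.ι)] [PreservesFiniteLimits (EtCoh.pull B.ι)] :
    res F n h (hp B.ι F n x) = hp A.ι F n x := by
  have i1 := pfl (Y.homOfLE h)
  exact hpVia_hp (Y.homOfLE h) B.ι A.ι (Y.homOfLE_ι h) F n x

/-- gluing of classes on `A`, `B` to `W = A ⊔ B` -/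
theorem glue_sup {A B W : Y.Opens} (hA : A ≤ W) (hB : B ≤ W) (hW : W ≤ A ⊔ B)
    (x : HO F n A) (y : HO F n B)
    (h : res F n (inf_le_left : A ⊓ B ≤ A) x = res F n (inf_le_right : A ⊓ B ≤ B) y) :
    ∃ c : HO F n W, res F n hA c = x ∧ res F n hB c = y := by
  have iA := pfl (Y.homOfLE hA)
  have iB := pfl (Y.homOfLE hB)
  have ia := pfl (Y.homOfLE (inf_le_left : A ⊓ B ≤ A))
  have ib := pfl (Y.homOfLE (inf_le_right : A ⊓ B ≤ B))
  have hAB : A ⊓ B ≤ W := inf_le_left.trans hA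
  have iw := pfl (Y.homOfLE hAB)
  obtain ⟨x', hx'⟩ := (HHmap_bijective (th (Y.homOfLE hA) W.ι A.ι (Y.homOfLE_ι hA) F) n).2 x
  obtain ⟨y', hy'⟩ := (HHmap_bijective (th (Y.homOfLE hB) W.ι B.ι (Y.homOfLE_ι hB) F) n).2 y
  have ha : Y.homOfLE (inf_le_left : A ⊓ B ≤ A) ≫ Y.homOfLE hA = Y.homOfLE hAB :=
    Scheme.homOfLE_homOfLE _ _ _
  have hb : Y.homOfLE (inf_le_right : A ⊓ B ≤ B) ≫ Y.homOfLE hB = Y.homOfLE hAB :=
    Scheme.homOfLE_homOfLE _ _ _
  have hcompat : hpVia (Y.homOfLE (inf_le_left : A ⊓ B ≤ A)) (Y.homOfLE hA) (Y.homOfLE hAB) ha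
      ((EtCoh.pull W.ι).obj F) n x' =
      hpVia (Y.homOfLE (inf_le_right : A ⊓ B ≤ B)) (Y.homOfLE hB) (Y.homOfLE hAB) hb
      ((EtCoh.pull W.ι).obj F) n y' := by
    apply (HHmap_bijective (th (Y.homOfLE hAB) W.ι (A ⊓ B).ι (Y.homOfLE_ι hAB) F) n).1
    rw [← hpVia_HHmap_th (Y.homOfLE (inf_le_left : A ⊓ B ≤ A)) (Y.homOfLE hA) W.ι
      (Y.homOfLE hAB) A.ι (A ⊓ B).ι ha (Y.homOfLE_ι hA) (Y.homOfLE_ι _) (Y.homOfLE_ι hAB) F n x',
      ← hpVia_HHmap_th (Y.homOfLE (inf_le_right : A ⊓ B ≤ B)) (Y.homOfLE hB) W.ι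
      (Y.homOfLE hAB) B.ι (A ⊓ B).ι hb (Y.homOfLE_ι hB) (Y.homOfLE_ι _) (Y.homOfLE_ι hAB) F n y',
      hx', hy']
    exact h
  have hrange : ∀ {S : Y.Opens} (hS : S ≤ W), Set.range (Y.homOfLE hS) =
      W.ι ⁻¹' (S : Set Y) := by
    intro S hS
    rw [← Scheme.Hom.coe_opensRange, Scheme.opensRange_homOfLE]
    rfl
  obtain ⟨c, hc1, hc2⟩ := glue (Y.homOfLE hA) (Y.homOfLE hB) (Y.homOfLE hAB)
    (Y.homOfLE (inf_le_left : A ⊓ B ≤ A)) (Y.homOfLE (inf_le_right : A ⊓ B ≤ B)) ha hb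
    (by rw [hrange, hrange, hrange]; rfl)
    (by
      rw [hrange, hrange, ← Set.preimage_union, Set.eq_univ_iff_forall]
      intro z
      exact hW z.2)
    ((EtCoh.pull W.ι).obj F) n x' y' hcompat
  refine ⟨c, ?_, ?_⟩
  · rw [res_eq, hpVia_eq, hc1, hx']
  · rw [res_eq, hpVia_eq, hc2, hy']

/-- gluing of classes on `A`, `B` with `A ⊔ B = ⊤` -/
theorem glue_top {A B : Y.Opens} [PreservesFiniteLimits (EtCoh.pull A.ι)]
    [PreservesFiniteLimits (EtCoh.pull B.ι)] (hAB : A ⊔ B = ⊤)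
    (x : HO F n A) (y : HO F n B)
    (h : res F n (inf_le_left : A ⊓ B ≤ A) x = res F n (inf_le_right : A ⊓ B ≤ B) y) :
    ∃ c : HH Y F n, hp A.ι F n c = x ∧ hp B.ι F n c = y := by
  have ia := pfl (Y.homOfLE (inf_le_left : A ⊓ B ≤ A))
  have ib := pfl (Y.homOfLE (inf_le_right : A ⊓ B ≤ B))
  refine glue A.ι B.ι (A ⊓ B).ι (Y.homOfLE inf_le_left) (Y.homOfLE inf_le_right)
    (Y.homOfLE_ι _) (Y.homOfLE_ι _) ?_ ?_ F n x y h
  · rw [Scheme.Opens.range_ι, Scheme.Opens.range_ι, Scheme.Opens.range_ι]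
    rfl
  · rw [Scheme.Opens.range_ι, Scheme.Opens.range_ι]
    have := congrArg (fun O : Y.Opens => (O : Set Y)) hAB
    simpa using this

/-- star shaped gluing: classes `a` on `U` and `b i` on `N i`, where `N i ⊓ N j ≤ U` for `i ≠ j`,
which agree on `U ⊓ N i`, glue to a class on the union. -/
theorem glue_star_finset {ι : Type*} [DecidableEq ι] (U : Y.Opens) (N : ι → Y.Opens)
    (hN : ∀ i j, i ≠ j → N i ⊓ N j ≤ U) (a : HO F n U) (b : ∀ i, HO F n (N i))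
    (hab : ∀ i, res F n (inf_le_left : U ⊓ N i ≤ U) a = res F n (inf_le_right : U ⊓ N i ≤ N i) (b i))
    (s : Finset ι) (W : Y.Opens) (hW : W = U ⊔ ⨆ i ∈ s, N i) (hU : U ≤ W)
    (hNi : ∀ i ∈ s, N i ≤ W) :
    ∃ c : HO F n W, res F n hU c = a ∧ ∀ i (hi : i ∈ s), res F n (hNi i hi) c = b i :=
  star_abs (H := fun A : Y.Opens => HO F n A) (fun h x => res F n h x) (fun h h' h'' x => res_res F n h h' h'' x)
    (fun h x => res_self F n h x) (fun hA hB hW x y h => glue_sup F n hA hB hW x y h)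
    U N hN a b hab s W hW hU hNi


theorem isIso_ι_of_eq_top (W : Y.Opens) (h : W = ⊤) : IsIso W.ι := by
  subst h
  exact inferInstanceAs (IsIso Y.topIso.hom)

/-- star shaped gluing on `Y` -/
theorem glue_star {ι : Type*} [Finite ι] (U : Y.Opens) (N : ι → Y.Opens)
    [PreservesFiniteLimits (EtCoh.pull U.ι)] [∀ i, PreservesFiniteLimits (EtCoh.pull (N i).ι)]
    (hN : ∀ i j, i ≠ j → N i ⊓ N j ≤ U) (hcov : U ⊔ ⨆ i, N i = ⊤)
    (a : HO F n U) (b : ∀ i, HO F n (N i))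
    (hab : ∀ i, res F n (inf_le_left : U ⊓ N i ≤ U) a =
      res F n (inf_le_right : U ⊓ N i ≤ N i) (b i)) :
    ∃ c : HH Y F n, hp U.ι F n c = a ∧ ∀ i, hp (N i).ι F n c = b i := by
  classical
  have := Fintype.ofFinite ι
  obtain ⟨W, hWtop⟩ : ∃ W : Y.Opens, W = ⊤ := ⟨⊤, rfl⟩
  have hW : W = U ⊔ ⨆ i ∈ (Finset.univ : Finset ι), N i := by rw [hWtop, ← hcov]; simp
  have hU : U ≤ W := hWtop ▸ le_top
  have hNi : ∀ i ∈ (Finset.univ : Finset ι), N i ≤ W := fun i _ => hWtop ▸ le_top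

  obtain ⟨c, hc1, hc2⟩ := glue_star_finset F n U N hN a b hab Finset.univ W hW hU hNi
  have iso := isIso_ι_of_eq_top W hWtop
  have it := pfl W.ι
  obtain ⟨c', hc'⟩ := (hp_bijective_of_isIso W.ι F n).2 c
  refine ⟨c', ?_, fun i => ?_⟩
  · have h1 := res_hp F n hU c'
    rw [hc'] at h1
    exact h1.symm.trans hc1
  · have h1 := res_hp F n (hNi i (Finset.mem_univ i)) c'
    rw [hc'] at h1
    exact h1.symm.trans (hc2 i (Finset.mem_univ i))

end Opens
end Groth.Agent.Etcore.MvGlue352
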