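import Groth.Agent.Etcore.CurveDivOpen
import Groth.Agent.Etcore.Herbrand2

/-!
# Counting `H⁰(U, G_m)/n` and `H¹(U, G_m)[n]` for an open subset of a Dedekind scheme
-/

set_option autoImplicit false
set_option linter.unusedSectionVars false
universe u

open CategoryTheory CategoryTheory.Limits AlgebraicGeometry Opposite TopologicalSpace

namespace Groth.Agent.Etcore.OpenCount

open CurvesA CurvesA.DivPoint CurvesA.DivSheaf CurvesA.DivTop CurvesA.RatSec CurvesA.OrdMap
  CurvesA.GmFunct Herbrand CurveDiv CurveDivOpen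

variable {X : Scheme.{u}} [IsIntegral X] (U : X.Opens) [Nonempty U]

theorem genericPoint_mem : genericPoint X ∈ U := by
  have h := ι_genericPoint U
  rw [← h]
  exact (genericPoint (U : Scheme.{u})).2

/-- points of the complement -/
def cpt (x : ((U : Set X)ᶜ : Set X)) : {x : X // x ≠ genericPoint X} :=
  ⟨x.1, fun h => x.2 (h ▸ genericPoint_mem U)⟩

theorem cpt_injective : Function.Injective (cpt U) := fun _ _ h =>
  Subtype.ext (congrArg (fun z : {x : X // x ≠ genericPoint X} => z.1) h)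

/-- The kernel of the restriction of divisors. -/
theorem cok_ker_resDiv (n : ℕ) (hUc : ((U : Set X)ᶜ).Finite) :
    cok n (resDiv U).ker = n ^ Nat.card ↥((U : Set X)ᶜ) := by
  have : Finite ↥((U : Set X)ᶜ) := hUc
  rw [← cok_finsupp n ↥((U : Set X)ᶜ)]
  let φ : (resDiv U).ker →+ (↥((U : Set X)ᶜ) →₀ ℤ) :=
    (Finsupp.comapDomain.addMonoidHom (cpt_injective U)).comp (resDiv U).ker.subtype
  refine cok_congr n (AddEquiv.ofBijective φ ⟨?_, ?_⟩)
  · rw [injective_iff_map_eq_zero]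
    rintro ⟨E, hE⟩ h
    apply Subtype.ext
    ext x
    by_cases hx : x.1 ∈ U
    · have hx' : (⟨x.1, hx⟩ : (U : Scheme.{u})) ≠ genericPoint (U : Scheme.{u}) := by
        intro h
        apply x.2
        have h1 : U.ι (⟨x.1, hx⟩ : (U : Scheme.{u})) = x.1 := rfl
        exact h1.symm.trans ((congrArg U.ι h).trans (ι_genericPoint U))
      exact DFunLike.congr_fun (hE : resDiv U E = 0) ⟨⟨x.1, hx⟩, hx'⟩
    · exact DFunLike.congr_fun h ⟨x.1, hx⟩
  · intro E
    refine ⟨⟨Finsupp.mapDomain (cpt U) E, ?_⟩, ?_⟩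
    · rw [AddMonoidHom.mem_ker]
      ext u
      rw [resDiv_apply, Finsupp.mapDomain_of_notMem_range]
      · rfl
      · rintro ⟨x, hx⟩
        have h1 : x.1 = U.ι u.1 := congrArg (fun z : {x : X // x ≠ genericPoint X} => z.1) hx
        exact x.2 (h1 ▸ u.1.2)
    · ext x
      change Finsupp.mapDomain (cpt U) E (cpt U x) = E x
      rw [Finsupp.mapDomain_apply (cpt_injective U)]

variable [IsLocallyNoetherian X] [CompactSpace X] [CompactSpace (U : Scheme.{u})]
  [IsLocallyNoetherian (U : Scheme.{u})] (hX : IsDed X) (hU : IsDed (U : Scheme.{u}))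

/-- `H⁰(U, G_m)` in terms of `X`. -/
noncomputable def H0Open : EtCoh.H (U : Scheme.{u}) (EtCoh.Gm (U : Scheme.{u})) 0 ≃+
    ((resDiv U).comp (div hX)).ker :=
  (kerDiv hU).trans (AddEquiv.symm
    { toFun := fun x => ⟨ratOpen U x.1, by
        rw [AddMonoidHom.mem_ker, div_ratOpen U hX hU]; exact x.2⟩
      invFun := fun y => ⟨(ratOpen U).symm y.1, by
        rw [AddMonoidHom.mem_ker, AddMonoidHom.comp_apply, ← div_ratOpen U hX hU,
          AddEquiv.apply_symm_apply]
        exact y.2⟩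
      left_inv := fun x => Subtype.ext ((ratOpen U).symm_apply_apply _)
      right_inv := fun x => Subtype.ext ((ratOpen U).apply_symm_apply _)
      map_add' := fun x y => Subtype.ext (map_add (ratOpen U) _ _) })

theorem range_eq : ((resDiv U).comp (div hX)).range = (div hU).range := by
  ext E
  constructor
  · rintro ⟨f, rfl⟩
    exact ⟨ratOpen U f, div_ratOpen U hX hU f⟩
  · rintro ⟨f, rfl⟩
    obtain ⟨f, rfl⟩ := (ratOpen U).surjective f
    exact ⟨f, (div_ratOpen U hX hU f).symm⟩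

/-- `H¹(U, G_m)` in terms of `X`. -/
noncomputable def H1Open (hH : Subsingleton (EtCoh.H (U : Scheme.{u}) (jGm (U : Scheme.{u})) 1)) :
    (({u : (U : Scheme.{u}) // u ≠ genericPoint (U : Scheme.{u})} →₀ ℤ) ⧸
      ((resDiv U).comp (div hX)).range) ≃+ EtCoh.H (U : Scheme.{u}) (EtCoh.Gm (U : Scheme.{u})) 1 :=
  (QuotientAddGroup.quotientAddEquivOfEq (range_eq U hX hU)).trans (cokerDiv hU hH)

include hX hU in
/-- The count for an open subset. -/
theorem open_count (n : ℕ) (hn : n ≠ 0) (hUc : ((U : Set X)ᶜ).Finite)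
    (hHX : Subsingleton (EtCoh.H X (jGm X) 1))
    (hHU : Subsingleton (EtCoh.H (U : Scheme.{u}) (jGm (U : Scheme.{u})) 1))
    (tA : tor n (EtCoh.H X (EtCoh.Gm X) 0) = tor n (EtCoh.H (U : Scheme.{u}) (EtCoh.Gm (U : Scheme.{u})) 0))
    (tB : tor n (EtCoh.H (U : Scheme.{u}) (EtCoh.Gm (U : Scheme.{u})) 0) ≠ 0)
    (cA : cok n (EtCoh.H X (EtCoh.Gm X) 0) = 1)
    (cQ : cok n (EtCoh.H (U : Scheme.{u}) (EtCoh.Gm (U : Scheme.{u})) 1) = 1)
    (tP : tor n (EtCoh.H X (EtCoh.Gm X) 1) ≠ 0) :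
    cok n (EtCoh.H (U : Scheme.{u}) (EtCoh.Gm (U : Scheme.{u})) 0) *
      tor n (EtCoh.H (U : Scheme.{u}) (EtCoh.Gm (U : Scheme.{u})) 1) *
      cok n (EtCoh.H X (EtCoh.Gm X) 1) =
    n ^ Nat.card ↥((U : Set X)ᶜ) * tor n (EtCoh.H X (EtCoh.Gm X) 1) := by
  rw [tor_congr n (kerDiv hX), tor_congr n (H0Open U hX hU)] at tA
  rw [tor_congr n (H0Open U hX hU)] at tB
  rw [cok_congr n (kerDiv hX)] at cA
  rw [← cok_congr n (H1Open U hX hU hHU)] at cQ
  rw [← tor_congr n (cokerDiv hX hHX)] at tP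
  rw [cok_congr n (H0Open U hX hU), ← tor_congr n (H1Open U hX hU hHU),
    ← cok_congr n (cokerDiv hX hHX), ← tor_congr n (cokerDiv hX hHX), ← cok_ker_resDiv U n hUc]
  refine count2 (div hX) (resDiv U) (resDiv_surjective U) n tA tB cA ?_ ?_ cQ tP
  · intro m hm
    ext x
    have := DFunLike.congr_fun hm x
    rw [Finsupp.smul_apply, nsmul_eq_mul] at this
    exact (mul_eq_zero.1 this).resolve_left (by exact_mod_cast hn)
  · rw [cok_ker_resDiv U n hUc]
    exact pow_ne_zero _ hn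

end Groth.Agent.Etcore.OpenCount
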