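import Groth.Prelude.Def_EtBase
import Mathlib.AlgebraicGeometry.Morphisms.UniversallyOpen
import Mathlib.AlgebraicGeometry.Morphisms.Flat

/-!
# Points of the small etale site: basic calculus (first part)

For a point `p` of the small etale site of `S` (Mathlib's notion), the stalk of the structure sheaf
is a local ring `A p`; it receives the global sections of every etale neighbourhood.
-/

set_option autoImplicit false
open CategoryTheory CategoryTheory.Limits AlgebraicGeometry Opposite
universe u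

namespace Groth.Agent.Etcore.PointA

variable {S : Scheme.{u}} (p : GrothendieckTopology.Point.{u} S.smallEtaleTopology)

/-- The structure presheaf on the small etale site. -/
noncomputable def OO (S : Scheme.{u}) : (S.Etale)ᵒᵖ ⥤ CommRingCat.{u} :=
  (Scheme.Etale.forget S ⋙ Over.forget S).op ⋙ Scheme.Γ

/-- The stalk of the structure sheaf. -/
noncomputable def A : CommRingCat.{u} := p.presheafFiber.obj (OO S)

/-- The canonical map from the sections over an etale neighbourhood to the stalk. -/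
noncomputable def germ (V : S.Etale) (y : p.fiber.obj V) : Γ(V.left, ⊤) ⟶ A p :=
  p.toPresheafFiber V y (OO S)

lemma germ_w {V W : S.Etale} (f : V ⟶ W) (y : p.fiber.obj V) :
    f.left.appTop ≫ germ p V y = germ p W (p.fiber.map f y) :=
  p.toPresheafFiber_w f y (OO S)

lemma germ_jointly_surjective (a : A p) :
    ∃ (V : S.Etale) (y : p.fiber.obj V) (b : Γ(V.left, ⊤)), germ p V y b = a := by
  obtain ⟨V, y, z, hz⟩ := p.toPresheafFiber_jointly_surjective (P := OO S) a
  exact ⟨V, y, z, hz⟩

lemma germ_eq_iff (V : S.Etale) (y : p.fiber.obj V) (a b : Γ(V.left, ⊤)) :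
    germ p V y a = germ p V y b ↔
      ∃ (W : S.Etale) (f : W ⟶ V) (w : p.fiber.obj W), p.fiber.map f w = y ∧
        f.left.appTop a = f.left.appTop b :=
  p.toPresheafFiber_eq_iff' (P := OO S) V y a b

/-- A jointly surjective family of morphisms in the small etale site: points of the target lift. -/
lemma exists_lift {V : S.Etale} (y : p.fiber.obj V) {ι : Type*} {Z : ι → S.Etale}
    (f : ∀ i, Z i ⟶ V) (hf : ⋃ i, Set.range (f i).left = .univ) :
    ∃ (i : ι) (z : p.fiber.obj (Z i)), p.fiber.map (f i) z = y := by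
  obtain ⟨W, g, hg, w, rfl⟩ := p.jointly_surjective (Sieve.ofArrows _ f)
    (Scheme.ofArrows_mem_smallEtaleTopology_iff f |>.2 hf) y
  obtain ⟨T, h, k, ⟨i⟩, rfl⟩ := hg
  exact ⟨i, p.fiber.map h w, by simp⟩

/-- Cofilteredness, in usable form. -/
lemma exists_refine {U V W : S.Etale} (f : V ⟶ U) (g : W ⟶ U) (y : p.fiber.obj V)
    (z : p.fiber.obj W) (h : p.fiber.map f y = p.fiber.map g z) :
    ∃ (T : S.Etale) (t : p.fiber.obj T) (a : T ⟶ V) (b : T ⟶ W),
      p.fiber.map a t = y ∧ p.fiber.map b t = z ∧ a ≫ f = b ≫ g := by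
  have := p.isCofiltered
  let X : p.fiber.Elements := ⟨V, y⟩
  let Y : p.fiber.Elements := ⟨W, z⟩
  let Z : p.fiber.Elements := ⟨U, p.fiber.map f y⟩
  let f' : X ⟶ Z := CategoryOfElements.homMk X Z f rfl
  let g' : Y ⟶ Z := CategoryOfElements.homMk Y Z g h.symm
  obtain ⟨T, a, b, hab⟩ := IsCofiltered.cospan f' g'
  exact ⟨T.1, T.2, a.1, b.1, a.2, b.2, congrArg Subtype.val hab⟩

lemma exists_refine₂ {V W : S.Etale} (y : p.fiber.obj V) (z : p.fiber.obj W) :
    ∃ (T : S.Etale) (t : p.fiber.obj T) (a : T ⟶ V) (b : T ⟶ W),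
      p.fiber.map a t = y ∧ p.fiber.map b t = z := by
  have := p.isCofiltered
  let X : p.fiber.Elements := ⟨V, y⟩
  let Y : p.fiber.Elements := ⟨W, z⟩
  let T := IsCofiltered.min X Y
  exact ⟨T.1, T.2, (IsCofiltered.minToLeft X Y).1, (IsCofiltered.minToRight X Y).1,
    (IsCofiltered.minToLeft X Y).2, (IsCofiltered.minToRight X Y).2⟩

/-- Open subschemes as objects of the small etale site. -/
noncomputable def opn (V : S.Etale) (U : V.left.Opens) : S.Etale :=
  Scheme.Etale.mk (Scheme.Opens.ι U ≫ V.hom)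

noncomputable def opnι (V : S.Etale) (U : V.left.Opens) : opn V U ⟶ V :=
  MorphismProperty.Over.homMk (Scheme.Opens.ι U) rfl trivial

lemma exists_lift_opn {V W : S.Etale} (f : W ⟶ V) (U : V.left.Opens)
    (h : Set.range f.left ⊆ Set.range (Scheme.Opens.ι U)) :
    ∃ g : W ⟶ opn V U, g ≫ opnι V U = f := by
  let g₀ : W.left ⟶ (U : Scheme.{u}) := IsOpenImmersion.lift (Scheme.Opens.ι U) f.left h
  have hg₀ : g₀ ≫ Scheme.Opens.ι U = f.left := IsOpenImmersion.lift_fac _ _ _
  refine ⟨MorphismProperty.Over.homMk g₀ ?_ trivial, ?_⟩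
  · change g₀ ≫ Scheme.Opens.ι U ≫ V.hom = _
    rw [reassoc_of% hg₀]
    exact MorphismProperty.Over.w f
  · apply MorphismProperty.Over.Hom.ext
    exact hg₀

/-- affine refinement -/
lemma exists_affine (V : S.Etale) (y : p.fiber.obj V) :
    ∃ (T : S.Etale) (_ : IsAffine T.left) (t : p.fiber.obj T) (a : T ⟶ V),
      p.fiber.map a t = y := by
  obtain ⟨U, t, ht⟩ := exists_lift p y (Z := fun U : V.left.affineOpens ↦ opn V U)
    (fun U ↦ opnι V U) (by
      ext x
      obtain ⟨_, ⟨U, hU, rfl⟩, hx, -⟩ :=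
        V.left.isBasis_affineOpens.exists_subset_of_mem_open (Set.mem_univ x) isOpen_univ
      simp only [Set.mem_iUnion, Set.mem_univ, iff_true]
      refine ⟨⟨U, hU⟩, ?_⟩
      change x ∈ Set.range (Scheme.Opens.ι U)
      simpa using hx)
  exact ⟨opn V U, U.2, t, opnι V U, ht⟩

lemma exists_affine_refine {U V W : S.Etale} (f : V ⟶ U) (g : W ⟶ U) (y : p.fiber.obj V)
    (z : p.fiber.obj W) (h : p.fiber.map f y = p.fiber.map g z) :
    ∃ (T : S.Etale) (_ : IsAffine T.left) (t : p.fiber.obj T) (a : T ⟶ V) (b : T ⟶ W),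
      p.fiber.map a t = y ∧ p.fiber.map b t = z ∧ a ≫ f = b ≫ g := by
  obtain ⟨T, t, a, b, ha, hb, hab⟩ := exists_refine p f g y z h
  obtain ⟨T', hT', t', c, hc⟩ := exists_affine p T t
  exact ⟨T', hT', t', c ≫ a, c ≫ b, by simp [hc, ha], by simp [hc, hb], by simp [hab]⟩

lemma exists_affine_refine₂ {V W : S.Etale} (y : p.fiber.obj V) (z : p.fiber.obj W) :
    ∃ (T : S.Etale) (_ : IsAffine T.left) (t : p.fiber.obj T) (a : T ⟶ V) (b : T ⟶ W),
      p.fiber.map a t = y ∧ p.fiber.map b t = z := by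
  obtain ⟨T, t, a, b, ha, hb⟩ := exists_refine₂ p y z
  obtain ⟨T', hT', t', c, hc⟩ := exists_affine p T t
  exact ⟨T', hT', t', c ≫ a, c ≫ b, by simp [hc, ha], by simp [hc, hb]⟩

/-- If the image of a section in the stalk is a unit, then the neighbourhood can be
shrunk so that the section becomes a unit. -/
lemma exists_isUnit {V : S.Etale} (y : p.fiber.obj V) (a : Γ(V.left, ⊤))
    (ha : IsUnit (germ p V y a)) :
    ∃ (W : S.Etale) (f : W ⟶ V) (w : p.fiber.obj W), p.fiber.map f w = y ∧
      IsUnit (f.left.appTop a) := by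
  obtain ⟨b, hb⟩ := ha.exists_right_inv
  obtain ⟨W, w, c, rfl⟩ := germ_jointly_surjective p b
  obtain ⟨T, t, f, g, rfl, rfl⟩ := exists_refine₂ p y w
  have h : germ p T t (f.left.appTop a * g.left.appTop c) = germ p T t 1 := by
    rw [map_mul, map_one, ← hb, ← germ_w, ← germ_w]
    rfl
  obtain ⟨T', e, t', rfl, ht'⟩ := (germ_eq_iff p T t _ _).1 h
  refine ⟨T', e ≫ f, t', by simp, ?_⟩
  rw [map_mul, map_one] at ht'
  exact IsUnit.of_mul_eq_one _ ht'

/-- The points of an open subscheme defined by a section which is a unit in the stalk. -/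
lemma exists_lift_basicOpen {V : S.Etale} (y : p.fiber.obj V) (a : Γ(V.left, ⊤))
    (ha : IsUnit (germ p V y a)) :
    ∃ w : p.fiber.obj (opn V (V.left.basicOpen a)),
      p.fiber.map (opnι V (V.left.basicOpen a)) w = y := by
  obtain ⟨W, f, w, rfl, hw⟩ := exists_isUnit p y a ha
  have h : Set.range f.left ⊆ Set.range (Scheme.Opens.ι (V.left.basicOpen a)) := by
    rintro _ ⟨x, rfl⟩
    rw [Scheme.Opens.range_ι]
    change x ∈ f.left ⁻¹ᵁ (V.left.basicOpen a)
    rw [Scheme.preimage_basicOpen_top, Scheme.basicOpen_of_isUnit _ hw]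
    trivial
  obtain ⟨g, hg⟩ := exists_lift_opn f (V.left.basicOpen a) h
  exact ⟨p.fiber.map g w, by rw [← hg]; simp⟩

lemma isUnit_opnι_appTop (V : S.Etale) (a : Γ(V.left, ⊤)) :
    IsUnit ((Scheme.Opens.ι (V.left.basicOpen a)).appTop a) := by
  have h := V.left.toRingedSpace.isUnit_res_basicOpen (U := ⊤) a
  have h2 : (Scheme.Opens.ι (V.left.basicOpen a)) ''ᵁ ⊤ ≤ V.left.basicOpen a :=
    Scheme.Opens.ι_image_le _ _
  have h3 : IsUnit (V.left.presheaf.map (homOfLE h2).op (V.left.presheaf.map _ a)) :=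
    h.map (V.left.presheaf.map (homOfLE h2).op).hom
  rw [← CommRingCat.comp_apply, ← Functor.map_comp] at h3
  rw [Scheme.Opens.ι_appTop]
  exact h3

/-- If a point lifts to the open defined by a section, then the section is a unit in the stalk. -/
lemma isUnit_germ {V : S.Etale} (a : Γ(V.left, ⊤))
    (w : p.fiber.obj (opn V (V.left.basicOpen a))) :
    IsUnit (germ p V (p.fiber.map (opnι V (V.left.basicOpen a)) w) a) := by
  rw [← germ_w]
  exact (isUnit_opnι_appTop V a).map (germ p _ w).hom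

/-- Sections over neighbourhoods with empty underlying space do not occur. -/
lemma nonempty_of_fiber {V : S.Etale} (y : p.fiber.obj V) : Nonempty V.left := by
  by_contra h
  rw [not_nonempty_iff] at h
  obtain ⟨i, -⟩ := exists_lift p y (ι := PEmpty.{1}) (Z := fun i ↦ i.elim) (fun i ↦ i.elim) (by
    ext x
    exact (h.false x).elim)
  exact i.elim

instance nontrivial_A : Nontrivial (A p) := by
  by_contra h
  rw [not_nontrivial_iff_subsingleton] at h
  obtain ⟨V, y, b, -⟩ := germ_jointly_surjective p 0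
  obtain ⟨W, f, w, rfl, hw⟩ := (germ_eq_iff p V y 0 1).1 (Subsingleton.elim _ _)
  have := nonempty_of_fiber p w
  rw [map_zero, map_one] at hw
  have : Nontrivial Γ(W.left, ⊤) :=
    (W.left.presheaf.germ ⊤ (Classical.arbitrary W.left) trivial).hom.domain_nontrivial
  exact zero_ne_one hw

/-- The stalk of the structure sheaf is a local ring. -/
instance isLocalRing_A : IsLocalRing (A p) := by
  refine IsLocalRing.of_isUnit_or_isUnit_one_sub_self ?_
  intro a
  obtain ⟨V, y, a, rfl⟩ := germ_jointly_surjective p a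
  let Z : Bool → S.Etale := fun b ↦ opn V (V.left.basicOpen (if b then a else 1 - a))
  obtain ⟨b, w, hw⟩ := exists_lift p y (Z := Z) (fun b ↦ opnι V _) (by
    ext x
    simp only [Set.mem_iUnion, Set.mem_univ, iff_true]
    by_cases hx : x ∈ V.left.basicOpen a
    · refine ⟨true, ?_⟩
      change x ∈ Set.range (Scheme.Opens.ι (V.left.basicOpen a))
      simpa using hx
    · refine ⟨false, ?_⟩
      change x ∈ Set.range (Scheme.Opens.ι (V.left.basicOpen (1 - a)))
      rw [Scheme.Opens.range_ι]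
      change x ∈ V.left.basicOpen (1 - a)
      rw [Scheme.mem_basicOpen_top] at hx ⊢
      rw [map_sub, map_one]
      exact (IsLocalRing.isUnit_or_isUnit_one_sub_self _).resolve_left hx)
  cases b with
  | true =>
    left
    rw [← hw]
    exact isUnit_germ p a w
  | false =>
    right
    have := isUnit_germ p (1 - a) w
    rw [map_sub, map_one] at this
    rw [← hw]
    exact this

/-- The map from the spectrum of the stalk to an affine neighbourhood. -/
noncomputable def qaff (V : S.Etale) [IsAffine V.left] (y : p.fiber.obj V) :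
    Spec (A p) ⟶ V.left :=
  Spec.map (germ p V y) ≫ V.left.isoSpec.inv

lemma qaff_w {V W : S.Etale} [IsAffine V.left] [IsAffine W.left] (f : V ⟶ W)
    (y : p.fiber.obj V) : qaff p V y ≫ f.left = qaff p W (p.fiber.map f y) := by
  rw [qaff, qaff, ← germ_w, Spec.map_comp, Category.assoc, Category.assoc]
  rw [Scheme.isoSpec_inv_naturality]

lemma existsUnique_q (U : S.Etale) (x : p.fiber.obj U) :
    ∃! q : Spec (A p) ⟶ U.left, ∀ (V : S.Etale) (_ : IsAffine V.left) (f : V ⟶ U)
      (y : p.fiber.obj V), p.fiber.map f y = x → qaff p V y ≫ f.left = q := by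
  obtain ⟨V, hV, y, f, rfl⟩ := exists_affine p U x
  refine ⟨qaff p V y ≫ f.left, ?_, fun q hq ↦ (hq V hV f y rfl).symm⟩
  intro W hW g z hz
  obtain ⟨T, hT, t, a, b, rfl, rfl, hab⟩ := exists_affine_refine p f g y z hz.symm
  rw [← qaff_w p a, ← qaff_w p b, Category.assoc, Category.assoc]
  congr 1
  exact congrArg (·.left) hab.symm

/-- The map from the spectrum of the stalk to a neighbourhood. -/
noncomputable def q (U : S.Etale) (x : p.fiber.obj U) : Spec (A p) ⟶ U.left :=
  (existsUnique_q p U x).choose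

lemma q_spec (U : S.Etale) (x : p.fiber.obj U) (V : S.Etale) [hV : IsAffine V.left] (f : V ⟶ U)
    (y : p.fiber.obj V) (h : p.fiber.map f y = x) : qaff p V y ≫ f.left = q p U x :=
  (existsUnique_q p U x).choose_spec.1 V hV f y h

lemma q_eq_qaff (V : S.Etale) [IsAffine V.left] (y : p.fiber.obj V) : q p V y = qaff p V y := by
  rw [← q_spec p V y V (𝟙 V) y (by simp)]
  exact Category.comp_id _

lemma q_w {V W : S.Etale} (f : V ⟶ W) (y : p.fiber.obj V) :
    q p V y ≫ f.left = q p W (p.fiber.map f y) := by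
  obtain ⟨T, hT, t, a, rfl⟩ := exists_affine p V y
  rw [← q_spec p V _ T a t rfl, ← q_spec p W _ T (a ≫ f) t (by simp), Category.assoc]
  rfl

/-- The point of a neighbourhood defined by a point of the site. -/
noncomputable def pt (U : S.Etale) (x : p.fiber.obj U) : U.left :=
  q p U x (IsLocalRing.closedPoint (A p))

lemma pt_w {V W : S.Etale} (f : V ⟶ W) (y : p.fiber.obj V) :
    f.left (pt p V y) = pt p W (p.fiber.map f y) := by
  rw [pt, pt, ← q_w]
  rfl


lemma isUnit_germ_iff {V : S.Etale} (y : p.fiber.obj V) (a : Γ(V.left, ⊤)) :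
    IsUnit (germ p V y a) ↔ pt p V y ∈ V.left.basicOpen a := by
  obtain ⟨T, hT, t, f, rfl⟩ := exists_affine p V y
  rw [← germ_w, ← pt_w]
  change _ ↔ pt p T t ∈ f.left ⁻¹ᵁ (V.left.basicOpen a)
  rw [Scheme.preimage_basicOpen_top]
  change IsUnit (germ p T t (f.left.appTop a)) ↔ _
  generalize f.left.appTop a = b
  have h : T.left.isoSpec.hom (pt p T t) =
      Spec.map (germ p T t) (IsLocalRing.closedPoint (A p)) := by
    rw [pt, q_eq_qaff, qaff, ← Scheme.Hom.comp_apply, Category.assoc, Iso.inv_hom_id,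
      Category.comp_id]
  rw [← Scheme.map_PrimeSpectrum_basicOpen_of_affine]
  change _ ↔ T.left.isoSpec.hom (pt p T t) ∈ PrimeSpectrum.basicOpen b
  rw [h]
  change _ ↔ ¬ ((germ p T t) b ∈ IsLocalRing.maximalIdeal (A p))
  rw [IsLocalRing.mem_maximalIdeal, mem_nonunits_iff, not_not]

/-- If the point of a neighbourhood is in an open subset, the point of the site lifts. -/
lemma exists_lift_opens {V : S.Etale} (y : p.fiber.obj V) (U : V.left.Opens)
    (h : pt p V y ∈ U) :
    ∃ w : p.fiber.obj (opn V U), p.fiber.map (opnι V U) w = y := by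
  obtain ⟨T, hT, t, f, rfl⟩ := exists_affine p V y
  rw [← pt_w] at h
  change pt p T t ∈ f.left ⁻¹ᵁ U at h
  obtain ⟨a, ha, ha'⟩ := (isAffineOpen_top T.left).exists_basicOpen_le ⟨_, h⟩ trivial
  obtain ⟨w, hw⟩ := exists_lift_basicOpen p t a ((isUnit_germ_iff p t a).2 ha')
  obtain ⟨g, hg⟩ := exists_lift_opn (opnι T (T.left.basicOpen a) ≫ f) U (by
    rintro _ ⟨x, rfl⟩
    rw [Scheme.Opens.range_ι]
    have : (Scheme.Opens.ι (T.left.basicOpen a)) x ∈ T.left.basicOpen a := x.2
    exact ha this)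
  refine ⟨p.fiber.map g w, ?_⟩
  rw [← hw, ← Functor.map_comp_apply, hg]
  simp

/-- The key lifting property: if the point of a neighbourhood `V` is in the image of an etale
`W ⟶ V`, then the point of the site lifts to `W`. -/
lemma exists_lift_of_mem_range {V W : S.Etale} (y : p.fiber.obj V) (f : W ⟶ V)
    (h : pt p V y ∈ Set.range f.left) :
    ∃ w : p.fiber.obj W, p.fiber.map f w = y := by
  let O : V.left.Opens := ⟨Set.range f.left, f.left.isOpenMap.isOpen_range⟩
  obtain ⟨z, hz⟩ := exists_lift_opens p y O h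
  obtain ⟨g, hg⟩ := exists_lift_opn f O (by rw [Scheme.Opens.range_ι]; rfl)
  obtain ⟨-, w, hw⟩ := exists_lift p z (ι := Unit) (fun _ ↦ g) (by
    rw [Set.iUnion_const]
    ext x
    simp only [Set.mem_univ, iff_true]
    obtain ⟨w, hw⟩ : (Scheme.Opens.ι O) x ∈ Set.range f.left := x.2
    refine ⟨w, ?_⟩
    apply (Scheme.Opens.ι O).isOpenEmbedding.injective
    rw [← hw]
    change (g ≫ opnι V O).left w = _
    rw [hg])
  exact ⟨w, by rw [← hg, Functor.map_comp_apply, hw, hz]⟩

end Groth.Agent.Etcore.PointA
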