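import Groth.Agent.Etcore.PointA
import Mathlib.RingTheory.Etale.StandardEtale
import Mathlib.FieldTheory.IsAlgClosed.AlgebraicClosure

/-!
# Points of the small etale site: Hensel type properties of the stalk (second part)
-/

set_option autoImplicit false
open CategoryTheory CategoryTheory.Limits AlgebraicGeometry Opposite Polynomial
universe u

namespace Groth.Agent.Etcore.PointB

open PointA

variable {S : Scheme.{u}} (p : GrothendieckTopology.Point.{u} S.smallEtaleTopology)

/-- The residue field of the stalk. -/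
noncomputable abbrev Om : Type u := IsLocalRing.ResidueField (A p)

/-- evaluation of sections in the residue field. -/
noncomputable def ev (V : S.Etale) (y : p.fiber.obj V) : Γ(V.left, ⊤) →+* Om p :=
  (IsLocalRing.residue (A p)).comp (germ p V y).hom

lemma ev_w {V W : S.Etale} (f : V ⟶ W) (y : p.fiber.obj V) :
    (ev p V y).comp f.left.appTop.hom = ev p W (p.fiber.map f y) := by
  rw [ev, ev, ← germ_w]
  rfl

lemma exists_lift_finset (V : S.Etale) (y : p.fiber.obj V) (s : Finset (Om p)) :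
    ∃ (T : S.Etale) (_ : IsAffine T.left) (t : p.fiber.obj T) (f : T ⟶ V),
      p.fiber.map f t = y ∧ ∀ a ∈ s, ∃ b, ev p T t b = a := by
  classical
  induction s using Finset.induction with
  | empty =>
    obtain ⟨T, hT, t, f, h⟩ := exists_affine p V y
    exact ⟨T, hT, t, f, h, by simp⟩
  | insert a s ha ih =>
    obtain ⟨T, hT, t, f, rfl, h⟩ := ih
    obtain ⟨a', rfl⟩ := IsLocalRing.residue_surjective a
    obtain ⟨W, w, c, rfl⟩ := germ_jointly_surjective p a'
    obtain ⟨T', hT', t', g, k, rfl, rfl⟩ := exists_affine_refine₂ p t w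
    refine ⟨T', hT', t', g ≫ f, by simp, ?_⟩
    intro b hb
    rw [Finset.mem_insert] at hb
    obtain rfl | hb := hb
    · refine ⟨k.left.appTop c, ?_⟩
      change _ = ev p _ _ c
      rw [← ev_w]
      rfl
    · obtain ⟨b', rfl⟩ := h b hb
      refine ⟨g.left.appTop b', ?_⟩
      rw [← ev_w]
      rfl

section

variable (V : S.Etale) [IsAffine V.left] (C : Type u) [CommRing C] [Algebra Γ(V.left, ⊤) C]
  [Algebra.Etale Γ(V.left, ⊤) C]

instance etale_specMap : AlgebraicGeometry.Etale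
    (Spec.map (CommRingCat.ofHom (algebraMap Γ(V.left, ⊤) C))) := by
  rw [HasRingHomProperty.Spec_iff (P := @AlgebraicGeometry.Etale)]
  change RingHom.Etale (algebraMap Γ(V.left, ⊤) C)
  rwa [RingHom.etale_algebraMap]

/-- The object of the small etale site attached to an etale algebra. -/
noncomputable def specObj : S.Etale :=
  Scheme.Etale.mk (Spec.map (CommRingCat.ofHom (algebraMap Γ(V.left, ⊤) C)) ≫
    V.left.isoSpec.inv ≫ V.hom)

instance isAffine_specObj : IsAffine (specObj V C).left :=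
  inferInstanceAs (IsAffine (Spec (CommRingCat.of C)))

noncomputable def specι : specObj V C ⟶ V :=
  MorphismProperty.Over.homMk
    (Spec.map (CommRingCat.ofHom (algebraMap Γ(V.left, ⊤) C)) ≫ V.left.isoSpec.inv) (by
      change (_ ≫ _) ≫ _ = _ ≫ _ ≫ _
      rw [Category.assoc]) trivial

/-- The canonical identification of the ring with the global sections of its spectrum. -/
noncomputable def toΓ : C →+* Γ((specObj V C).left, ⊤) :=
  (Scheme.ΓSpecIso (CommRingCat.of C)).inv.hom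

lemma isoSpec_inv_appTop (X : Scheme.{u}) [IsAffine X] :
    X.isoSpec.inv.appTop = (Scheme.ΓSpecIso Γ(X, ⊤)).inv := by
  have h1 : X.isoSpec.inv.appTop ≫ X.isoSpec.hom.appTop = 𝟙 _ := by
    rw [← Scheme.Hom.comp_appTop, Iso.hom_inv_id]
    rfl
  rw [Scheme.isoSpec_hom, Scheme.toSpecΓ_appTop] at h1
  exact (Iso.comp_hom_eq_id _).1 h1

lemma toΓ_comp : (toΓ V C).comp (algebraMap Γ(V.left, ⊤) C) = (specι V C).left.appTop.hom := by
  change _ = ((Spec.map (CommRingCat.ofHom (algebraMap Γ(V.left, ⊤) C)) ≫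
    V.left.isoSpec.inv).appTop).hom
  rw [Scheme.Hom.comp_appTop, isoSpec_inv_appTop]
  rw [← Scheme.ΓSpecIso_inv_naturality]
  rfl

variable {V C} in
lemma exists_lift_specObj (y : p.fiber.obj V) {K : Type u} [Field K] (j : Om p →+* K)
    (ψ : C →+* K) (h : ψ.comp (algebraMap Γ(V.left, ⊤) C) = j.comp (ev p V y)) :
    ∃ z : p.fiber.obj (specObj V C), p.fiber.map (specι V C) z = y := by
  apply exists_lift_of_mem_range
  have h1 : Spec.map (CommRingCat.ofHom ψ) ≫ Spec.map (CommRingCat.ofHom (algebraMap Γ(V.left, ⊤) C))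
      = Spec.map (CommRingCat.ofHom j) ≫ Spec.map (CommRingCat.ofHom (ev p V y)) := by
    rw [← Spec.map_comp, ← Spec.map_comp, ← CommRingCat.ofHom_comp, ← CommRingCat.ofHom_comp, h]
  refine ⟨Spec.map (CommRingCat.ofHom ψ) (IsLocalRing.closedPoint K), ?_⟩
  change (Spec.map (CommRingCat.ofHom ψ) ≫
    Spec.map (CommRingCat.ofHom (algebraMap Γ(V.left, ⊤) C)) ≫ V.left.isoSpec.inv)
      (IsLocalRing.closedPoint K) = _
  rw [reassoc_of% h1, pt, q_eq_qaff, qaff]
  rw [ev, CommRingCat.ofHom_comp, Spec.map_comp]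
  simp only [Scheme.Hom.comp_apply]
  congr 2
  exact IsLocalRing.comap_closedPoint (j.comp (IsLocalRing.residue (A p)))

end

/-- Separable monic polynomials of positive degree over the residue field have a root. -/
lemma exists_root (P : (Om p)[X]) (hP : P.Monic) (hirr : Irreducible P) (hsep : P.Separable) :
    ∃ x, P.eval x = 0 := by
  classical
  obtain ⟨V₀, y₀, -, -⟩ := germ_jointly_surjective p 0
  obtain ⟨V, hV, y, -, -, hy⟩ := exists_lift_finset p V₀ y₀ P.coeffs
  have hlift : P ∈ Polynomial.lifts (ev p V y) := by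
    rw [Polynomial.lifts_iff_coeff_lifts]
    intro n
    by_cases h : P.coeff n = 0
    · exact ⟨0, by simp [h]⟩
    · exact hy _ (Polynomial.coeff_mem_coeffs h)
  obtain ⟨F, hF, -, hFm⟩ := Polynomial.lifts_and_natDegree_eq_and_monic hlift hP
  let Q : StandardEtalePair Γ(V.left, ⊤) := 
    { f := F
      monic_f := hFm
      g := derivative F
      cond := ⟨1, 0, 1, by simp⟩ }
  let K := AlgebraicClosure (Om p)
  have hdeg : P.degree ≠ 0 := (degree_pos_of_irreducible hirr).ne'
  obtain ⟨r, hr⟩ := IsAlgClosed.exists_root (P.map (algebraMap (Om p) K)) (by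
    rwa [degree_map])
  let : Algebra Γ(V.left, ⊤) K := ((algebraMap (Om p) K).comp (ev p V y)).toAlgebra
  have hmap : Q.HasMap r := by
    constructor
    · have h1 : aeval r F = eval r ((F.map (ev p V y)).map (algebraMap (Om p) K)) := by
        rw [Polynomial.map_map, aeval_def, eval₂_eq_eval_map]
        rfl
      change aeval r F = 0
      rw [h1, hF]
      exact hr
    · have h1 : aeval r (derivative F) =
          eval r ((derivative (F.map (ev p V y))).map (algebraMap (Om p) K)) := by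
        rw [derivative_map, Polynomial.map_map, aeval_def, eval₂_eq_eval_map]
        rfl
      change IsUnit (aeval r (derivative F))
      rw [h1, hF, isUnit_iff_ne_zero, ← eval₂_eq_eval_map]
      refine hsep.eval₂_derivative_ne_zero _ ?_
      rw [eval₂_eq_eval_map]
      exact hr
  obtain ⟨z, hz⟩ := exists_lift_specObj p y (C := Q.Ring) (algebraMap (Om p) K)
    (Q.lift r hmap).toRingHom (by
      exact (Q.lift r hmap).comp_algebraMap)
  refine ⟨ev p _ z (toΓ V Q.Ring Q.X), ?_⟩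
  have h1 : ev p V y = ((ev p _ z).comp (toΓ V Q.Ring)).comp (algebraMap _ _) := by
    rw [RingHom.comp_assoc, toΓ_comp, ev_w, hz]
  rw [← hF, h1, eval_map, ← RingHom.comp_apply, ← hom_eval₂]
  have h2 : eval₂ (algebraMap Γ(V.left, ⊤) Q.Ring) Q.X F = 0 := Q.hasMap_X.1
  rw [h2, map_zero]

instance isSepClosed_Om : IsSepClosed (Om p) :=
  IsSepClosed.of_exists_root _ (exists_root p)

/-- Lifting of points with values in the residue field, for standard etale algebras. -/
lemma exists_lift_standard (V : S.Etale) [IsAffine V.left] (y : p.fiber.obj V)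
    (P : StandardEtalePair Γ(V.left, ⊤)) (ψ : P.Ring →+* Om p)
    (hψ : ψ.comp (algebraMap _ _) = ev p V y) :
    ∃ (T : S.Etale) (_ : IsAffine T.left) (t : p.fiber.obj T) (f : T ⟶ V)
      (g : P.Ring →+* Γ(T.left, ⊤)), p.fiber.map f t = y ∧
      g.comp (algebraMap _ _) = f.left.appTop.hom ∧ (ev p T t).comp g = ψ := by
  obtain ⟨V₁, hV₁, y₁, f₁, rfl, h₁⟩ := exists_lift_finset p V y {ψ P.X}
  obtain ⟨a, ha⟩ := h₁ _ (Finset.mem_singleton_self _)
  let P₁ : StandardEtalePair Γ(V₁.left, ⊤) := P.map f₁.left.appTop.hom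
  obtain ⟨H, hH⟩ : (X - C a) ∣ P₁.f - C (P₁.f.eval a) := X_sub_C_dvd_sub_C_eval
  let Q : StandardEtalePair Γ(V₁.left, ⊤) := 
    { f := P₁.f
      monic_f := P₁.monic_f
      g := P₁.g * H
      cond := by
        obtain ⟨p₁, p₂, n, h⟩ := P₁.cond
        refine ⟨p₁ * H ^ n, p₂ * H ^ n, n, ?_⟩
        rw [mul_pow, ← h]
        ring }
  have hev : (ev p V₁ y₁).comp f₁.left.appTop.hom = ev p V (p.fiber.map f₁ y₁) := ev_w p f₁ y₁
  let : Algebra Γ(V.left, ⊤) (Om p) := (ev p V (p.fiber.map f₁ y₁)).toAlgebra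
  let : Algebra Γ(V₁.left, ⊤) (Om p) := (ev p V₁ y₁).toAlgebra
  let : Algebra Γ(V.left, ⊤) Γ(V₁.left, ⊤) := f₁.left.appTop.hom.toAlgebra
  have : IsScalarTower Γ(V.left, ⊤) Γ(V₁.left, ⊤) (Om p) := IsScalarTower.of_algebraMap_eq' hev.symm
  let ψ' : P.Ring →ₐ[Γ(V.left, ⊤)] Om p := { ψ with commutes' := fun r ↦ congr($hψ r) }
  have hr : P.HasMap (ψ P.X) := P.hasMap_X.map ψ'
  have hr₁ : P₁.HasMap (ψ P.X) := StandardEtalePair.HasMap.map_algebraMap (S := Γ(V₁.left, ⊤)) P hr
  have hfa : aeval (ψ P.X) (C (P₁.f.eval a)) = 0 := by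
    rw [← ha, aeval_C]
    change ev p V₁ y₁ (P₁.f.eval a) = 0
    rw [← eval₂_at_apply]
    have := hr₁.1
    rwa [← ha] at this
  have hHr : IsUnit (aeval (ψ P.X) H) := by
    have h1 := hr₁.isUnit_derivative_f
    have h2 : derivative P₁.f = H + (X - C a) * derivative H := by
      have := congrArg derivative hH
      simpa using this
    rw [h2, map_add, map_mul, map_sub, aeval_X, aeval_C] at h1
    have h3 : algebraMap Γ(V₁.left, ⊤) (Om p) a = ψ P.X := ha
    rwa [h3, sub_self, zero_mul, add_zero] at h1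
  have hQ : Q.HasMap (ψ P.X) := by
    refine ⟨hr₁.1, ?_⟩
    change IsUnit (aeval (ψ P.X) (P₁.g * H))
    rw [map_mul]
    exact hr₁.2.mul hHr
  obtain ⟨z, hz⟩ := exists_lift_specObj p y₁ (C := Q.Ring) (RingHom.id _)
    (Q.lift _ hQ).toRingHom (by exact (Q.lift _ hQ).comp_algebraMap)
  let : Algebra Γ(V.left, ⊤) Q.Ring :=
    ((algebraMap Γ(V₁.left, ⊤) Q.Ring).comp f₁.left.appTop.hom).toAlgebra
  have : IsScalarTower Γ(V.left, ⊤) Γ(V₁.left, ⊤) Q.Ring := IsScalarTower.of_algebraMap_eq' rfl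
  have hPQ : P.HasMap Q.X := by
    constructor
    · rw [← aeval_map_algebraMap Γ(V₁.left, ⊤)]
      exact Q.hasMap_X.1
    · rw [← aeval_map_algebraMap Γ(V₁.left, ⊤)]
      have h1 : IsUnit (aeval Q.X (P₁.g * H)) := Q.hasMap_X.2
      rw [map_mul] at h1
      exact isUnit_of_mul_isUnit_left h1
  let g₀ : P.Ring →ₐ[Γ(V.left, ⊤)] Q.Ring := P.lift Q.X hPQ
  have hg₀ : (g₀ : P.Ring →+* Q.Ring).comp (algebraMap _ _) =
    (algebraMap Γ(V₁.left, ⊤) Q.Ring).comp f₁.left.appTop.hom := g₀.comp_algebraMap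
  have hstr : ((toΓ V₁ Q.Ring).comp (g₀ : P.Ring →+* Q.Ring)).comp (algebraMap _ _) =
      (specι V₁ Q.Ring ≫ f₁).left.appTop.hom := by
    rw [RingHom.comp_assoc, hg₀, ← RingHom.comp_assoc, toΓ_comp]
    rfl
  have hevz : (ev p _ z).comp ((toΓ V₁ Q.Ring).comp (algebraMap Γ(V₁.left, ⊤) Q.Ring)) =
      ev p V₁ y₁ := by
    rw [toΓ_comp, ev_w, hz]
  refine ⟨specObj V₁ Q.Ring, inferInstance, z, specι V₁ Q.Ring ≫ f₁, (toΓ V₁ Q.Ring).comp g₀,
    by simp [hz], hstr, ?_⟩
  let r : Om p := ev p _ z (toΓ V₁ Q.Ring Q.X)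
  have hval (F : Γ(V₁.left, ⊤)[X]) : aeval r F = ev p _ z (toΓ V₁ Q.Ring (aeval Q.X F)) := by
    rw [aeval_def, aeval_def, ← RingHom.comp_apply, hom_eval₂]
    congr 1
    exact hevz.symm
  have hr0 : aeval r P₁.f = 0 := by
    rw [hval]
    have : aeval Q.X P₁.f = 0 := Q.hasMap_X.1
    rw [this, map_zero, map_zero]
  have hHr' : IsUnit (aeval r H) := by
    rw [hval]
    have h1 : IsUnit (aeval Q.X (P₁.g * H)) := Q.hasMap_X.2
    rw [map_mul] at h1
    exact ((isUnit_of_mul_isUnit_right h1).map _).map _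
  have hrr : r = ψ P.X := by
    have h1 := congrArg (aeval r) hH
    have h3 : algebraMap Γ(V₁.left, ⊤) (Om p) a = ψ P.X := ha
    have h4 : algebraMap Γ(V₁.left, ⊤) (Om p) (P₁.f.eval a) = 0 := by
      rw [aeval_C] at hfa
      exact hfa
    simp only [map_sub, map_mul, aeval_X, aeval_C, hr0, h3, h4, sub_zero] at h1
    have := hHr'.ne_zero
    have h5 := (mul_eq_zero.1 h1.symm).resolve_right this
    exact sub_eq_zero.1 h5
  let φ : P.Ring →ₐ[Γ(V.left, ⊤)] Om p :=
    { (ev p _ z).comp ((toΓ V₁ Q.Ring).comp (g₀ : P.Ring →+* Q.Ring)) with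
      commutes' := by
        intro x
        have h1 : (ev p _ z).comp (((toΓ V₁ Q.Ring).comp (g₀ : P.Ring →+* Q.Ring)).comp
          (algebraMap _ _)) = ev p V (p.fiber.map f₁ y₁) := by
          rw [hstr, ev_w]
          simp [hz]
        exact congr($h1 x) }
  have hφ : φ = ψ' := by
    apply P.hom_ext
    change ev p _ z (toΓ V₁ Q.Ring (g₀ P.X)) = ψ P.X
    rw [← hrr]
    have : g₀ P.X = Q.X := P.lift_X _ _
    rw [this]
  exact congrArg AlgHom.toRingHom hφ

end Groth.Agent.Etcore.PointB
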