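import Groth.Agent.Ega2.NormalCompl
import Groth.Agent.Ega2.NormCurve
import Groth.Agent.Sga4B.CurveComp
import Mathlib.FieldTheory.IsSepClosed
import Mathlib.FieldTheory.SeparableClosure
import Mathlib.AlgebraicGeometry.AlgClosed.Basic

/-!
# Normal compactification of a smooth curve and roots of uniformizers at the boundary
-/

set_option autoImplicit false
set_option linter.style.haveILetI false

universe u

open CategoryTheory CategoryTheory.Limits AlgebraicGeometry TopologicalSpace

namespace Groth.Agent.Etcore.RootCover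

/-- The ring map `k → Γ(X, W)` of a `k`-scheme. -/
noncomputable def str {k : Type u} [Field k] {X : Scheme.{u}} (p : X ⟶ Spec (CommRingCat.of k))
    (W : X.Opens) : k →+* Γ(X, W) :=
  (X.presheaf.map (homOfLE le_top).op).hom.comp
    (p.appTop.hom.comp (Scheme.ΓSpecIso (CommRingCat.of k)).inv.hom)

section Algebra

/-- A generator of the maximal ideal of a local ring of a Noetherian ring generates the prime in a
neighbourhood. -/
theorem exists_uniformizer (A : Type u) [CommRing A] [IsNoetherianRing A] (m : Ideal A) [hm : m.IsPrime]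
    (O : Type u) [CommRing O] [IsLocalRing O] [Algebra A O] [IsLocalization.AtPrime O m]
    (h : (IsLocalRing.maximalIdeal O).IsPrincipal) :
    ∃ (t g : A), t ∈ m ∧ g ∉ m ∧ ∀ a ∈ m, ∃ b, g * a = t * b := by
  obtain ⟨⟨a₀, ha₀⟩⟩ := h
  obtain ⟨⟨t, s⟩, hts⟩ := IsLocalization.surj (m.primeCompl) a₀
  have hsu : IsUnit (algebraMap A O s) := IsLocalization.map_units O s
  have hspan : IsLocalRing.maximalIdeal O = Ideal.span {algebraMap A O t} := by
    rw [ha₀, ← hts]
    exact (Ideal.span_singleton_mul_right_unit hsu a₀).symm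
  have ht : t ∈ m := by
    have h1 : algebraMap A O t ∈ IsLocalRing.maximalIdeal O := by
      rw [hspan]; exact Ideal.mem_span_singleton_self _
    exact (IsLocalization.AtPrime.to_map_mem_maximal_iff O m t).mp h1
  have key : ∀ a ∈ m, ∃ g, g ∉ m ∧ g * a ∈ Ideal.span {t} := by
    intro a ha
    have h1 : algebraMap A O a ∈ IsLocalRing.maximalIdeal O :=
      (IsLocalization.AtPrime.to_map_mem_maximal_iff O m a).mpr ha
    rw [hspan, Ideal.mem_span_singleton] at h1
    obtain ⟨o, ho⟩ := h1
    obtain ⟨⟨b, c⟩, hbc⟩ := IsLocalization.surj (m.primeCompl) o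
    have h2 : algebraMap A O (c * a) = algebraMap A O (t * b) := by
      rw [map_mul, map_mul, ho, ← hbc]; ring
    obtain ⟨d, hd⟩ := (IsLocalization.eq_iff_exists (m.primeCompl) O).mp h2
    refine ⟨d * c, (m.primeCompl.mul_mem d.2 c.2), ?_⟩
    rw [Ideal.mem_span_singleton]
    refine ⟨d * b, ?_⟩
    rw [mul_assoc, hd]; ring
  obtain ⟨s, hs⟩ := (isNoetherianRing_iff_ideal_fg A).mp inferInstance m
  have hsm : ∀ x : s, (x : A) ∈ m := fun x => hs ▸ Ideal.subset_span x.2
  choose g hg hgm using fun x : s => key x (hsm x)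
  refine ⟨t, ∏ x : s, g x, ht, ?_, ?_⟩
  · intro hmem
    obtain ⟨x, -, hx⟩ := (Ideal.IsPrime.prod_mem_iff (hp := hm)).mp hmem
    exact hg x hx
  · intro a ha
    have h3 : (∏ x : s, g x) * a ∈ Ideal.span {t} := by
      rw [← hs] at ha
      refine Submodule.span_induction (p := fun a _ => (∏ x : s, g x) * a ∈ Ideal.span {t}) ?_ ?_ ?_ ?_ ha
      · intro x hx
        have h4 : g ⟨x, hx⟩ ∣ ∏ x : s, g x := Finset.dvd_prod_of_mem g (Finset.mem_univ _)
        obtain ⟨c, hc⟩ := h4
        rw [hc, show g ⟨x, hx⟩ * c * x = c * (g ⟨x, hx⟩ * x) by ring]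
        exact Ideal.mul_mem_left _ _ (hgm ⟨x, hx⟩)
      · rw [mul_zero]; exact zero_mem _
      · intro x y _ _ hx hy; rw [mul_add]; exact add_mem hx hy
      · intro r x _ hx
        rw [smul_eq_mul, show (∏ x : s, g x) * (r * x) = r * ((∏ x : s, g x) * x) by ring]
        exact Ideal.mul_mem_left _ _ hx
    rw [Ideal.mem_span_singleton] at h3
    exact h3

/-- After inverting `g` the prime is principal. -/
theorem eq_span (A B : Type u) [CommRing A] [CommRing B] [Algebra A B] (g t : A) [IsLocalization.Away g B]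
    (n : Ideal B) (ht : algebraMap A B t ∈ n)
    (h : ∀ a : A, algebraMap A B a ∈ n → ∃ b, g * a = t * b) : n = Ideal.span {algebraMap A B t} := by
  have hg : IsUnit (algebraMap A B g) := IsLocalization.Away.algebraMap_isUnit g
  apply le_antisymm
  · intro x hx
    obtain ⟨⟨a, s⟩, hs⟩ := IsLocalization.surj (Submonoid.powers g) x
    have h1 : algebraMap A B a ∈ n := by rw [← hs]; exact Ideal.mul_mem_right _ _ hx
    obtain ⟨b, hb⟩ := h a h1
    have hsu : IsUnit (algebraMap A B s) := IsLocalization.map_units B s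
    rw [Ideal.mem_span_singleton]
    have h2 : algebraMap A B t ∣ algebraMap A B g * algebraMap A B s * x := by
      refine ⟨algebraMap A B b, ?_⟩
      rw [mul_assoc, mul_comm (algebraMap A B s) x, hs, ← map_mul, ← map_mul, hb]
    exact ((hg.mul hsu).dvd_mul_left).mp h2
  · rw [Ideal.span_le, Set.singleton_subset_iff]; exact ht

/-- The Nullstellensatz over an algebraically closed field. -/
theorem bijective_quotient (k : Type u) [Field k] [IsAlgClosed k] (B : Type u) [CommRing B] (φ : k →+* B)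
    (hφ : φ.FiniteType) (n : Ideal B) [hn : n.IsMaximal] :
    Function.Bijective ((Ideal.Quotient.mk n).comp φ) := by
  letI : Algebra k B := φ.toAlgebra
  haveI : Algebra.FiniteType k B := hφ
  letI : Field (B ⧸ n) := Ideal.Quotient.field n
  haveI : Module.Finite k (B ⧸ n) := finite_of_finite_type_of_isJacobsonRing k (B ⧸ n)
  exact IsAlgClosed.algebraMap_bijective_of_isIntegral (k := k) (K := B ⧸ n)

end Algebra

section Cover

open Groth.Agent.Ega2.NormChart

theorem exists_field (K : Type u) [Field K] (n : ℕ) (hn : (n : K) ≠ 0) {ι : Type*} [Finite ι] (τ : ι → K) :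
    ∃ (L : Type u) (_ : Field L) (_ : Algebra K L), FiniteDimensional K L ∧ Algebra.IsSeparable K L ∧
      ∃ a : ι → L, ∀ i, a i ^ n = algebraMap K L (τ i) := by
  let Ω := SeparableClosure K
  haveI : NeZero ((n : ℕ) : Ω) := ⟨fun h => hn (by
    apply (algebraMap K Ω).injective
    rw [map_natCast, map_zero]
    exact h)⟩
  choose a ha using fun i => IsSepClosed.exists_pow_nat_eq (algebraMap K Ω (τ i)) n
  let L := IntermediateField.adjoin K (Set.range a)
  haveI : Finite (Set.range a) := Set.finite_range a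
  haveI : FiniteDimensional K L := IntermediateField.finiteDimensional_adjoin
    fun x _ => Algebra.IsIntegral.isIntegral x
  refine ⟨L, inferInstance, inferInstance, inferInstance, inferInstance,
    fun i => ⟨a i, IntermediateField.subset_adjoin K _ ⟨i, rfl⟩⟩, fun i => ?_⟩
  apply Subtype.ext
  exact ha i

variable {X : Scheme.{u}} [IsIntegral X] (L : Type u) [Field L] [Algebra X.functionField L]

/-- `Spec L ⟶ X` for an extension `L` of the function field. -/
noncomputable def gen : Spec (CommRingCat.of L) ⟶ X :=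
  Spec.map (CommRingCat.ofHom (algebraMap X.functionField L)) ≫ X.fromSpecStalk (genericPoint X)

theorem gen_apply (y : Spec (CommRingCat.of L)) : gen (X := X) L y = genericPoint X := by
  rw [gen, Scheme.Hom.comp_apply]
  have h : Spec.map (CommRingCat.ofHom (algebraMap X.functionField L)) y =
      IsLocalRing.closedPoint X.functionField := Subsingleton.elim (α := PrimeSpectrum X.functionField) _ _
  rw [h]
  exact Scheme.fromSpecStalk_closedPoint

theorem gen_preimage (V : X.Opens) [hV : Nonempty V] : (gen (X := X) L) ⁻¹ᵁ V = ⊤ := by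
  ext y
  simp only [TopologicalSpace.Opens.coe_top, Set.mem_univ, iff_true]
  change gen (X := X) L y ∈ V
  rw [gen_apply]
  obtain ⟨⟨z, hz⟩⟩ := hV
  exact ((genericPoint_spec X).mem_open_set_iff V.isOpen).mpr ⟨z, trivial, hz⟩

omit [IsIntegral X] in
theorem appLE_comp_fromSpecStalk {R : CommRingCat.{u}} (x : X) (φ : X.presheaf.stalk x ⟶ R) (V : X.Opens)
    (hx : x ∈ V) (e : ⊤ ≤ (Spec.map φ ≫ X.fromSpecStalk x) ⁻¹ᵁ V) :
    (Spec.map φ ≫ X.fromSpecStalk x).appLE V ⊤ e ≫ (Scheme.ΓSpecIso R).hom =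
      X.presheaf.germ V x hx ≫ φ := by
  have e' : ⊤ ≤ (Spec.map φ) ⁻¹ᵁ ((X.fromSpecStalk x) ⁻¹ᵁ V) := e
  have h1 : (Spec.map φ ≫ X.fromSpecStalk x).appLE V ⊤ e =
      (X.fromSpecStalk x).app V ≫ (Spec.map φ).appLE _ ⊤ e' := Scheme.Hom.comp_appLE ..
  have h2 : (Spec (X.presheaf.stalk x)).presheaf.map (homOfLE le_top).op ≫
      (Spec.map φ).appLE ((X.fromSpecStalk x) ⁻¹ᵁ V) ⊤ e' = (Spec.map φ).appLE ⊤ ⊤ le_top :=
    Scheme.Hom.map_appLE ..
  have h3 : (Spec.map φ).appLE ⊤ ⊤ le_top = (Spec.map φ).appTop := by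
    rw [Scheme.Hom.appTop, Scheme.Hom.app_eq_appLE]
    rfl
  rw [h1, Scheme.fromSpecStalk_app hx]
  simp only [Category.assoc]
  rw [reassoc_of% h2, h3, Scheme.ΓSpecIso_naturality, Iso.inv_hom_id_assoc]

theorem toK_gen (V : X.Opens) [hV : Nonempty V] (a : Γ(X, V)) :
    toK (gen (X := X) L) V (gen_preimage L V) a =
      algebraMap X.functionField L (algebraMap Γ(X, V) X.functionField a) := by
  have hx : genericPoint X ∈ V := by
    obtain ⟨⟨z, hz⟩⟩ := hV
    exact ((genericPoint_spec X).mem_open_set_iff V.isOpen).mpr ⟨z, trivial, hz⟩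
  have h := appLE_comp_fromSpecStalk (genericPoint X)
    (CommRingCat.ofHom (algebraMap X.functionField L)) V hx (gen_preimage L V).ge
  exact congrArg (fun z => z.hom a) h

theorem finite_app [IsNoetherian X] (hX : Pi1.IsNormalScheme X) [FiniteDimensional X.functionField L]
    [Algebra.IsSeparable X.functionField L] [QuasiCompact (gen (X := X) L)]
    [QuasiSeparated (gen (X := X) L)] (V : X.Opens) (hV : IsAffineOpen V) [Nonempty V] :
    ((gen (X := X) L).fromNormalization.app V).hom.Finite := by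
  haveI : IsNoetherianRing Γ(X, V) := IsLocallyNoetherian.component_noetherian ⟨V, hV⟩
  haveI := Groth.Agent.Sga4B.CurveComp.isIntegrallyClosed_sections hX V
  haveI := functionField_isFractionRing_of_isAffineOpen X V hV
  let τ : Γ(X, V) →+* L := toK (gen (X := X) L) V (gen_preimage L V)
  letI : Algebra Γ(X, V) L := τ.toAlgebra
  haveI : IsScalarTower Γ(X, V) X.functionField L := IsScalarTower.of_algebraMap_eq (toK_gen L V)
  haveI : Module.Finite Γ(X, V) (integralClosure Γ(X, V) L) :=
    IsIntegralClosure.finite Γ(X, V) X.functionField L (integralClosure Γ(X, V) L)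
  letI : Algebra Γ(X, V) Γ((gen (X := X) L).normalization, (gen (X := X) L).fromNormalization ⁻¹ᵁ V) :=
    ((gen (X := X) L).fromNormalization.app V).hom.toAlgebra
  have hcomp := normToK_comp (gen (X := X) L) V (gen_preimage L V)
  let ν : Γ((gen (X := X) L).normalization, (gen (X := X) L).fromNormalization ⁻¹ᵁ V) →ₐ[Γ(X, V)] L :=
    { normToK (gen (X := X) L) V (gen_preimage L V) with
      commutes' := fun r => congrArg (fun z : Γ(X, V) →+* L => z r) hcomp }
  have hν : Function.Injective ν := normToK_injective (gen (X := X) L) V (gen_preimage L V) hV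
  have hint : ∀ z, ν z ∈ integralClosure Γ(X, V) L := fun z =>
    (mem_range_normToK (gen (X := X) L) V (gen_preimage L V) hV _).mp ⟨z, rfl⟩
  let ν' := ν.codRestrict (integralClosure Γ(X, V) L) hint
  exact Module.Finite.of_injective ν'.toLinearMap fun a b hab => hν (congrArg Subtype.val hab)

theorem exists_cover [IsNoetherian X] (hX : Pi1.IsNormalScheme X) (n : ℕ)
    (hn : (n : X.functionField) ≠ 0) {ι : Type*} [Finite ι] (W : ι → X.Opens) (hW : ∀ i, IsAffineOpen (W i))
    [∀ i, Nonempty (W i)] (t : ∀ i, Γ(X, W i)) :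
    ∃ (Z : Scheme.{u}) (ρ : Z ⟶ X), IsFinite ρ ∧ Surjective ρ ∧
      ∀ i, ∃ T : Γ(Z, ρ ⁻¹ᵁ W i), T ^ n = (ρ.app (W i)).hom (t i) := by
  have hn0 : n ≠ 0 := fun h => hn (by rw [h]; simp)
  obtain ⟨L, _, _, _, _, a, ha⟩ := exists_field X.functionField n hn
    (fun i => algebraMap Γ(X, W i) X.functionField (t i))
  let w := gen (X := X) L
  haveI : QuasiCompact w := inferInstance
  haveI : QuasiSeparated w := inferInstance
  have key : ∀ x : X, ∃ V : X.Opens, IsAffineOpen V ∧ x ∈ V := by
    intro x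
    obtain ⟨_, ⟨V, hV, rfl⟩, hxV, -⟩ :=
      X.isBasis_affineOpens.exists_subset_of_mem_open (Set.mem_univ x) isOpen_univ
    exact ⟨V, hV, hxV⟩
  choose V hV hxV using key
  haveI hne : ∀ x, Nonempty (V x) := fun x => ⟨⟨x, hxV x⟩⟩
  haveI hfin : IsFinite w.fromNormalization :=
    Groth.Agent.Ega2.NormCurve.isFinite_of_cover _ V hV
      (by rw [eq_top_iff]; intro x _; exact TopologicalSpace.Opens.mem_iSup.mpr ⟨x, hxV x⟩)
      fun x => finite_app L hX (V x) (hV x)
  haveI hdom : IsDominant w := by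
    constructor
    rw [DenseRange, dense_iff_closure_eq]
    refine Set.eq_univ_of_univ_subset ?_
    have h1 : closure {genericPoint X} = Set.univ := genericPoint_closure X
    rw [← h1]
    apply closure_mono
    rintro _ rfl
    exact ⟨IsLocalRing.closedPoint L, gen_apply L _⟩
  haveI : IsDominant w.fromNormalization := by
    haveI : IsDominant (w.toNormalization ≫ w.fromNormalization) := by
      rw [w.toNormalization_fromNormalization]; infer_instance
    exact IsDominant.of_comp w.toNormalization _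
  haveI : Surjective w.fromNormalization :=
    surjective_of_isDominant_of_isClosed_range _ w.fromNormalization.isClosedMap.isClosed_range
  refine ⟨w.normalization, w.fromNormalization, hfin, inferInstance, fun i => ?_⟩
  have hai : a i ^ n = toK w (W i) (gen_preimage L (W i)) (t i) := by
    rw [ha, toK_gen]
  have h1 : (toK w (W i) (gen_preimage L (W i))).IsIntegralElem (a i) := by
    refine ⟨Polynomial.X ^ n - Polynomial.C (t i), Polynomial.monic_X_pow_sub_C _ hn0, ?_⟩
    simp [hai]
  obtain ⟨T, hT⟩ := (mem_range_normToK w (W i) (gen_preimage L (W i)) (hW i) (a i)).mpr h1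
  refine ⟨T, normToK_injective w (W i) (gen_preimage L (W i)) (hW i) ?_⟩
  rw [map_pow, hT, hai]
  exact (congrArg (fun z : Γ(X, W i) →+* L => z (t i)) (normToK_comp w (W i) (gen_preimage L (W i)))).symm

end Cover

section Chart

theorem finiteType_str {k : Type u} [Field k] {X : Scheme.{u}} (p : X ⟶ Spec (CommRingCat.of k))
    [LocallyOfFiniteType p] {W : X.Opens} (hW : IsAffineOpen W) : (str p W).FiniteType := by
  letI : X.Over (Spec (CommRingCat.of k)) := ⟨p⟩
  haveI : LocallyOfFiniteType (X ↘ (Spec (CommRingCat.of k))) := inferInstanceAs (LocallyOfFiniteType p)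
  exact VarietyB.DimSch.toSections_finiteType k X hW

theorem mem_primeIdealOf_iff {X : Scheme.{u}} {W : X.Opens} (hW : IsAffineOpen W) (x : X) (hx : x ∈ W)
    (a : Γ(X, W)) : a ∈ (hW.primeIdealOf ⟨x, hx⟩).asIdeal ↔ x ∉ X.basicOpen a := by
  letI : Algebra Γ(X, W) (X.presheaf.stalk x) := TopCat.Presheaf.algebra_section_stalk X.presheaf ⟨x, hx⟩
  haveI hloc : IsLocalization.AtPrime (X.presheaf.stalk x) (hW.primeIdealOf ⟨x, hx⟩).asIdeal :=
    hW.isLocalization_stalk ⟨x, hx⟩
  rw [X.mem_basicOpen a x hx]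
  have h := IsLocalization.AtPrime.isUnit_to_map_iff (X.presheaf.stalk x)
    (hW.primeIdealOf ⟨x, hx⟩).asIdeal a
  have h2 : (algebraMap Γ(X, W) (X.presheaf.stalk x)) a = X.presheaf.germ W x hx a := rfl
  rw [← h2, h]
  simp [Ideal.primeCompl]

theorem exists_chart (k : Type u) [Field k] [IsAlgClosed k] {X : Scheme.{u}} [IsLocallyNoetherian X]
    (p : X ⟶ Spec (CommRingCat.of k)) [LocallyOfFiniteType p] (x : X) (hx : IsClosed ({x} : Set X))
    (hreg : IsRegularLocalRing (X.presheaf.stalk x)) (hd : ringKrullDim (X.presheaf.stalk x) ≤ 1)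
    (N : X.Opens) (hxN : x ∈ N) :
    ∃ (W : X.Opens) (t : Γ(X, W)), IsAffineOpen W ∧ x ∈ W ∧ W ≤ N ∧ x ∉ X.basicOpen t ∧
      Function.Bijective ((Ideal.Quotient.mk (Ideal.span {t})).comp (str p W)) := by
  obtain ⟨V, hV, hxV, hVN⟩ : ∃ V : X.Opens, IsAffineOpen V ∧ x ∈ V ∧ V ≤ N := by
    obtain ⟨_, ⟨V, hV, rfl⟩, hxV, hVN⟩ :=
      X.isBasis_affineOpens.exists_subset_of_mem_open hxN N.2
    exact ⟨V, hV, hxV, hVN⟩
  letI : Algebra Γ(X, V) (X.presheaf.stalk x) := TopCat.Presheaf.algebra_section_stalk X.presheaf ⟨x, hxV⟩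
  haveI hloc : IsLocalization.AtPrime (X.presheaf.stalk x) (hV.primeIdealOf ⟨x, hxV⟩).asIdeal :=
    hV.isLocalization_stalk ⟨x, hxV⟩
  haveI : IsNoetherianRing Γ(X, V) := IsLocallyNoetherian.component_noetherian ⟨V, hV⟩
  obtain ⟨t, g, ht, hg, hgt⟩ := exists_uniformizer Γ(X, V) (hV.primeIdealOf ⟨x, hxV⟩).asIdeal
    (X.presheaf.stalk x) (Groth.Agent.Ega2.RegLow.isDomain_and_isPrincipal _ hd).2
  rw [mem_primeIdealOf_iff] at ht hg
  simp only [not_not] at hg
  letI : Algebra Γ(X, V) Γ(X, X.basicOpen g) :=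
    (X.presheaf.map (homOfLE <| X.basicOpen_le g : _ ⟶ V).op).hom.toAlgebra
  haveI : IsLocalization.Away g Γ(X, X.basicOpen g) := hV.isLocalization_basicOpen g
  have hW : IsAffineOpen (X.basicOpen g) := hV.basicOpen g
  let t' : Γ(X, X.basicOpen g) := algebraMap Γ(X, V) Γ(X, X.basicOpen g) t
  have hres : ∀ a : Γ(X, V), x ∈ X.basicOpen (algebraMap Γ(X, V) Γ(X, X.basicOpen g) a) ↔
      x ∈ X.basicOpen a := by
    intro a
    have h1 : X.basicOpen (algebraMap Γ(X, V) Γ(X, X.basicOpen g) a) = X.basicOpen g ⊓ X.basicOpen a :=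
      X.basicOpen_res _ _
    rw [h1]
    exact ⟨fun h => h.2, fun h => ⟨hg, h⟩⟩
  have hmax : (hW.primeIdealOf ⟨x, hg⟩).asIdeal.IsMaximal := hW.primeIdealOf_isMaximal_of_isClosed ⟨x, hg⟩ hx
  have ht' : x ∉ X.basicOpen t' := fun h => ht ((hres t).mp h)
  have hspan : (hW.primeIdealOf ⟨x, hg⟩).asIdeal = Ideal.span {t'} := by
    refine eq_span Γ(X, V) Γ(X, X.basicOpen g) g t _ ?_ fun a ha => hgt a ?_
    · rw [mem_primeIdealOf_iff]; exact ht'
    · rw [mem_primeIdealOf_iff] at ha ⊢
      exact fun h => ha ((hres a).mpr h)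
  refine ⟨X.basicOpen g, t', hW, hg, (X.basicOpen_le g).trans hVN, ht', ?_⟩
  haveI : (Ideal.span {t'}).IsMaximal := hspan ▸ hmax
  exact bijective_quotient k Γ(X, X.basicOpen g) (str p _) (finiteType_str p hW) (Ideal.span {t'})

end Chart

section Main

/-- A scheme of dimension zero which is irreducible has one point. -/
theorem subsingleton_of_dim_zero {X : Scheme.{u}} [IrreducibleSpace X] (h : topologicalKrullDim X ≤ 0) :
    Subsingleton X := by
  have h1 := Order.krullDim_nonpos_iff_forall_isMax.mp h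
  have key : ∀ x : X, x = genericPoint X := by
    intro x
    let A : TopologicalSpace.IrreducibleCloseds X := ⟨closure {x}, isIrreducible_singleton.closure, isClosed_closure⟩
    let B : TopologicalSpace.IrreducibleCloseds X := ⟨Set.univ, IrreducibleSpace.isIrreducible_univ X, isClosed_univ⟩
    have hAB : A ≤ B := fun _ _ => trivial
    have hBA : B ≤ A := h1 A hAB
    have h2 : closure {x} = Set.univ := Set.eq_univ_of_univ_subset hBA
    have h3 : closure {genericPoint X} = Set.univ := genericPoint_closure X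
    have h4 : Inseparable x (genericPoint X) := by
      rw [inseparable_iff_closure_eq, h2, h3]
    exact h4.eq
  exact ⟨fun x y => (key x).trans (key y).symm⟩

/-- Smooth curves over an algebraically closed field: normal compactification, and a finite cover over which
the uniformizers at the boundary points become `n`-th powers. -/
theorem exists_root_cover (k : Type u) [Field k] [IsAlgClosed k] (U : Scheme.{u})
    (f : U ⟶ Spec (CommRingCat.of k)) [IsSeparated f] [Smooth f] [QuasiCompact f] [IsIntegral U]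
    (hdim : topologicalKrullDim U ≤ 1) (n : ℕ) (hn : 0 < n) (hnk : (n : k) ≠ 0) :
    ∃ (X Z : Scheme.{u}) (p : X ⟶ Spec (CommRingCat.of k)) (j : U ⟶ X) (ρ : Z ⟶ X), IsProper p ∧
      IsOpenImmersion j ∧ j ≫ p = f ∧ IsIntegral X ∧ IsFinite ρ ∧ Surjective ρ ∧ (Set.range j)ᶜ.Finite ∧
      ∀ x : X, x ∉ Set.range j → ∃ (W : X.Opens) (t : Γ(X, W)) (T : Γ(Z, ρ ⁻¹ᵁ W)), IsAffineOpen W ∧
        x ∈ W ∧ (∀ y ∈ W, y ∉ Set.range j → y = x) ∧ x ∉ X.basicOpen t ∧
        Function.Bijective ((Ideal.Quotient.mk (Ideal.span {t})).comp (str p W : k →+* Γ(X, W))) ∧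
        T ^ n = (ρ.app W).hom t := by
  letI : U.Over (Spec (CommRingCat.of k)) := ⟨f⟩
  haveI : LocallyOfFiniteType f := inferInstance
  haveI : LocallyOfFiniteType (U ↘ (Spec (CommRingCat.of k))) := inferInstanceAs (LocallyOfFiniteType f)
  have htop := VarietyB.DimSch.topologicalKrullDim_eq_trd k (X := U)
  rcases Nat.eq_zero_or_pos (VarietyB.DimSch.trd k U (genericPoint U)) with h0 | h0
  · -- dimension zero
    rw [h0, Nat.cast_zero] at htop
    haveI := subsingleton_of_dim_zero htop.le
    haveI : IsFinite f := isFinite_iff_locallyOfFiniteType_of_jacobsonSpace.mpr inferInstance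
    refine ⟨U, U, f, 𝟙 U, 𝟙 U, inferInstance, inferInstance, Category.id_comp _, inferInstance, inferInstance,
      inferInstance, ?_, fun x hx => (hx ⟨x, rfl⟩).elim⟩
    exact Set.toFinite _
  · have h1 : VarietyB.DimSch.trd k U (genericPoint U) = 1 := by
      rw [htop] at hdim
      have : VarietyB.DimSch.trd k U (genericPoint U) ≤ 1 := by exact_mod_cast hdim
      omega
    have hcurve : ∀ x : U, IsClosed ({x} : Set U) → ringKrullDim (U.presheaf.stalk x) = 1 := by
      intro x hx
      have h2 := VarietyB.DimSch.localDim_eq k x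
      rw [VarietyB.DimSch.localDim_eq_of_irreducible k, h1,
        VarietyB.DimSch.trd_eq_zero_of_isClosed k hx] at h2
      simpa using h2.symm
    have hnorm : Pi1.IsNormalScheme U := Groth.Agent.Sga4B.CurveComp.isNormalScheme_of_smooth f
    obtain ⟨X, p, j, hXi, hjp, hp, hj, -, hfin, hcl, hreg, hd⟩ :=
      Groth.Agent.Ega2.NormalCompl.exists_normal_completion k f hcurve hnorm
    haveI : IsLocallyNoetherian X := LocallyOfFiniteType.isLocallyNoetherian p
    haveI : CompactSpace X := QuasiCompact.compactSpace_of_compactSpace p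
    haveI : IsNoetherian X := {}
    have hXn : Pi1.IsNormalScheme X := fun y => by
      haveI := hreg y
      exact ⟨Groth.Agent.CurvesC.RegNormal.isDomain _, Groth.Agent.CurvesC.RegNormal.isIntegrallyClosed _⟩
    -- charts
    have hN : ∀ x : ((Set.range j.base)ᶜ : Set X), ∃ N : X.Opens, (x : X) ∈ N ∧
        ∀ y ∈ N, y ∉ Set.range j.base → y = x := by
      intro x
      have h2 : ((Set.range j.base)ᶜ \ {(x : X)}).Finite := hfin.subset Set.sdiff_subset
      have h3 : IsClosed ((Set.range j.base)ᶜ \ {(x : X)}) := by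
        rw [← Set.biUnion_of_singleton ((Set.range j.base)ᶜ \ {(x : X)})]
        exact h2.isClosed_biUnion fun z hz => hcl z hz.1
      refine ⟨⟨((Set.range j.base)ᶜ \ {(x : X)})ᶜ, h3.isOpen_compl⟩, fun h => h.2 rfl, fun y hy hy2 => ?_⟩
      by_contra hne
      exact hy ⟨hy2, hne⟩
    choose N hxN hNx using hN
    choose W t hW hxW hWN hxt hbij using fun x : ((Set.range j.base)ᶜ : Set X) =>
      exists_chart k p (x : X) (hcl x x.2) (hreg x) (hd x) (N x) (hxN x)
    haveI : Finite ((Set.range j.base)ᶜ : Set X) := hfin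
    haveI : ∀ x : ((Set.range j.base)ᶜ : Set X), Nonempty (W x) := fun x => ⟨⟨x, hxW x⟩⟩
    have hnK : (n : X.functionField) ≠ 0 := by
      let φ : k →+* X.functionField := (X.presheaf.germ ⊤ (genericPoint X) trivial).hom.comp (str p ⊤)
      intro h
      apply hnk
      apply φ.injective
      rw [map_natCast, map_zero]
      exact h
    obtain ⟨Z, ρ, hρf, hρs, hT⟩ := exists_cover hXn n hnK W hW t
    refine ⟨X, Z, p, j, ρ, hp, hj, hjp, hXi, hρf, hρs, hfin, fun x hx => ?_⟩
    obtain ⟨T, hT⟩ := hT ⟨x, hx⟩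
    exact ⟨W ⟨x, hx⟩, t ⟨x, hx⟩, T, hW _, hxW ⟨x, hx⟩, fun y hy hy2 => hNx ⟨x, hx⟩ y (hWN _ hy) hy2,
      hxt ⟨x, hx⟩, hbij ⟨x, hx⟩, hT⟩

end Main

end Groth.Agent.Etcore.RootCover
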