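import Groth.Agent.Etcore.HpullEq
import Groth.Agent.Etcore.Torsion
import Groth.Agent.S0101
import Mathlib.AlgebraicGeometry.Morphisms.UniversallyInjective
import Mathlib.AlgebraicGeometry.Morphisms.Integral
import Mathlib.AlgebraicGeometry.Morphisms.Proper
import Mathlib.FieldTheory.PurelyInseparable.Basic
import Mathlib.Topology.KrullDimension

/-!
# From separably closed fields to algebraically closed fields (Stacks 0A5E from 03SC)
-/

set_option autoImplicit false
universe u
open CategoryTheory CategoryTheory.Limits AlgebraicGeometry Opposite Abelian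
open scoped Groth.Agent.Etcore.EtInst
open Groth.Agent.Etcore.EtInst Groth.Agent.Etcore.HpullCalc

namespace Groth.Agent.Etcore.SepClosedRed

theorem preservesFiniteLimits_pull {X Y : Scheme.{u}} (f : X ⟶ Y) :
    PreservesFiniteLimits (EtCoh.pull f) := Groth.Agent.S0101.result f

theorem universallyInjective_spec (k K : Type u) [Field k] [Field K] [Algebra k K]
    [IsPurelyInseparable k K] :
    UniversallyInjective (Spec.map (CommRingCat.ofHom (algebraMap k K))) := by
  refine ((tfae_universallyInjective _).out 0 1 rfl rfl).2 fun L _ g₁ g₂ h => ?_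
  obtain ⟨a, rfl⟩ := Spec.map_surjective g₁
  obtain ⟨b, rfl⟩ := Spec.map_surjective g₂
  dsimp only at h
  rw [← Spec.map_comp, ← Spec.map_comp] at h
  have h1 := Spec.map_injective h
  congr 1
  refine CommRingCat.hom_ext ?_
  refine IsPurelyInseparable.injective_comp_algebraMap k K L ?_
  exact congrArg CommRingCat.Hom.hom h1

theorem isIntegralHom_spec (k K : Type u) [Field k] [Field K] [Algebra k K]
    [Algebra.IsIntegral k K] :
    IsIntegralHom (Spec.map (CommRingCat.ofHom (algebraMap k K))) := by
  rw [IsIntegralHom.SpecMap_iff]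
  exact algebraMap_isIntegral_iff.2 inferInstance

theorem surjective_spec (k K : Type u) [Field k] [Field K] (φ : k →+* K) :
    Surjective (Spec.map (CommRingCat.ofHom φ)) :=
  ⟨fun _ => ⟨default, Subsingleton.elim (α := PrimeSpectrum k) _ _⟩⟩

/-- Base change along a purely inseparable field extension is a universal homeomorphism. -/
theorem bc_spec (k K : Type u) [Field k] [Field K] [Algebra k K]
    [IsPurelyInseparable k K] {X Y : Scheme.{u}} {a : Y ⟶ X} {g : Y ⟶ Spec (CommRingCat.of K)}
    {f : X ⟶ Spec (CommRingCat.of k)}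
    (h : IsPullback a g f (Spec.map (CommRingCat.ofHom (algebraMap k K)))) :
    IsIntegralHom a ∧ UniversallyInjective a ∧ Surjective a := by
  have h1 := universallyInjective_spec k K
  have h2 := isIntegralHom_spec k K
  have h3 := surjective_spec k K (algebraMap k K)
  exact ⟨MorphismProperty.of_isPullback h.flip h2, MorphismProperty.of_isPullback h.flip h1,
    MorphismProperty.of_isPullback h.flip h3⟩

theorem main
    (H42 : ∀ {X₀ X : Scheme.{u}} (i : X₀ ⟶ X) [IsIntegralHom i]
      [UniversallyInjective i] [Surjective i] [PreservesFiniteLimits (EtCoh.pull i)]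
      (F : EtCoh.Ab X) (q : ℕ), Function.Bijective (EtCore.Hpull i F q))
    (H38 : ∀ (k : Type u) [Field k] [IsAlgClosed k] (X : Scheme.{u})
      (f : X ⟶ Spec (CommRingCat.of k)) [IsProper f]
      (hdim : topologicalKrullDim X ≤ 1) (F : EtCoh.Ab X) (hF : EtCoh.IsTorsion F)
      (k' : Type u) [Field k'] [IsAlgClosed k'] (φ : k →+* k')
      [PreservesFiniteLimits (EtCoh.pull (pullback.fst f (Spec.map (CommRingCat.ofHom φ))))] (q : ℕ),
      Function.Bijective (EtCore.Hpull (pullback.fst f (Spec.map (CommRingCat.ofHom φ))) F q))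
    (k : Type u) [Field k] [IsSepClosed k] (X : Scheme.{u})
    (f : X ⟶ Spec (CommRingCat.of k)) [IsProper f]
    (hdim : topologicalKrullDim X ≤ 1) (F : EtCoh.Ab X) (hF : EtCoh.IsTorsion F)
    (k' : Type u) [Field k'] [IsSepClosed k'] (φ : k →+* k')
    [PreservesFiniteLimits (EtCoh.pull (pullback.fst f (Spec.map (CommRingCat.ofHom φ))))] (q : ℕ) :
    Function.Bijective (EtCore.Hpull (pullback.fst f (Spec.map (CommRingCat.ofHom φ))) F q) := by
  let K := AlgebraicClosure k
  let K' := AlgebraicClosure k'
  let _ : Algebra k k' := φ.toAlgebra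
  let _ : Algebra k K' := ((algebraMap k' K').comp φ).toAlgebra
  let ψ₀ : K →ₐ[k] K' := IsAlgClosed.lift
  let ψ : K →+* K' := ψ₀.toRingHom
  have hψ : ψ.comp (algebraMap k K) = (algebraMap k' K').comp φ := ψ₀.comp_algebraMap
  -- the schemes
  let sK := Spec.map (CommRingCat.ofHom (algebraMap k K))
  let sψ := Spec.map (CommRingCat.ofHom ψ)
  let sφ := Spec.map (CommRingCat.ofHom φ)
  let sK' := Spec.map (CommRingCat.ofHom (algebraMap k' K'))
  have hsq : sψ ≫ sK = sK' ≫ sφ := by
    simp only [sψ, sK, sK', sφ, ← Spec.map_comp, ← CommRingCat.ofHom_comp, hψ]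
  let a := pullback.fst f sK
  let fK := pullback.snd f sK
  let b := pullback.fst fK sψ
  let fW := pullback.snd fK sψ
  have hW : IsPullback b fW fK sψ := IsPullback.of_hasPullback _ _
  have hA : IsPullback a fK f sK := IsPullback.of_hasPullback _ _
  have hP : IsPullback (pullback.fst f sφ) (pullback.snd f sφ) f sφ := IsPullback.of_hasPullback _ _
  have hba : IsPullback (b ≫ a) fW f (sψ ≫ sK) := hW.paste_horiz hA
  rw [hsq] at hba
  let c : pullback fK sψ ⟶ pullback f sφ := hP.lift (b ≫ a) (fW ≫ sK') (by rw [hba.w, Category.assoc])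
  have hc1 : c ≫ pullback.fst f sφ = b ≫ a := hP.lift_fst _ _ _
  have hc2 : c ≫ pullback.snd f sφ = fW ≫ sK' := hP.lift_snd _ _ _
  have hC : IsPullback c fW (pullback.snd f sφ) sK' := by
    refine IsPullback.of_right ?_ hc2 hP
    rw [hc1]; exact hba
  obtain ⟨i1, i2, i3⟩ := bc_spec k K hA
  obtain ⟨j1, j2, j3⟩ := bc_spec k' K' hC
  have e1 := preservesFiniteLimits_pull a
  have e2 := preservesFiniteLimits_pull b
  have e3 := preservesFiniteLimits_pull c
  have e4 := preservesFiniteLimits_pull (b ≫ a)
  have hpa : Function.Bijective (hp a F q) := (bijective_Hpull_iff a F q).1 (H42 a F q)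
  have hpc : Function.Bijective (hp c ((EtCoh.pull (pullback.fst f sφ)).obj F) q) :=
    (bijective_Hpull_iff c _ q).1 (H42 c _ q)
  have : IsProper fK := inferInstance
  have hdimK : topologicalKrullDim (pullback f sK : Scheme.{u}) ≤ 1 :=
    (Topology.IsClosedEmbedding.of_continuous_injective_isClosedMap a.continuous a.injective
      a.isClosedMap).isInducing.topologicalKrullDim_le.trans hdim
  have hpb : Function.Bijective (hp b ((EtCoh.pull a).obj F) q) :=
    (bijective_Hpull_iff b _ q).1
      (H38 K (pullback f sK) fK hdimK _ (Torsion.isTorsion_pull a F hF) K' ψ q)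
  rw [bijective_Hpull_iff]
  have h1 : Function.Bijective (hp (b ≫ a) F q) := (bijective_hp_comp b a F q hpa).2 hpb
  have h2 : ⇑(hp (b ≫ a) F q) = ⇑(hpVia c (pullback.fst f sφ) (b ≫ a) hc1 F q) ∘
      ⇑(hp (pullback.fst f sφ) F q) :=
    funext fun x => (hpVia_hp c (pullback.fst f sφ) (b ≫ a) hc1 F q x).symm
  have h3 := (bijective_hpVia_iff c (pullback.fst f sφ) (b ≫ a) hc1 F q).2 hpc
  rw [h2] at h1
  exact (Function.Bijective.of_comp_iff' h3 _).1 h1

end Groth.Agent.Etcore.SepClosedRed
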