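import Groth.Agent.Etcore.ClopenExt
import Groth.Agent.Etcore.ShriekUnique

/-!
The natural monomorphism `j_! → j_*` for `j` separated and etale (Stacks 0F4L).
-/

set_option autoImplicit false
set_option linter.unusedSectionVars false
open CategoryTheory CategoryTheory.Limits AlgebraicGeometry Opposite
universe u

namespace Groth.Agent.Etcore.ShriekToPush

open Groth.Agent.Etcore.ShriekBasic Groth.Agent.Etcore.ShriekStalk Groth.Agent.Etcore.Stalks
  Groth.Agent.Etcore.ShriekUnique Groth.Agent.Etcore.ClopenExt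

section Coprod

/-- An element of a coproduct of abelian groups with zero coordinates is zero. -/
theorem eq_zero_of_coord {I : Type u} {G : I → AddCommGrpCat.{u + 1}} {c : Cofan G}
    (hc : IsColimit c) (π : ∀ i, c.pt ⟶ G i) (h1 : ∀ i, c.inj i ≫ π i = 𝟙 _)
    (h2 : ∀ i i', i' ≠ i → c.inj i' ≫ π i = 0) (z : c.pt) (hz : ∀ i, π i z = 0) : z = 0 := by
  classical
  let ρ : c.pt ⟶ AddCommGrpCat.of (DirectSum I (fun u => G u)) :=
    hc.desc (Cofan.mk _ (fun u => AddCommGrpCat.ofHom (DirectSum.of (fun u => G u) u)))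
  have hρ : ∀ u, c.inj u ≫ ρ = AddCommGrpCat.ofHom (DirectSum.of (fun u => G u) u) :=
    fun u => hc.fac _ ⟨u⟩
  let φ : AddCommGrpCat.of (DirectSum I (fun u => G u)) ⟶ c.pt :=
    AddCommGrpCat.ofHom (DirectSum.toAddMonoid (fun u => (c.inj u).hom))
  have hφ : ρ ≫ φ = 𝟙 c.pt := by
    apply Cofan.IsColimit.hom_ext hc
    intro u
    rw [← Category.assoc, hρ u, Category.comp_id]
    ext z
    exact DirectSum.toAddMonoid_of (fun u => (c.inj u).hom) u z
  have hcoord : ∀ u : I, ρ ≫ AddCommGrpCat.ofHom (DFinsupp.evalAddMonoidHom u) = π u := by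
    intro u
    apply Cofan.IsColimit.hom_ext hc
    intro u'
    rw [← Category.assoc, hρ u']
    by_cases h : u' = u
    · subst h
      rw [h1]
      ext z
      exact DirectSum.of_eq_same (β := fun u => G u) u' z
    · rw [h2 u u' h]
      ext z
      exact DirectSum.of_eq_of_ne (β := fun u => G u) u' u z (Ne.symm h)
  have h3 : ρ z = 0 := by
    apply DFinsupp.ext
    intro u
    exact (congrArg (fun k => k z) (hcoord u)).trans (hz u)
  have h4 : φ (ρ z) = z := congrArg (fun k => k z) hφ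
  rw [← h4, h3, map_zero]

end Coprod

section Core

variable {V V' U P P' : Scheme.{u}} {v : V ⟶ U} {v' : V' ⟶ U} {f : V' ⟶ V}
  {p1 : P ⟶ V} {p2 : P ⟶ U} {p1' : P' ⟶ V'} {p2' : P' ⟶ U}
  {g : V ⟶ P} {g' : V' ⟶ P'} {F : P' ⟶ P}

theorem clopen_core (h1 : g ≫ p1 = 𝟙 V) [IsSeparated p1] :
    Mono g ∧ IsClosed (Set.range g) := by
  have e1 : Mono (g ≫ p1) := by rw [h1]; infer_instance
  have e2 : IsClosedImmersion (g ≫ p1) := by rw [h1]; infer_instance
  have e3 : IsClosedImmersion g := IsClosedImmersion.of_comp g p1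
  exact ⟨mono_of_mono g p1, (Scheme.Hom.isClosedEmbedding g).isClosed_range⟩

theorem range_core (hv : f ≫ v = v')
    (hext : ∀ {T : Scheme.{u}} (a b : T ⟶ P'), a ≫ p1' = b ≫ p1' → a ≫ p2' = b ≫ p2' → a = b)
    (h1 : g ≫ p1 = 𝟙 V) (h2 : g ≫ p2 = v) (h1' : g' ≫ p1' = 𝟙 V') (h2' : g' ≫ p2' = v')
    (hF1 : F ≫ p1 = p1' ≫ f) (hF2 : F ≫ p2 = p2') (hg : IsOpenImmersion g) (x : P')
    (hx : F x ∈ Set.range g) : x ∈ Set.range g' := by
  let O : P'.Opens := ⟨F ⁻¹' Set.range g,
    (Scheme.Hom.isOpenEmbedding g).isOpen_range.preimage F.continuous⟩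
  have hr : Set.range (O.ι ≫ F) ⊆ Set.range g := by
    rintro _ ⟨w, rfl⟩
    have : O.ι w ∈ (O : Set P') := by
      rw [← Scheme.Opens.range_ι O]
      exact ⟨w, rfl⟩
    exact this
  let b := IsOpenImmersion.lift g (O.ι ≫ F) hr
  have hb : b ≫ g = O.ι ≫ F := IsOpenImmersion.lift_fac _ _ _
  have e1 : O.ι ≫ p2' = b ≫ v := by
    rw [← hF2, ← Category.assoc, ← hb, Category.assoc, h2]
  have e2 : O.ι ≫ p1' ≫ f = b := by
    rw [← hF1, ← Category.assoc, ← hb, Category.assoc, h1, Category.comp_id]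
  have e3 : (O.ι ≫ p1') ≫ g' = O.ι := by
    apply hext
    · rw [Category.assoc, h1', Category.comp_id]
    · rw [Category.assoc, h2', e1, ← e2, ← hv]
      simp only [Category.assoc]
  have hx' : x ∈ Set.range O.ι := by
    rw [Scheme.Opens.range_ι]
    exact hx
  obtain ⟨w, rfl⟩ := hx'
  refine ⟨(O.ι ≫ p1') w, ?_⟩
  rw [← Scheme.Hom.comp_apply, e3]

end Core

section Map

variable {U X : Scheme.{u}} (j : U ⟶ X) [hj : AlgebraicGeometry.Etale j]

/-- the graph `V → V ×_X U`. -/
noncomputable abbrev gr (V : U.Etale) : V ⟶ (EtCoh.bc j).obj ((EtShriek.compEtale j).obj V) :=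
  (compBcAdj j).unit.app V

set_option backward.isDefEq.respectTransparency.types false in
theorem gr_fst (V : U.Etale) : (gr j V).left ≫ pullback.fst (V.hom ≫ j) j = 𝟙 V.left :=
  pullback.lift_fst _ _ _

set_option backward.isDefEq.respectTransparency.types false in
theorem gr_snd (V : U.Etale) : (gr j V).left ≫ pullback.snd (V.hom ≫ j) j = V.hom :=
  pullback.lift_snd _ _ _

set_option backward.isDefEq.respectTransparency.types false in
theorem isClopen_gr [IsSeparated j] (V : U.Etale) : IsClopen (gr j V) := by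
  have h := @clopen_core _ _ (pullback.fst (V.hom ≫ j) j) (gr j V).left (gr_fst j V)
    (MorphismProperty.pullback_fst (P := @IsSeparated) _ _ ‹_›)
  exact ⟨h.1, h.2⟩

set_option backward.isDefEq.respectTransparency.types false in
/-- the square of graphs is cartesian: points of the image of the graph. -/
theorem mem_range_gr {V' V : U.Etale} (f : V' ⟶ V)
    (p : ((EtCoh.bc j).obj ((EtShriek.compEtale j).obj V')).left)
    (hp : ((EtCoh.bc j).map ((EtShriek.compEtale j).map f)).left p ∈ Set.range (gr j V).left)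
    (hm : Mono (gr j V).left) :
    p ∈ Set.range (gr j V').left := by
  have := isOpenImmersion_left (gr j V) hm
  exact range_core (F := ((EtCoh.bc j).map ((EtShriek.compEtale j).map f)).left)
    (g := (gr j V).left) (g' := (gr j V').left) (f := f.left)
    (p1 := pullback.fst (V.hom ≫ j) j) (p2 := pullback.snd (V.hom ≫ j) j)
    (p1' := pullback.fst (V'.hom ≫ j) j) (p2' := pullback.snd (V'.hom ≫ j) j)
    (MorphismProperty.Over.w f)
    (fun a b h1 h2 => pullback.hom_ext h1 h2)
    (gr_fst j V) (gr_snd j V) (gr_fst j V') (gr_snd j V')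
    (pullback.lift_fst _ _ _) (pullback.lift_snd _ _ _) this p hp

variable [IsSeparated j] [EtShriek.JCont j]

/-- presheaf level naturality of the extension by zero from the graph -/
theorem map_extHom_gr (F : EtCoh.Ab U) {V W : U.Etale} (f : W ⟶ V) (s : EtCoh.sect F V) :
    F.obj.map ((EtCoh.bc j).map ((EtShriek.compEtale j).map f)).op
      (extHom F (gr j V) (isClopen_gr j V) s) =
    extHom F (gr j W) (isClopen_gr j W) (F.obj.map f.op s) := by
  have hnat : gr j W ≫ (EtCoh.bc j).map ((EtShriek.compEtale j).map f) = f ≫ gr j V :=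
    ((compBcAdj j).unit.naturality f).symm
  refine ext_unique F (gr j W) (isClopen_gr j W) _ _ ?_ ?_
  · rw [map_extHom, Groth.Agent.Etbase.EtSections.map_map, hnat,
      ← Groth.Agent.Etbase.EtSections.map_map, map_extHom]
  · intro W' g hd
    rw [map_extHom_of_disjoint _ _ _ _ _ hd, Groth.Agent.Etbase.EtSections.map_map]
    refine map_extHom_of_disjoint _ _ _ _ _ ?_
    rw [Set.disjoint_left]
    rintro _ ⟨w, rfl⟩ hw
    exact Set.disjoint_left.1 hd ⟨w, rfl⟩
      (mem_range_gr j f (g.left w) hw (isClopen_gr j V).mono)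

theorem hom_extHom_gr {F G : EtCoh.Ab U} (φ : F ⟶ G) (V : U.Etale) (s : EtCoh.sect F V) :
    φ.hom.app (op ((EtCoh.bc j).obj ((EtShriek.compEtale j).obj V)))
      (extHom F (gr j V) (isClopen_gr j V) s) =
    extHom G (gr j V) (isClopen_gr j V) (φ.hom.app (op V) s) := by
  have hn : ∀ {A B : U.Etale} (g : A ⟶ B) (t : EtCoh.sect F B),
      G.obj.map g.op (φ.hom.app (op B) t) = φ.hom.app (op A) (F.obj.map g.op t) := fun g t =>
    (ConcreteCategory.congr_hom (φ.hom.naturality g.op) t).symm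
  refine ext_unique G (gr j V) (isClopen_gr j V) _ _ ?_ ?_
  · rw [map_extHom, hn, map_extHom]
  · intro W' g hd
    rw [map_extHom_of_disjoint _ _ _ _ _ hd, hn, map_extHom_of_disjoint _ _ _ _ _ hd, map_zero]

/-- the natural map `F → j^{-1} j_* F` given by extension by zero from the graph. -/
noncomputable def sigma : 𝟭 (EtCoh.Ab U) ⟶ EtCoh.push j ⋙ EtShriek.restrAlong j where
  app F := ⟨{
    app V := AddCommGrpCat.ofHom (extHom F (gr j V.unop) (isClopen_gr j V.unop))
    naturality := by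
      intro V W f
      ext s
      exact (map_extHom_gr j F f.unop s).symm }⟩
  naturality F G φ := by
    ext V s
    exact (hom_extHom_gr j φ V.unop s).symm

theorem sigma_app (F : EtCoh.Ab U) (V : U.Etale) (s : EtCoh.sect F V) :
    ((sigma j).app F).hom.app (op V) s = extHom F (gr j V) (isClopen_gr j V) s := rfl

/-- The natural map `j_! → j_*`. -/
noncomputable def tau : EtShriek.extZero j ⟶ EtCoh.push j where
  app F := ((EtShriek.extZeroAdj j).homEquiv _ _).symm ((sigma j).app F)
  naturality F G φ := by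
    apply ((EtShriek.extZeroAdj j).homEquiv _ _).injective
    rw [Adjunction.homEquiv_naturality_left, Adjunction.homEquiv_naturality_right]
    simp only [Equiv.apply_symm_apply]
    exact (sigma j).naturality φ

theorem unit_tau (F : EtCoh.Ab U) :
    (EtShriek.extZeroAdj j).unit.app F ≫ (EtShriek.restrAlong j).map ((tau j).app F) =
      (sigma j).app F := by
  refine (Adjunction.homEquiv_unit (EtShriek.extZeroAdj j) _ _ _).symm.trans ?_
  exact Equiv.apply_symm_apply _ _

end Map

section Eval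

open Groth.Agent.Etbase.StalkPull

variable {U X : Scheme.{u}} (j : U ⟶ X) {Ω : Type u} [Field Ω] [IsSepClosed Ω]

/-- the evaluation map `(j_* F)_{j ∘ u} → F_u`. -/
noncomputable def evPush (u : Spec (CommRingCat.of Ω) ⟶ U) :
    EtCoh.push j ⋙ EtCoh.stalk (u ≫ j) ⟶ EtCoh.stalk u :=
  fiberMap (EtCoh.bc j) (Scheme.pointSmallEtale u) (Scheme.pointSmallEtale (u ≫ j))
    (fiberIso j u).hom

theorem evPush_germ (u : Spec (CommRingCat.of Ω) ⟶ U) (F : EtCoh.Ab U)
    (W : X.Etale) (x : (Scheme.pointSmallEtale (u ≫ j)).fiber.obj W)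
    (s : EtCoh.sect F ((EtCoh.bc j).obj W)) :
    (evPush j u).app F (germ (u ≫ j) ((EtCoh.push j).obj F) x s) =
      germ u F ((fiberIso j u).hom.app W x) s :=
  ConcreteCategory.congr_hom (toPresheafFiber_fiberMap (EtCoh.bc j) (Scheme.pointSmallEtale u)
    (Scheme.pointSmallEtale (u ≫ j)) (fiberIso j u).hom F W x) s

end Eval

section Stalk

open Groth.Agent.Etbase.StalkPull

variable {U X : Scheme.{u}} (j : U ⟶ X) [AlgebraicGeometry.Etale j] [EtShriek.JCont j]
  {Ω : Type u} [Field Ω] [IsSepClosed Ω]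

theorem stalkToExtZero_germ (ξ : Spec (CommRingCat.of Ω) ⟶ X) (u : Spec (CommRingCat.of Ω) ⟶ U)
    (hu : u ≫ j = ξ) (F : EtCoh.Ab U) (V : U.Etale) (x : (Scheme.pointSmallEtale u).fiber.obj V)
    (s : EtCoh.sect F V) :
    (stalkToExtZero j ξ u hu).app F (germ u F x s) =
      germ ξ ((EtShriek.extZero j).obj F) ((Groth.Agent.Etcore.ShriekStalk.fiberHom j ξ u hu).app V x)
        (((EtShriek.extZeroAdj j).unit.app F).hom.app (op V) s) :=
  ConcreteCategory.congr_hom (toPresheafFiber_toFiberShriek (EtShriek.compEtale j)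
    (Scheme.pointSmallEtale ξ) (Scheme.pointSmallEtale u)
    (Groth.Agent.Etcore.ShriekStalk.fiberHom j ξ u hu) F V x) s

variable [IsSeparated j]

theorem vanishesAt_extHom (F : EtCoh.Ab U) (V : U.Etale) (s : EtCoh.sect F V)
    (p : ((EtCoh.bc j).obj ((EtShriek.compEtale j).obj V)).left)
    (hp : p ∉ Set.range (gr j V).left) :
    Groth.Agent.Etbase.EtSections.VanishesAt F _ (extHom F (gr j V) (isClopen_gr j V) s) p := by
  let P := (EtCoh.bc j).obj ((EtShriek.compEtale j).obj V)
  let O : P.left.Opens := ⟨(Set.range (gr j V).left)ᶜ, (isClopen_gr j V).closed.isOpen_compl⟩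
  have hp' : p ∈ Set.range (openHom P O).left := by
    rw [range_openHom]; exact hp
  obtain ⟨v, hv⟩ := hp'
  refine ⟨openObj P O, openHom P O, v, hv, map_extHom_of_disjoint _ _ _ _ _ ?_⟩
  rw [range_openHom]
  exact disjoint_compl_left

set_option backward.isDefEq.respectTransparency.types false in
theorem fiberIso_fiberHom_self (u : Spec (CommRingCat.of Ω) ⟶ U) (V : U.Etale)
    (x : (Scheme.pointSmallEtale u).fiber.obj V) :
    (fiberIso j u).hom.app ((EtShriek.compEtale j).obj V)
      ((Groth.Agent.Etcore.ShriekStalk.fiberHom j (u ≫ j) u rfl).app V x) =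
    (Scheme.pointSmallEtale u).fiber.map (gr j V) x := by
  change Over.mk u ⟶ (Scheme.Etale.forget U).obj V at x
  have w : x.left ≫ V.hom = u := Over.w x
  apply Over.OverMorphism.ext
  apply pullback.hom_ext
  · refine (pullback.lift_fst _ _ _).trans ?_
    refine Eq.trans ?_ (Category.assoc _ _ _).symm
    exact ((congrArg (x.left ≫ ·) (gr_fst j V)).trans (Category.comp_id _)).symm
  · refine (pullback.lift_snd _ _ _).trans ?_
    refine Eq.trans ?_ (Category.assoc _ _ _).symm
    exact ((congrArg (x.left ≫ ·) (gr_snd j V)).trans w).symm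

theorem eval_self (u : Spec (CommRingCat.of Ω) ⟶ U) (F : EtCoh.Ab U) :
    (stalkToExtZero j (u ≫ j) u rfl).app F ≫ (EtCoh.stalk (u ≫ j)).map ((tau j).app F) ≫
      (evPush j u).app F = 𝟙 _ := by
  ext z
  obtain ⟨V, x, s, rfl⟩ := exists_germ u F z
  have h1 := stalkToExtZero_germ j (u ≫ j) u rfl F V x s
  have h2 := germ_map (u ≫ j) ((tau j).app F)
    ((Groth.Agent.Etcore.ShriekStalk.fiberHom j (u ≫ j) u rfl).app V x)
    (((EtShriek.extZeroAdj j).unit.app F).hom.app (op V) s)
  have h3 : ((tau j).app F).hom.app (op ((EtShriek.compEtale j).obj V))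
      (((EtShriek.extZeroAdj j).unit.app F).hom.app (op V) s) =
        extHom F (gr j V) (isClopen_gr j V) s := by
    have := congrArg (fun k => k.hom.app (op V) s) (unit_tau j F)
    exact this
  have h4 := evPush_germ j u F ((EtShriek.compEtale j).obj V)
    ((Groth.Agent.Etcore.ShriekStalk.fiberHom j (u ≫ j) u rfl).app V x)
    (extHom F (gr j V) (isClopen_gr j V) s)
  have h5 := germ_res u (F := F) (gr j V) x (extHom F (gr j V) (isClopen_gr j V) s)
  rw [map_extHom] at h5
  change (evPush j u).app F ((EtCoh.stalk (u ≫ j)).map ((tau j).app F)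
    ((stalkToExtZero j (u ≫ j) u rfl).app F (germ u F x s))) = germ u F x s
  rw [h1, h2, h3, h4, h5, fiberIso_fiberHom_self]

set_option backward.isDefEq.respectTransparency.types false in
theorem eq_of_factor (u u' : Spec (CommRingCat.of Ω) ⟶ U) (hu : u' ≫ j = u ≫ j) (V : U.Etale)
    (x : (Scheme.pointSmallEtale u').fiber.obj V) (y : (Scheme.pointSmallEtale u).fiber.obj V)
    (h : (Scheme.pointSmallEtale u).fiber.map (gr j V) y =
      (fiberIso j u).hom.app ((EtShriek.compEtale j).obj V)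
      ((Groth.Agent.Etcore.ShriekStalk.fiberHom j (u ≫ j) u' hu).app V x)) : u' = u := by
  change Over.mk u' ⟶ (Scheme.Etale.forget U).obj V at x
  change Over.mk u ⟶ (Scheme.Etale.forget U).obj V at y
  have w : x.left ≫ V.hom = u' := Over.w x
  have w' : y.left ≫ V.hom = u := Over.w y
  have h1 : y.left ≫ (gr j V).left = pullback.lift x.left u (by
      have : x.left ≫ V.hom ≫ j = u' ≫ j := by rw [← Category.assoc, w]
      exact this.trans hu) := congrArg (fun k : Over.mk u ⟶
      (Scheme.Etale.forget U).obj ((EtCoh.bc j).obj ((EtShriek.compEtale j).obj V)) => k.left) h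
  have h2 : y.left = x.left := by
    refine ((congrArg (y.left ≫ ·) (gr_fst j V)).trans (Category.comp_id _)).symm.trans ?_
    refine (Category.assoc _ _ _).symm.trans ?_
    exact (congrArg (· ≫ pullback.fst (V.hom ≫ j) j) h1).trans (pullback.lift_fst _ _ _)
  rw [← w, ← w', h2]

theorem eval_ne (u u' : Spec (CommRingCat.of Ω) ⟶ U) (hu : u' ≫ j = u ≫ j) (hne : u' ≠ u)
    (F : EtCoh.Ab U) :
    (stalkToExtZero j (u ≫ j) u' hu).app F ≫ (EtCoh.stalk (u ≫ j)).map ((tau j).app F) ≫
      (evPush j u).app F = 0 := by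
  ext z
  obtain ⟨V, x, s, rfl⟩ := exists_germ u' F z
  have h1 := stalkToExtZero_germ j (u ≫ j) u' hu F V x s
  have h2 := germ_map (u ≫ j) ((tau j).app F)
    ((Groth.Agent.Etcore.ShriekStalk.fiberHom j (u ≫ j) u' hu).app V x)
    (((EtShriek.extZeroAdj j).unit.app F).hom.app (op V) s)
  have h3 : ((tau j).app F).hom.app (op ((EtShriek.compEtale j).obj V))
      (((EtShriek.extZeroAdj j).unit.app F).hom.app (op V) s) =
        extHom F (gr j V) (isClopen_gr j V) s := by
    have := congrArg (fun k => k.hom.app (op V) s) (unit_tau j F)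
    exact this
  have h4 := evPush_germ j u F ((EtShriek.compEtale j).obj V)
    ((Groth.Agent.Etcore.ShriekStalk.fiberHom j (u ≫ j) u' hu).app V x)
    (extHom F (gr j V) (isClopen_gr j V) s)
  change (evPush j u).app F ((EtCoh.stalk (u ≫ j)).map ((tau j).app F)
    ((stalkToExtZero j (u ≫ j) u' hu).app F (germ u' F x s))) = 0
  rw [h1, h2, h3, h4]
  refine (Groth.Agent.Etbase.EtSections.germ_eq_zero_iff u F _ _ _).2 ?_
  apply vanishesAt_extHom
  rintro ⟨v, hv⟩
  obtain ⟨y, hy, -⟩ := Groth.Agent.Etbase.EtSections.exists_lift_fiber u (gr j V) _ v hv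
  exact hne (eq_of_factor j u u' hu V x y hy)

/-- evaluation with an equality. -/
noncomputable def evPush' (ξ : Spec (CommRingCat.of Ω) ⟶ X) (u : Spec (CommRingCat.of Ω) ⟶ U)
    (hu : u ≫ j = ξ) (F : EtCoh.Ab U) :
    (EtCoh.stalk ξ).obj ((EtCoh.push j).obj F) ⟶ (EtCoh.stalk u).obj F := by
  subst hu
  exact (evPush j u).app F

theorem eval_self' (ξ : Spec (CommRingCat.of Ω) ⟶ X) (u : Spec (CommRingCat.of Ω) ⟶ U)
    (hu : u ≫ j = ξ) (F : EtCoh.Ab U) :
    (stalkToExtZero j ξ u hu).app F ≫ (EtCoh.stalk ξ).map ((tau j).app F) ≫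
      evPush' j ξ u hu F = 𝟙 _ := by
  subst hu
  exact eval_self j u F

theorem eval_ne' (ξ : Spec (CommRingCat.of Ω) ⟶ X) (u u' : Spec (CommRingCat.of Ω) ⟶ U)
    (hu : u ≫ j = ξ) (hu' : u' ≫ j = ξ) (hne : u' ≠ u) (F : EtCoh.Ab U) :
    (stalkToExtZero j ξ u' hu').app F ≫ (EtCoh.stalk ξ).map ((tau j).app F) ≫
      evPush' j ξ u hu F = 0 := by
  subst hu
  exact eval_ne j u u' hu' hne F

theorem mono_stalk_tau (ξ : Spec (CommRingCat.of Ω) ⟶ X) (F : EtCoh.Ab U) :
    Function.Injective ((EtCoh.stalk ξ).map ((tau j).app F)) := by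
  rw [injective_iff_map_eq_zero]
  intro z hz
  refine eq_zero_of_coord (isColimitStalkExtZero j ξ F)
    (fun u => (EtCoh.stalk ξ).map ((tau j).app F) ≫ evPush' j ξ u.1 u.2 F)
    (fun u => eval_self' j ξ u.1 u.2 F) (fun u u' hne => eval_ne' j ξ u.1 u'.1 u.2 u'.2
      (fun h => hne (Subtype.ext h)) F) z (fun u => ?_)
  change evPush' j ξ u.1 u.2 F ((EtCoh.stalk ξ).map ((tau j).app F) z) = 0
  rw [hz, map_zero]

theorem mono_tau (F : EtCoh.Ab U) : Mono ((tau j).app F) := by
  rw [mono_iff_stalks]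
  intro Ω _ _ ξ
  exact mono_stalk_tau j ξ F

end Stalk

end Groth.Agent.Etcore.ShriekToPush
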