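import Groth.Agent.Etcore.GmFun
import Groth.Agent.Sga4B.KummerH1
import Groth.Agent.S0108

/-!
# The morphism `ℤ/n ⟶ G_m` attached to a root of unity and the Kummer classes

* `zmap n z hz : const X (ZMod n) ⟶ Gm X`, `zmap_nat`;
* `shortExact_zeta`: exactness of `0 → ℤ/n → G_m → G_m → 0` for a primitive root of unity;
* `kap σ hζ hn hnK : Additive Γ(X, ⊤)ˣ →+ H^1(X, ℤ/n)`: Kummer class; naturality `HC_kap`;
  `kap_pow`; `exists_kap_eq`: a class dying in `H^1(X, G_m)` is a Kummer class.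
-/

set_option autoImplicit false
universe u
open CategoryTheory CategoryTheory.Limits AlgebraicGeometry Opposite Abelian
open scoped Groth.Agent.Etcore.EtInst Groth.Agent.Etcore.HC
open Groth.Agent.Etcore.EtInst Groth.Agent.Etcore.PullCoh Groth.Agent.Etcore.HpullCalc
open Groth.Agent.Etcore.HC Groth.Agent.Etcore.GmFun
open Groth.Agent.CurvesA.MuConst (unitOf ofUnit unitOf_injective unitOf_nsmul unitOf_ofUnit)

namespace Groth.Agent.Etcore.ZetaMap

variable {W X Y Z : Scheme.{u}}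

section Map

variable (n : ℕ)

theorem nsmul_ofUnit (z : (Γ(X, ⊤))ˣ) (hz : z ^ n = 1) :
    n • (ofUnit (X := X) (U := EtCoh.top X) z) = 0 := by
  apply unitOf_injective
  rw [unitOf_nsmul]
  exact hz

/-- The homomorphism `ℤ/n → G_m(X)` attached to a global unit. -/
noncomputable def zsec (z : (Γ(X, ⊤))ˣ) (hz : z ^ n = 1) :
    ZMod n →+ EtCoh.sect (EtCoh.Gm X) (EtCoh.top X) :=
  ZMod.lift n ⟨zmultiplesHom _ (ofUnit (X := X) (U := EtCoh.top X) z), by
    simpa using nsmul_ofUnit n z hz⟩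

theorem zsec_natCast (z : (Γ(X, ⊤))ˣ) (hz : z ^ n = 1) (k : ℕ) :
    zsec n z hz (k : ZMod n) = k • (ofUnit (X := X) (U := EtCoh.top X) z) := by
  have := ZMod.lift_coe n (⟨zmultiplesHom _ (ofUnit (X := X) (U := EtCoh.top X) z), by
    simpa using nsmul_ofUnit n z hz⟩ : {f : ℤ →+ EtCoh.sect (EtCoh.Gm X) (EtCoh.top X) // f n = 0})
      (k : ℤ)
  rw [zsec]
  simpa using this

/-- The homomorphism `zsec` in the category of large abelian groups. -/
noncomputable def zhom (z : (Γ(X, ⊤))ˣ) (hz : z ^ n = 1) :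
    AddCommGrpCat.of (ULift.{u + 1} (ZMod n)) ⟶ (EtCore.gsec X).obj (EtCoh.Gm X) :=
  AddCommGrpCat.ofHom ((zsec n z hz).comp AddEquiv.ulift.toAddMonoidHom)

/-- The morphism `ℤ/n ⟶ G_m` attached to a global unit. -/
noncomputable def zmap (z : (Γ(X, ⊤))ˣ) (hz : z ^ n = 1) : EtCoh.const X (ZMod n) ⟶ EtCoh.Gm X :=
  ((EtCore.constAdj X).homEquiv _ _).symm (zhom n z hz)

theorem zmap_cst (z : (Γ(X, ⊤))ˣ) (hz : z ^ n = 1) (m : ULift.{u + 1} (ZMod n)) :
    (zmap n z hz).hom.app (op (EtCoh.top X)) (cst X (ZMod n) m) = zsec n z hz m.down := by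
  have h := ((EtCore.constAdj X).homEquiv _ _).apply_symm_apply (zhom n z hz)
  rw [Adjunction.homEquiv_unit] at h
  exact congrArg (fun k => k.hom m) h

variable [NeZero n]

theorem zmap_nat (f : X ⟶ Y) (z : (Γ(Y, ⊤))ˣ) (hz : z ^ n = 1) (z' : (Γ(X, ⊤))ˣ)
    (hz' : z' ^ n = 1) (h : (z' : Γ(X, ⊤)) = f.appTop.hom (z : Γ(Y, ⊤))) :
    (EtCore.pullConst f (ZMod n)).hom ≫ zmap n z' hz' =
      (EtCoh.pull f).map (zmap n z hz) ≫ gmp f := by
  refine pull_const_hom_ext f _ _ fun m => ?_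
  rw [map_comp_app, map_comp_app, pullConst_unit, map_res, zmap_cst, eta_map, zmap_cst, gmp_eta]
  obtain ⟨k, hk⟩ : ∃ k : ℕ, (k : ZMod n) = m.down := ⟨m.down.val, ZMod.natCast_zmod_val _⟩
  rw [← hk, zsec_natCast, zsec_natCast, map_nsmul, map_nsmul]
  congr 1
  apply unitOf_injective
  apply Units.ext
  rw [unitOf_map', unitOf_gmUnit]
  let t : pullback (𝟙 Y) f ⟶ X := (toTop ((EtCoh.bc f).obj (EtCoh.top Y))).left
  have h2 : t = pullback.snd (𝟙 Y) f :=
    (Category.comp_id _).symm.trans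
      (MorphismProperty.Over.w (toTop ((EtCoh.bc f).obj (EtCoh.top Y))))
  have h1 : t ≫ f = pullback.fst (𝟙 Y) f := by
    rw [h2, ← pullback.condition, Category.comp_id]
  have h4 : t.appTop.hom (z' : Γ(X, ⊤)) = (pullback.fst (𝟙 Y) f).appTop.hom (z : Γ(Y, ⊤)) := by
    rw [h, ← h1, Scheme.Hom.comp_appTop]
    rfl
  exact h4

end Map

section Field

open Groth.Agent.CurvesA.MuConst (powMap_app muι_app_injective nsmul_mu unitOf_zero openSub
  openSubι exists_open_eq_pow)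

variable {K : Type u} [Field K] (n : ℕ) [NeZero n] {ζ : K} (hζ : IsPrimitiveRoot ζ n)
  (σ : K →+* Γ(X, ⊤))

/-- The global unit attached to a root of unity of the base field. -/
noncomputable def zu : (Γ(X, ⊤))ˣ := Units.map σ.toMonoidHom (hζ.isUnit (NeZero.ne n)).unit

theorem zu_val : ((zu n hζ σ : (Γ(X, ⊤))ˣ) : Γ(X, ⊤)) = σ ζ := rfl

theorem zu_pow : (zu n hζ σ) ^ n = 1 := by
  rw [zu, ← map_pow]
  have : (hζ.isUnit (NeZero.ne n)).unit ^ n = 1 := by
    ext
    rw [Units.val_pow_eq_pow_val, IsUnit.unit_spec, hζ.pow_eq_one, Units.val_one]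
  rw [this, map_one]

/-- `ℤ/n ⟶ G_m` for a root of unity of the base field. -/
noncomputable abbrev zm : EtCoh.const X (ZMod n) ⟶ EtCoh.Gm X := zmap n (zu n hζ σ) (zu_pow n hζ σ)

omit [NeZero n] in
theorem zmap_powMap (z : (Γ(X, ⊤))ˣ) (hz : z ^ n = 1) :
    zmap n z hz ≫ EtCoh.powMap X n = 0 := by
  refine const_hom_ext _ _ fun m => ?_
  rw [map_comp_app, zmap_cst, powMap_app, ← map_nsmul]
  have : n • m.down = 0 := by rw [nsmul_eq_mul, ZMod.natCast_self, zero_mul]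
  rw [this, map_zero]
  rfl

/-- `ℤ/n ⟶ μ_n`. -/
noncomputable def zmu : EtCoh.const X (ZMod n) ⟶ EtCoh.mu X n :=
  kernel.lift (EtCoh.powMap X n) (zm n hζ σ) (zmap_powMap n _ _)

theorem zmu_muι : zmu n hζ σ ≫ EtCoh.muι X n = zm n hζ σ := kernel.lift_ι _ _ _

/-- The structure map on an etale scheme. -/
noncomputable def sg (U : X.Etale) : K →+* Γ(U.left, ⊤) :=
  ((toTop U).left.appTop.hom : Γ((EtCoh.top X).left, ⊤) →+* Γ(U.left, ⊤)).comp σ

theorem sg_map {U V : X.Etale} (g : V ⟶ U) (a : K) :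
    g.left.appTop.hom (sg σ U a) = sg σ V a := by
  have h : g ≫ toTop U = toTop V := toTop_ext _ _
  have h2 : (toTop V).left.appTop = (toTop U).left.appTop ≫ g.left.appTop := by
    rw [← h]
    exact Scheme.Hom.comp_appTop g.left (toTop U).left
  have h3 := congrArg (fun k => k.hom (σ a)) h2
  exact h3.symm

theorem zmu_val (U : X.Etale) (k : ℕ) : ((unitOf ((EtCoh.muι X n).hom.app (op U)
      ((EtCoh.mu X n).obj.map (toTop U).op
        ((zmu n hζ σ).hom.app _ (cst X (ZMod n) ⟨(k : ZMod n)⟩)))) : (Γ(U.left, ⊤))ˣ) :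
          Γ(U.left, ⊤)) = sg σ U (ζ ^ k) := by
  rw [map_res, ← map_comp_app, zmu_muι, zmap_cst, zsec_natCast, map_nsmul, unitOf_nsmul,
    Units.val_pow_eq_pow_val, unitOf_map', unitOf_ofUnit, zu_val, map_pow]
  rfl

include hζ in
theorem isIso_zmu (hn : (n : K) ≠ 0) : IsIso (zmu n hζ σ : EtCoh.const X (ZMod n) ⟶ _) := by
  refine isIso_of_cst _ ?_ ?_
  · intro U hU m hm
    obtain ⟨k, rfl⟩ : ∃ k : ℕ, (k : ZMod n) = m := ⟨m.val, ZMod.natCast_zmod_val m⟩
    have h1 := zmu_val n hζ σ U k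
    rw [hm, map_zero, unitOf_zero, Units.val_one] at h1
    have : Nontrivial Γ(U.left, ⊤) := by
      obtain ⟨x⟩ := hU
      exact RingHom.domain_nontrivial (U.left.presheaf.germ ⊤ x trivial).hom
    have h2 : (1 : K) = ζ ^ k := (sg σ U).injective (by rw [map_one]; exact h1)
    rw [ZMod.natCast_eq_zero_iff]
    exact (hζ.pow_eq_one_iff_dvd k).1 h2.symm
  · intro U t' x
    set a := unitOf ((EtCoh.muι X n).hom.app (op U) t') with ha
    have han : ((a : (Γ(U.left, ⊤))ˣ) : Γ(U.left, ⊤)) ^ n = 1 := by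
      rw [← Units.val_pow_eq_pow_val, ha, ← unitOf_nsmul, ← map_nsmul, nsmul_mu, map_zero,
        unitOf_zero, Units.val_one]
    obtain ⟨V, k, hxV, hk⟩ := exists_open_eq_pow K n hn ζ hζ U.left (sg σ U) a han x
    refine ⟨openSub U V, openSubι U V, ⟨x, hxV⟩, (k : ZMod n), rfl, ?_⟩
    apply muι_app_injective
    apply unitOf_injective
    ext
    rw [zmu_val, map_res, unitOf_map', ← sg_map σ (openSubι U V)]
    have h2 : (V.ι.appTop).hom (a : Γ(U.left, ⊤)) = (V.ι.appTop).hom (sg σ U (ζ ^ k)) := by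
      have h3 : V.ι.appTop = U.left.presheaf.map (homOfLE (le_top (a := V))).op ≫
          U.left.presheaf.map (homOfLE (by simp : V.ι ''ᵁ ⊤ ≤ V)).op := by
        rw [← Functor.map_comp]
        rfl
      rw [h3]
      exact congrArg (U.left.presheaf.map (homOfLE (by simp : V.ι ''ᵁ ⊤ ≤ V)).op).hom hk
    exact h2

theorem zm_comp : zm n hζ σ ≫ (n • 𝟙 (EtCoh.Gm X)) = 0 := zmap_powMap n _ _

/-- The Kummer sequence `0 → ℤ/n → G_m → G_m → 0` over a field with a primitive `n`-th root of unity. -/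
theorem shortExact_zeta (hn : (n : K) ≠ 0) :
    (ShortComplex.mk (zm n hζ σ) (n • 𝟙 (EtCoh.Gm X)) (zm_comp n hζ σ)).ShortExact := by
  have hu : IsUnit (n : Γ(X, ⊤)) := by
    have h := (IsUnit.mk0 _ hn).map σ
    rwa [map_natCast] at h
  have h1 := Groth.Agent.Sga4B.KummerH1.kummer_shortExact X n (Groth.Agent.S0108.result X n hu)
  have hi := isIso_zmu n hζ σ hn
  let e : ShortComplex.mk (zm n hζ σ) (n • 𝟙 (EtCoh.Gm X)) (zm_comp n hζ σ) ≅
      ShortComplex.mk (EtCoh.muι X n) (n • 𝟙 (EtCoh.Gm X)) (Groth.Agent.Sga4B.KummerH1.kummer_zero X n) :=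
    ShortComplex.isoMk (asIso (zmu n hζ σ)) (Iso.refl _) (Iso.refl _)
      (by simp [zmu_muι]) (by simp)
  exact ShortComplex.shortExact_of_iso e.symm h1

end Field

end Groth.Agent.Etcore.ZetaMap
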